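import Cfsg.Agent.Lib.Recog.Fi22Cent.Bar
import Cfsg.Agent.Lib.Invol.ZStar
import Cfsg.Agent.Lib.Perm.SwappedPair
import Cfsg.Agent.Lib.Recog.U6Cent.EndComponent

/-!
`z` isolated in `C(z z₁)` and not in `C(z₁)`: then `G = C(z₁)` and has a subgroup of index two which is a
central extension of `PSU₆(2)`.
-/

set_option autoImplicit false
set_option linter.unusedSectionVars false

namespace CfsgLib.Recog.Fi22Cent

open Subgroup Cfsg

variable {G : Type*} [Group G] [Finite G] {F : Type*} [Field F] [Fintype F]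

theorem card_psu_six (hF : Fintype.card F = 4) : Nat.card (PSU 6 F 2) = 9196830720 := by
  have hF' : Fintype.card F = 2 ^ 2 := hF
  have h1 := CfsgLib.Classical.card_psu_mul hF' (n := 6) (by norm_num)
  rw [CfsgLib.Classical.card_gu hF'] at h1
  norm_num [Finset.prod_range_succ, Nat.even_iff] at h1
  omega

namespace Setup

variable (S : Setup G F)

/-- Without a swap, when `z` is not isolated in `C(z₁)`: the orders. -/
theorem index_of_u6 (hs : ¬ S.Swap) {P : Subgroup G} (hP1 : P ≤ centralizer ({S.z1} : Set G)) (hz1 : S.z1 ∈ P)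
    (π : P →* PSU 6 F 2) (hπ : Function.Surjective π) (hker : ∀ p : P, π p = 1 ↔ ((p : G) = 1 ∨ (p : G) = S.z1))
    (hidx : P.relIndex (centralizer ({S.z1} : Set G)) * 26542080 =
      Nat.card (centralizer ({S.z1} : Set G) ⊓ centralizer ({S.z} : Set G) : Subgroup G)) :
    P.relIndex (centralizer ({S.z1} : Set G)) = 2 ∧
      (centralizer ({S.z} : Set G)).relIndex (centralizer ({S.z1} : Set G)) = 693 := by
  classical
  haveI : Fact (Nat.Prime 2) := ⟨Nat.prime_two⟩
  set C := centralizer ({S.z1} : Set G)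
  rw [S.cent_inf_of_not_swap hs, S.card_H] at hidx
  have h2 : P.relIndex C = 2 := by omega
  refine ⟨h2, ?_⟩
  have ho : orderOf S.z1 = 2 := orderOf_eq_prime (by rw [pow_two, S.z1_sq]) S.z1_ne
  have hcP : Nat.card P = 18393661440 := by
    have h := card_eq_card_quotient_mul_card_subgroup π.ker
    rw [Nat.card_congr (QuotientGroup.quotientKerEquivOfSurjective π hπ).toEquiv, card_psu_six S.hF] at h
    have hk : π.ker = (zpowers S.z1).subgroupOf P := by
      ext x
      rw [MonoidHom.mem_ker, mem_subgroupOf, S.mem_zpow_z1]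
      exact hker x
    rw [hk, Nat.card_congr (subgroupOfEquivOfLe (zpowers_le.2 hz1)).toEquiv, Nat.card_zpowers, ho] at h
    rw [h]
  have hcC : Nat.card C = 36787322880 := by
    have h := (P.subgroupOf C).index_mul_card
    rw [Nat.card_congr (subgroupOfEquivOfLe hP1).toEquiv, hcP] at h
    change P.relIndex C * _ = _ at h
    rw [← h, h2]
  have hHC : centralizer ({S.z} : Set G) ≤ C := S.cent_inf_of_not_swap hs ▸ inf_le_left
  have h := ((centralizer ({S.z} : Set G)).subgroupOf C).index_mul_card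
  rw [Nat.card_congr (subgroupOfEquivOfLe hHC).toEquiv, S.card_H, hcC] at h
  change (centralizer ({S.z} : Set G)).relIndex C * _ = _ at h
  omega

/-- The second outcome. -/
theorem u6_mixed (hs : ¬ S.Swap) (h1 : ¬ S.Iso) (hu : S.U6)
    (hmixed : ∀ g, g * S.z * g⁻¹ ∈ centralizer ({S.z} : Set G) ⊓ centralizer ({S.z1} : Set G) →
      g * S.z1 * g⁻¹ = S.z1) :
    (zpowers S.z1).Normal ∧ ∃ (G₀ : Subgroup G) (hz₁ : S.z1 ∈ G₀), G₀.index = 2 ∧
      ∃ hn : ((zpowers S.z1).subgroupOf G₀).Normal,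
        Nonempty ((↥G₀ ⧸ (zpowers S.z1).subgroupOf G₀) ≃* PSU 6 F 2) := by
  classical
  haveI : Fact (Nat.Prime 2) := ⟨Nat.prime_two⟩
  obtain ⟨P, hP1, hz1P, hzP, hPn, ⟨π, hπ, hker⟩, hidx, -⟩ := hu
  obtain ⟨hP2, h693⟩ := S.index_of_u6 hs hP1 hz1P π hπ hker hidx
  set C := centralizer ({S.z1} : Set G) with hC
  set H := centralizer ({S.z} : Set G) with hH
  -- an involution of `C(z₁)` commutes with a conjugate of `z`
  have fix : ∀ t ∈ C, t * t = 1 → ∃ c ∈ C, c⁻¹ * t * c ∈ H := by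
    intro t ht htt
    set t' : C := ⟨t, ht⟩
    have h2 : IsPGroup 2 (zpowers t') := fun x => ⟨1, by
      obtain ⟨k, hk⟩ := mem_zpowers_iff.1 x.2
      apply Subtype.ext
      rw [pow_one, coe_pow, ← hk, ← zpow_natCast, ← zpow_mul, mul_comm, zpow_mul, zpow_natCast, pow_two,
        show t' * t' = 1 from Subtype.ext htt, one_zpow]
      rfl⟩
    have hnd : ¬ 2 ∣ Nat.card (C ⧸ H.subgroupOf C) := by
      rw [← index_eq_card]
      show ¬ 2 ∣ H.relIndex C
      rw [h693]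
      norm_num
    obtain ⟨q, hq⟩ := h2.nonempty_fixed_point_of_prime_not_dvd_card (C ⧸ H.subgroupOf C) hnd
    obtain ⟨c, rfl⟩ := QuotientGroup.mk_surjective q
    refine ⟨c, c.2, ?_⟩
    have h := QuotientGroup.eq.1 (hq ⟨t', mem_zpowers t'⟩ : ((t' * c : C) : C ⧸ H.subgroupOf C) = (c : C ⧸ H.subgroupOf C))
    have h' := inv_mem (mem_subgroupOf.1 h)
    simpa [mul_assoc, t'] using h'
  have conj_mem : ∀ {g x : G}, g ∈ C → x ∈ C → g * x * g⁻¹ ∈ C := fun hg hx =>
    mul_mem (mul_mem hg hx) (inv_mem hg)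
  have fixc : ∀ {c : G}, c ∈ C → c * S.z1 * c⁻¹ = S.z1 := fun hc =>
    mul_inv_eq_iff_eq_mul.2 (mem_centralizer_singleton_iff.1 hc)
  have hiso : IsIsolatedInvolution S.z1 := by
    refine ⟨orderOf_eq_prime (by rw [pow_two, S.z1_sq]) S.z1_ne, fun g hg => ?_⟩
    set d := g * S.z1 * g⁻¹ with hd
    have hdC : d ∈ C := mem_centralizer_singleton_iff.2 hg.eq.symm
    have hdd : d * d = 1 := by rw [hd]; simp [mul_assoc, S.z1_sq, ← mul_assoc S.z1]
    obtain ⟨c, hc, hcd⟩ := fix d hdC hdd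
    set g2 := c⁻¹ * g with hg2
    have hd2 : g2 * S.z1 * g2⁻¹ ∈ H := by
      rw [show g2 * S.z1 * g2⁻¹ = c⁻¹ * d * c by rw [hg2, hd]; group]; exact hcd
    have htC : g2⁻¹ * S.z * g2 ∈ C := mem_centralizer_singleton_iff.2 <| by
      calc g2⁻¹ * S.z * g2 * S.z1 = g2⁻¹ * (S.z * (g2 * S.z1 * g2⁻¹)) * g2 := by group
        _ = S.z1 * (g2⁻¹ * S.z * g2) := by rw [← mem_centralizer_singleton_iff.1 hd2]; group
    obtain ⟨c2, hc2, hc2t⟩ := fix _ htC (by
      rw [show g2⁻¹ * S.z * g2 * (g2⁻¹ * S.z * g2) = g2⁻¹ * (S.z * S.z) * g2 by group, S.z_sq]; group)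
    have hm : c2⁻¹ * g2⁻¹ * S.z * (c2⁻¹ * g2⁻¹)⁻¹ ∈ H ⊓ C := by
      have e : c2⁻¹ * g2⁻¹ * S.z * (c2⁻¹ * g2⁻¹)⁻¹ = c2⁻¹ * (g2⁻¹ * S.z * g2) * c2 := by group
      rw [e]
      exact mem_inf.2 ⟨hc2t, mul_mem (mul_mem (inv_mem hc2) htC) hc2⟩
    have h3 := hmixed _ hm
    have h4 : g2⁻¹ * S.z1 * g2 = S.z1 := by
      calc g2⁻¹ * S.z1 * g2 = c2 * (c2⁻¹ * g2⁻¹ * S.z1 * (c2⁻¹ * g2⁻¹)⁻¹) * c2⁻¹ := by group
        _ = S.z1 := by rw [h3, fixc hc2]
    have h5 : g2 * S.z1 * g2⁻¹ = S.z1 := by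
      conv_lhs => rw [← h4]
      group
    calc d = c * (g2 * S.z1 * g2⁻¹) * c⁻¹ := by rw [hd, hg2]; group
      _ = S.z1 := by rw [h5, fixc hc]
  have hsup := CfsgLib.Perm.SwappedPair.sup_oddCore_eq_top hiso
  set O := oddCore G with hO
  haveI hOn : O.Normal := inferInstance
  have hOodd : Odd (Nat.card O) := CfsgLib.Invol.odd_card_oddCore G
  have hOH : O ⊓ H = ⊥ := by
    refine S.no_odd _ inf_le_right (Odd.of_dvd_nat hOodd (card_dvd_of_le inf_le_left)) fun j hj x hx => ?_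
    obtain ⟨hx1, hx2⟩ := mem_inf.1 hx
    exact mem_inf.2 ⟨hOn.conj_mem x hx1 j, mul_mem (mul_mem (S.J_cent hj) hx2) (inv_mem (S.J_cent hj))⟩
  have hinv : ∀ x ∈ O, S.z * x * S.z⁻¹ = x⁻¹ := by
    intro x hx
    have hfp : MonoidHom.FixedPointFree (MulAut.conjNormal S.z : MulAut O) := fun u hu => by
      have e : S.z * (u : G) * S.z⁻¹ = u := congrArg Subtype.val hu
      have hu' : (u : G) ∈ O ⊓ H := mem_inf.2 ⟨u.2, mem_centralizer_singleton_iff.2
        (mul_inv_eq_iff_eq_mul.1 e).symm⟩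
      rw [hOH, mem_bot] at hu'
      exact Subtype.ext hu'
    have h := congrFun (hfp.coe_eq_inv_of_involutive fun u => Subtype.ext (by
      rw [MulAut.conjNormal_apply, MulAut.conjNormal_apply, S.z_inv]
      simp only [mul_assoc, S.z_sq, mul_one]
      rw [← mul_assoc, S.z_sq, one_mul])) ⟨x, hx⟩
    have := congrArg Subtype.val h
    rwa [MulAut.conjNormal_apply] at this
  set M := centralizer (O : Set G)
  haveI : M.Normal := inferInstance
  -- a member of `C(O)` in `P` outside `⟨z₁⟩`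
  obtain ⟨a, haC, hae, hane⟩ : ∃ a, a ∈ C ∧ Commute (a * S.z * a⁻¹) S.z ∧ a * S.z * a⁻¹ ≠ S.z := by
    simpa [Iso, hC] using h1
  set m := S.z * (a * S.z * a⁻¹) with hm
  have hzC : S.z ∈ C := S.z_cent1
  have hmP : m ∈ P := mul_mem hzP (hPn a haC _ hzP)
  have hmM : m ∈ M := by
    refine mem_centralizer_iff.2 fun x hx => ?_
    have h' : a * S.z * a⁻¹ * x * (a * S.z * a⁻¹)⁻¹ = x⁻¹ := by
      have hy : a⁻¹ * x * a ∈ O := by simpa using hOn.conj_mem x hx a⁻¹
      calc a * S.z * a⁻¹ * x * (a * S.z * a⁻¹)⁻¹ = a * (S.z * (a⁻¹ * x * a) * S.z⁻¹) * a⁻¹ := by group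
        _ = x⁻¹ := by rw [hinv _ hy]; group
    have h'' : m * x * m⁻¹ = x := by
      calc m * x * m⁻¹ = S.z * (a * S.z * a⁻¹ * x * (a * S.z * a⁻¹)⁻¹) * S.z⁻¹ := by rw [hm]; group
        _ = x := by rw [h', hinv _ (inv_mem hx), inv_inv]
    exact (mul_inv_eq_iff_eq_mul.1 h'').symm
  have hπm : π ⟨m, hmP⟩ ≠ 1 := fun h => by
    rcases (hker _).1 h with e | e
    · exact hane (by rw [← inv_eq_of_mul_eq_one_right e, S.z_inv])
    · refine S.not_conj' (isConj_iff.2 ⟨a, ?_⟩)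
      calc a * S.z * a⁻¹ = S.z * (S.z * (a * S.z * a⁻¹)) := by rw [← mul_assoc, S.z_sq, one_mul]
        _ = S.z * S.z1 := congrArg (S.z * ·) e
  have hcover : ∀ p ∈ P, ∃ u ∈ M, ∃ w, (w = 1 ∨ w = S.z1) ∧ p = u * w := by
    haveI : IsSimpleGroup (PSU 6 F 2) :=
      CfsgLib.Classical.isSimpleGroup_psu (show Fintype.card F = 2 ^ 2 from S.hF) (n := 6) (by norm_num) (by norm_num)
    have hn : ((M.subgroupOf P).map π).Normal := Subgroup.Normal.map inferInstance _ hπ
    rcases hn.eq_bot_or_eq_top with h | h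
    · have := mem_map_of_mem π (show (⟨m, hmP⟩ : P) ∈ M.subgroupOf P from hmM)
      rw [h, mem_bot] at this
      exact absurd this hπm
    · intro p hp
      obtain ⟨u, hu, e⟩ := (h ▸ mem_top (π ⟨p, hp⟩) : π ⟨p, hp⟩ ∈ (M.subgroupOf P).map π)
      refine ⟨u, hu, (u : G)⁻¹ * p, ?_, by group⟩
      exact (hker (u⁻¹ * ⟨p, hp⟩)).1 (by rw [map_mul, map_inv, e, inv_mul_cancel])
  have hzM : S.z ∈ M := by
    have hidx' : P.relIndex S.J ≤ 2 := by
      have := relIndex_le_of_le_right (H := P) (show S.J ≤ C from fun x hx => S.K_cent (S.J_le hx))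
        (by rw [hP2]; norm_num)
      omega
    have hc512 : 512 ≤ Nat.card (S.J ⊓ P : Subgroup G) := by
      have h := ((S.J ⊓ P).subgroupOf S.J).index_mul_card
      rw [Nat.card_congr (subgroupOfEquivOfLe (inf_le_left : S.J ⊓ P ≤ S.J)).toEquiv, S.card_J] at h
      change (S.J ⊓ P).relIndex S.J * _ = _ at h
      rw [inf_relIndex_left] at h
      nlinarith
    by_contra hzM
    refine S.not_abelian_half _ inf_le_left hc512 fun x hx y hy => ?_
    rcases S.comm_or x (mem_inf.1 hx).1 y (mem_inf.1 hy).1 with e | e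
    · exact e
    exfalso
    obtain ⟨u, hu, w, hw, rfl⟩ := hcover x (mem_inf.1 hx).2
    obtain ⟨v, hv, w', hw', rfl⟩ := hcover y (mem_inf.1 hy).2
    have hwc : ∀ {k r : G}, (k = 1 ∨ k = S.z1) → r ∈ C → r * k = k * r := fun hk hr => by
      rcases hk with rfl | rfl
      · rw [mul_one, one_mul]
      · exact mem_centralizer_singleton_iff.1 hr
    have hxC : u * w ∈ C := hP1 (mem_inf.1 hx).2
    have hyC : v * w' ∈ C := hP1 (mem_inf.1 hy).2
    have hwC : ∀ {k : G}, (k = 1 ∨ k = S.z1) → k ∈ C := fun hk => by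
      rcases hk with rfl | rfl
      exacts [one_mem _, mem_centralizer_singleton_iff.2 rfl]
    have huC : u ∈ C := by
      have := mul_mem hxC (inv_mem (hwC hw))
      rwa [mul_inv_cancel_right] at this
    have hvC : v ∈ C := by
      have := mul_mem hyC (inv_mem (hwC hw'))
      rwa [mul_inv_cancel_right] at this
    apply hzM
    have hz' : S.z = (v * w' * (u * w))⁻¹ * (u * w * (v * w')) := by rw [e, inv_mul_cancel_left]
    rw [show u * w * (v * w') = u * v * (w * w') by rw [mul_assoc u w, ← mul_assoc w v, ← hwc hw hvC]; group,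
      show v * w' * (u * w) = v * u * (w * w') by
        rw [mul_assoc v w', ← mul_assoc w' u, ← hwc hw' huC, mul_assoc u w', hwc hw (hwC hw')]; group] at hz'
    have hz'' : S.z = (w * w')⁻¹ * ((v * u)⁻¹ * (u * v)) * (w * w') := by rw [hz']; group
    rw [hz'']
    have h0 : (v * u)⁻¹ * (u * v) ∈ M := mul_mem (inv_mem (mul_mem hv hu)) (mul_mem hu hv)
    simpa using Subgroup.Normal.conj_mem inferInstance _ h0 (w * w')⁻¹
  have hObot : O = ⊥ := eq_bot_iff.2 fun x hx => by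
    have h := hinv x hx
    rw [← mem_centralizer_iff.1 hzM x hx, mul_inv_cancel_right] at h
    have hxx : (⟨x, hx⟩ : O) ^ 2 = 1 := Subtype.ext (by
      rw [coe_pow, pow_two]
      show x * x = 1
      conv_lhs => arg 1; rw [h]
      exact inv_mul_cancel x)
    have h1 : orderOf (⟨x, hx⟩ : O) = 1 := by
      have hd := orderOf_dvd_of_pow_eq_one hxx
      have hc := orderOf_dvd_natCard (⟨x, hx⟩ : O)
      exact Nat.eq_one_of_dvd_coprimes (Nat.coprime_two_left.2 hOodd) hd hc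
    exact mem_bot.2 (congrArg Subtype.val (orderOf_eq_one_iff.1 h1))
  rw [hObot, sup_bot_eq] at hsup
  refine ⟨⟨fun x hx g => ?_⟩, P, hz1P, ?_, ?_⟩
  · obtain ⟨k, rfl⟩ := mem_zpowers_iff.1 hx
    refine mem_zpowers_iff.2 ⟨k, ?_⟩
    have hg : g ∈ C := by rw [hC, hsup]; exact mem_top g
    have hgc : Commute g S.z1 := mem_centralizer_singleton_iff.1 hg
    rw [(hgc.zpow_right k).eq, mul_inv_cancel_right]
  · rw [← relIndex_top_right, ← hsup]; exact hP2
  · have hk : π.ker = (zpowers S.z1).subgroupOf P := by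
      ext x
      rw [MonoidHom.mem_ker, mem_subgroupOf, S.mem_zpow_z1]
      exact hker x
    have hn : ((zpowers S.z1).subgroupOf P).Normal := hk ▸ inferInstance
    exact ⟨hn, ⟨(QuotientGroup.quotientMulEquivOfEq hk.symm).trans
      (QuotientGroup.quotientKerEquivOfSurjective π hπ)⟩⟩

end Setup

end CfsgLib.Recog.Fi22Cent
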