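import Cfsg.Agent.Lib.Recog.Fi22Cent.BranchBoth
import Cfsg.Agent.Lib.Recog.Fi22Cent.BranchMixed
import Cfsg.Agent.Lib.Perm.SwappedPair
import Cfsg.Prelude.Def_Spor_Fi22

/-!
The three outcomes from the branches.
-/

set_option autoImplicit false
set_option linter.unusedSectionVars false

namespace CfsgLib.Recog.Fi22Cent

open Subgroup Cfsg

variable {G : Type*} [Group G] [Finite G] {F : Type*} [Field F] [Fintype F]

namespace Setup

variable (S : Setup G F)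

/-- A swap carries isolation from `C(z₁)` to `C(z z₁)`. -/
theorem Iso.flip_of_swap {S : Setup G F} (hi : S.Iso) (hs : S.Swap) : S.flip.Iso := by
  obtain ⟨h, hh, e⟩ := hs
  intro g hg hcom
  change g * S.z * g⁻¹ = S.z
  have hcom' : g * S.z * g⁻¹ * S.z = S.z * (g * S.z * g⁻¹) := hcom
  have hg' : g * (S.z * S.z1) = S.z * S.z1 * g := mem_centralizer_singleton_iff.1 hg
  have hz : h * S.z = S.z * h := mem_centralizer_singleton_iff.1 hh
  have hz' : h⁻¹ * S.z = S.z * h⁻¹ := mem_centralizer_singleton_iff.1 (inv_mem hh)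
  have h' := hi (h⁻¹ * g * h) (mem_centralizer_singleton_iff.2 <| by
      calc h⁻¹ * g * h * S.z1 = h⁻¹ * (g * (h * S.z1 * h⁻¹)) * h := by group
        _ = h⁻¹ * ((h * S.z1 * h⁻¹) * g) * h := by rw [e, hg']
        _ = S.z1 * (h⁻¹ * g * h) := by group)
    (by
      show _ * _ = _ * _
      have e1 : h⁻¹ * g * h * S.z * (h⁻¹ * g * h)⁻¹ = h⁻¹ * (g * S.z * g⁻¹) * h := by
        rw [show h⁻¹ * g * h * S.z = h⁻¹ * g * (h * S.z) by group, hz]; group
      rw [e1]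
      calc h⁻¹ * (g * S.z * g⁻¹) * h * S.z = h⁻¹ * (g * S.z * g⁻¹ * S.z) * h := by
            rw [mul_assoc _ h S.z, hz]; group
        _ = h⁻¹ * S.z * (g * S.z * g⁻¹) * h := by rw [hcom']; group
        _ = S.z * (h⁻¹ * (g * S.z * g⁻¹) * h) := by rw [hz']; group)
  have e1 : h⁻¹ * g * h * S.z * (h⁻¹ * g * h)⁻¹ = h⁻¹ * (g * S.z * g⁻¹) * h := by
    rw [show h⁻¹ * g * h * S.z = h⁻¹ * g * (h * S.z) by group, hz]; group
  rw [e1] at h'
  calc g * S.z * g⁻¹ = h * (h⁻¹ * (g * S.z * g⁻¹) * h) * h⁻¹ := by group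
    _ = S.z := by rw [h', hz, mul_inv_cancel_right]

theorem flip_z1 : S.flip.flip.z1 = S.z1 := by
  show S.z * (S.z * S.z1) = S.z1
  rw [← mul_assoc, S.z_sq, one_mul]

theorem iso_flip_flip : S.flip.flip.Iso ↔ S.Iso := by
  show (∀ g ∈ centralizer ({S.flip.flip.z1} : Set G), _) ↔ _
  rw [S.flip_z1]
  rfl

theorem flip_swap (h : S.flip.Swap) : S.Swap := by
  obtain ⟨g, hg, e⟩ := h
  refine ⟨g, hg, ?_⟩
  have e' : g * (S.z * S.z1) * g⁻¹ = S.z * (S.z * S.z1) := e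
  have hgz : g * S.z * g⁻¹ = S.z := mul_inv_eq_iff_eq_mul.2 (mem_centralizer_singleton_iff.1 hg)
  rw [← mul_assoc S.z, S.z_sq, one_mul, show g * (S.z * S.z1) * g⁻¹ = g * S.z * g⁻¹ * (g * S.z1 * g⁻¹) by group,
    hgz] at e'
  calc g * S.z1 * g⁻¹ = S.z * (S.z * (g * S.z1 * g⁻¹)) := by rw [← mul_assoc, S.z_sq, one_mul]
    _ = S.z * S.z1 := by rw [e']

/-- The second outcome for one of the two central involutions. -/
def Second (z₁ : G) : Prop :=
  (zpowers z₁).Normal ∧ ∃ (G₀ : Subgroup G) (hz₁ : z₁ ∈ G₀), G₀.index = 2 ∧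
    ∃ hn : ((zpowers z₁).subgroupOf G₀).Normal,
      Nonempty ((↥G₀ ⧸ (zpowers z₁).subgroupOf G₀) ≃* PSU 6 F 2)

/-- The conclusion from the branches. -/
theorem outcomes
    (hiso : ∀ T : Setup G F, T.z = S.z → T.Iso → T.flip.Iso → IsIsolatedInvolution T.z)
    (hmixed : ∀ T : Setup G F, ¬ T.Swap → ¬ T.Iso → T.flip.Iso →
      ∀ g, g * T.z * g⁻¹ ∈ centralizer ({T.z} : Set G) ⊓ centralizer ({T.z1} : Set G) → g * T.z1 * g⁻¹ = T.z1)
    (hswap : S.Swap → ¬ S.Iso → Spor.IsoFi22 G) :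
    centralizer ({S.z} : Set G) ⊔ oddCore G = ⊤ ∨
      (Second (F := F) S.z1 ∨ Second (F := F) (S.z * S.z1)) ∨ Spor.IsoFi22 G := by
  have top : S.Iso → S.flip.Iso → centralizer ({S.z} : Set G) ⊔ oddCore G = ⊤ := fun a b =>
    CfsgLib.Perm.SwappedPair.sup_oddCore_eq_top (hiso S rfl a b)
  by_cases hs : S.Swap
  · by_cases h1 : S.Iso
    · exact Or.inl (top h1 (h1.flip_of_swap hs))
    · exact Or.inr (Or.inr (hswap hs h1))
  · by_cases h1 : S.Iso <;> by_cases h2 : S.flip.Iso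
    · exact Or.inl (top h1 h2)
    · refine Or.inr (Or.inl (Or.inr ?_))
      have hs' : ¬ S.flip.Swap := fun h => hs (S.flip_swap h)
      have h1' : S.flip.flip.Iso := S.iso_flip_flip.2 h1
      exact S.flip.u6_mixed hs' h2 (S.flip.iso_or_u6.resolve_left h2) (hmixed S.flip hs' h2 h1')
    · exact Or.inr (Or.inl (Or.inl
        (S.u6_mixed hs h1 (S.iso_or_u6.resolve_left h1) (hmixed S hs h1 h2))))
    · exact (S.both_false hs h1 h2).elim

end Setup

end CfsgLib.Recog.Fi22Cent
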