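import Cfsg.Agent.Lib.Recog.Fi22Cent.SetupFacts
import Cfsg.Agent.Lib.Recog.U6Cent.Final
import Cfsg.Agent.Lib.Recog.U6Cent.ModSetup
import Cfsg.Agent.Lib.Coprime.SymplecticType

/-!
`C(z₁)/⟨z₁⟩` satisfies the hypotheses of the recognition of `PSU₆(2)`.
-/

set_option autoImplicit false
set_option linter.unusedSectionVars false

namespace CfsgLib.Recog.Fi22Cent

open Subgroup Cfsg
open scoped commutatorElement

variable {G : Type*} [Group G] [Finite G] {F : Type*} [Field F] [Fintype F]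

namespace Setup

variable (S : Setup G F)

/-- `⟨z₁⟩` in its centralizer. -/
def N1 : Subgroup (centralizer ({S.z1} : Set G)) := (zpowers S.z1).subgroupOf _

instance normal_N1 : S.N1.Normal := ⟨fun x hx g => by
  obtain ⟨k, hk⟩ := mem_zpowers_iff.1 (mem_subgroupOf.1 hx)
  refine mem_subgroupOf.2 (mem_zpowers_iff.2 ⟨k, ?_⟩)
  simp only [coe_mul, coe_inv, ← hk]
  have hc : Commute (g : G) S.z1 := mem_centralizer_singleton_iff.1 g.2
  rw [(hc.zpow_right k).eq, mul_inv_cancel_right]⟩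

/-- `C(z₁)/⟨z₁⟩`. -/
abbrev Bar : Type _ := centralizer ({S.z1} : Set G) ⧸ S.N1

/-- The map to `C(z₁)/⟨z₁⟩`. -/
noncomputable def proj : centralizer ({S.z1} : Set G) →* S.Bar := QuotientGroup.mk' S.N1

theorem mem_zpow_z1 {x : G} : x ∈ zpowers S.z1 ↔ x = 1 ∨ x = S.z1 := by
  constructor
  · intro h
    obtain ⟨k, rfl⟩ := mem_zpowers_iff.1 h
    haveI : Fact (Nat.Prime 2) := ⟨Nat.prime_two⟩
    have h2 : orderOf S.z1 = 2 := orderOf_eq_prime (by rw [pow_two, S.z1_sq]) S.z1_ne
    rw [zpow_mod_orderOf _ k |>.symm, h2]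
    rcases Int.emod_two_eq_zero_or_one k with e | e <;> simp [e]
  · rintro (rfl | rfl)
    exacts [one_mem _, mem_zpowers _]

theorem proj_eq_one (x : centralizer ({S.z1} : Set G)) :
    S.proj x = 1 ↔ (x : G) = 1 ∨ (x : G) = S.z1 :=
  (QuotientGroup.eq_one_iff x).trans (mem_subgroupOf.trans S.mem_zpow_z1)

theorem card_map_proj (A : Subgroup G) (hA : A ≤ centralizer ({S.z1} : Set G)) (h1 : S.z1 ∈ A) :
    Nat.card A = 2 * Nat.card ((A.subgroupOf (centralizer ({S.z1} : Set G))).map S.proj) := by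
  classical
  haveI : Fact (Nat.Prime 2) := ⟨Nat.prime_two⟩
  have h2 : orderOf S.z1 = 2 := orderOf_eq_prime (by rw [pow_two, S.z1_sq]) S.z1_ne
  let φ := S.proj.comp (inclusion hA)
  have hr : φ.range = (A.subgroupOf (centralizer ({S.z1} : Set G))).map S.proj := by
    rw [MonoidHom.range_comp, inclusion_range]
  have hk : φ.ker = (zpowers S.z1).subgroupOf A := by
    ext x
    rw [MonoidHom.mem_ker, mem_subgroupOf, S.mem_zpow_z1]
    exact S.proj_eq_one _
  have h := card_eq_card_quotient_mul_card_subgroup φ.ker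
  rw [Nat.card_congr (QuotientGroup.quotientKerEquivRange φ).toEquiv, hr, hk,
    Nat.card_congr (subgroupOfEquivOfLe (zpowers_le.2 h1)).toEquiv, Nat.card_zpowers, h2] at h
  rw [h, mul_comm]

/-- An element of `C(z) ∩ C(z₁)` centralising `J` modulo `⟨z₁⟩` lies in `⟨z, z₁⟩`. -/
theorem cent_mod {x : G} (hx1 : x ∈ centralizer ({S.z1} : Set G)) (hx : x ∈ centralizer ({S.z} : Set G))
    (h : ∀ j ∈ S.J, x * j * x⁻¹ * j⁻¹ = 1 ∨ x * j * x⁻¹ * j⁻¹ = S.z1) : S.InW x := by
  classical
  haveI := su_four_simple S.hF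
  haveI : Finite (SU 4 F 2) := Finite.of_surjective _ S.psi_surj
  let T : Set G := {g | g ∈ centralizer ({S.z1} : Set G) ∧ g ∈ centralizer ({S.z} : Set G) ∧
    ∀ j ∈ S.J, g * j * g⁻¹ = j ∨ g * j * g⁻¹ = j * S.z1}
  let M : Subgroup G :=
    { carrier := T
      one_mem' := ⟨one_mem _, one_mem _, fun j _ => Or.inl (by group)⟩
      mul_mem' := by
        rintro a b ⟨a1, a2, ha⟩ ⟨b1, b2, hb⟩
        refine ⟨mul_mem a1 b1, mul_mem a2 b2, fun j hj => ?_⟩
        have e : a * b * j * (a * b)⁻¹ = a * (b * j * b⁻¹) * a⁻¹ := by group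
        have ea : a * S.z1 * a⁻¹ = S.z1 := by
          rw [mem_centralizer_singleton_iff.1 a1, mul_inv_cancel_right]
        rw [e]
        rcases hb j hj with h | h <;> rw [h]
        · exact ha j hj
        · rw [show a * (j * S.z1) * a⁻¹ = a * j * a⁻¹ * (a * S.z1 * a⁻¹) by group, ea]
          rcases ha j hj with h' | h' <;> rw [h']
          · exact Or.inr rfl
          · exact Or.inl (by rw [mul_assoc, S.z1_sq, mul_one])
      inv_mem' := by
        rintro a ⟨a1, a2, ha⟩
        refine ⟨inv_mem a1, inv_mem a2, fun j hj => ?_⟩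
        have ea : a⁻¹ * S.z1 * a = S.z1 := by
          rw [mul_assoc, ← mem_centralizer_singleton_iff.1 a1, inv_mul_cancel_left]
        rw [inv_inv]
        rcases ha j hj with h | h
        · left
          conv_lhs => rw [← h]
          group
        · right
          calc a⁻¹ * j * a = a⁻¹ * (j * S.z1) * a * (a⁻¹ * S.z1 * a)⁻¹ := by group
            _ = a⁻¹ * (a * j * a⁻¹) * a * (a⁻¹ * S.z1 * a)⁻¹ := by rw [h]
            _ = j * (a⁻¹ * S.z1 * a)⁻¹ := by group
            _ = j * S.z1 := by rw [ea, S.z1_inv] }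
  have hMn : ∀ k ∈ centralizer ({S.z1} : Set G) ⊓ centralizer ({S.z} : Set G), ∀ g ∈ M,
      k * g * k⁻¹ ∈ M := by
    rintro k hk g ⟨g1, g2, hg⟩
    obtain ⟨k1, k2⟩ := mem_inf.1 hk
    refine ⟨mul_mem (mul_mem k1 g1) (inv_mem k1), mul_mem (mul_mem k2 g2) (inv_mem k2), fun j hj => ?_⟩
    have hj' : k⁻¹ * j * k ∈ S.J := by
      simpa using S.J_normal k⁻¹ (inv_mem k2) j hj
    have ek : k * S.z1 * k⁻¹ = S.z1 := by
      rw [mem_centralizer_singleton_iff.1 k1, mul_inv_cancel_right]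
    have e : k * g * k⁻¹ * j * (k * g * k⁻¹)⁻¹ = k * (g * (k⁻¹ * j * k) * g⁻¹) * k⁻¹ := by group
    rw [e]
    rcases hg _ hj' with h | h <;> rw [h]
    · exact Or.inl (by group)
    · refine Or.inr ?_
      rw [show k * (k⁻¹ * j * k * S.z1) * k⁻¹ = j * (k * S.z1 * k⁻¹) by group, ek]
  have hxM : x ∈ M := ⟨hx1, hx, fun j hj => (h j hj).imp
    (fun e => mul_inv_eq_one.1 e) fun e => by
      rw [mul_inv_eq_iff_eq_mul.1 e, ← S.z1_central j hj]⟩
  let M' : Subgroup S.K := M.subgroupOf S.K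
  haveI : M'.Normal := ⟨fun g hg k => hMn k (mem_inf.2 ⟨S.K_cent k.2, S.K_le k.2⟩) g hg⟩
  have hMJ : ∀ g ∈ M, g ∈ S.K → g ∈ S.J := by
    have hnorm : (M'.map S.psi).Normal := Subgroup.Normal.map inferInstance _ S.psi_surj
    rcases hnorm.eq_bot_or_eq_top with h | h
    · intro g hg hgK
      refine (S.psi_ker ⟨g, hgK⟩).1 ?_
      have : S.psi ⟨g, hgK⟩ ∈ M'.map S.psi := mem_map_of_mem _ hg
      rwa [h, mem_bot] at this
    · exfalso
      haveI : Fact (Nat.Prime 3) := ⟨Nat.prime_three⟩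
      obtain ⟨⟨g, hgK⟩, hg3⟩ := exists_prime_orderOf_dvd_card' (G := S.K) 3 (by rw [S.card_K]; norm_num)
      obtain ⟨m, hm, e⟩ := (h ▸ mem_top (S.psi ⟨g, hgK⟩) : S.psi ⟨g, hgK⟩ ∈ M'.map S.psi)
      have hjJ : ((m⁻¹ * ⟨g, hgK⟩ : S.K) : G) ∈ S.J :=
        (S.psi_ker _).1 (by rw [map_mul, map_inv, e, inv_mul_cancel])
      simp only [coe_mul, coe_inv] at hjJ
      set q := (m : G)⁻¹ * g with hq
      have hgm : g = (m : G) * q := by rw [hq, mul_inv_cancel_left]
      obtain ⟨m1, -, hm'⟩ := (mem_subgroupOf.1 hm : (m : G) ∈ M)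
      -- `g` moves each element of `J` only inside `⟨z, z₁⟩`
      have hgJ : ∀ j ∈ S.J, ∃ w, (w = 1 ∨ w = S.z ∨ w = S.z1 ∨ w = S.z * S.z1) ∧
          g * j * g⁻¹ = j * w := by
        intro j hj
        have e : g * j * g⁻¹ = (m : G) * (q * j * q⁻¹) * (m : G)⁻¹ := by rw [hgm]; group
        have hqj : q * j * q⁻¹ = j ∨ q * j * q⁻¹ = j * S.z := by
          rcases S.comm_or q hjJ j hj with e' | e'
          · exact Or.inl (by rw [e', mul_inv_cancel_right])
          · refine Or.inr ?_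
            rw [e', mul_assoc j q, mem_centralizer_singleton_iff.1 (S.J_cent hjJ), ← mul_assoc,
              mul_inv_cancel_right]
        have emz : (m : G) * S.z * (m : G)⁻¹ = S.z := by
          rw [mem_centralizer_singleton_iff.1 (S.K_le m.2), mul_inv_cancel_right]
        rw [e]
        rcases hqj with h1 | h1 <;> rw [h1]
        · rcases hm' j hj with h2 | h2
          · exact ⟨1, Or.inl rfl, by rw [h2, mul_one]⟩
          · exact ⟨S.z1, Or.inr (Or.inr (Or.inl rfl)), h2⟩
        · rw [show (m : G) * (j * S.z) * (m : G)⁻¹ = (m : G) * j * (m : G)⁻¹ * ((m : G) * S.z * (m : G)⁻¹) by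
            group, emz]
          rcases hm' j hj with h2 | h2
          · exact ⟨S.z, Or.inr (Or.inl rfl), by rw [h2]⟩
          · exact ⟨S.z * S.z1, Or.inr (Or.inr (Or.inr rfl)), by rw [h2, mul_assoc, S.z_comm_z1]⟩
      have hg0 : g ∈ centralizer ({S.z} : Set G) := S.K_le hgK
      have hcent : g ∈ centralizer (S.J : Set G) := mem_centralizer_iff.2 fun j hj => by
        obtain ⟨w, hw, e⟩ := hgJ j hj
        have hgw : g * w * g⁻¹ = w ∧ w * w = 1 := by
          have cz : g * S.z = S.z * g := mem_centralizer_singleton_iff.1 hg0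
          have c1 : g * S.z1 = S.z1 * g := mem_centralizer_singleton_iff.1 (S.K_cent hgK)
          rcases hw with rfl | rfl | rfl | rfl
          · exact ⟨by group, one_mul 1⟩
          · exact ⟨by rw [cz, mul_inv_cancel_right], S.z_sq⟩
          · exact ⟨by rw [c1, mul_inv_cancel_right], S.z1_sq⟩
          · exact ⟨by rw [← mul_assoc, cz, mul_assoc S.z, c1, ← mul_assoc, mul_inv_cancel_right], S.zz1_sq⟩
        have e3 : g ^ 3 = 1 := by
          have := congrArg Subtype.val (hg3 ▸ pow_orderOf_eq_one (⟨g, hgK⟩ : S.K))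
          simpa using this
        have hw1 : w = 1 := by
          have e2 : g * (g * (g * j * g⁻¹) * g⁻¹) * g⁻¹ = j := by
            calc g * (g * (g * j * g⁻¹) * g⁻¹) * g⁻¹ = g ^ 3 * j * (g ^ 3)⁻¹ := by
                  rw [pow_succ, pow_two]; group
              _ = j := by rw [e3, inv_one, one_mul, mul_one]
          rw [e, show g * (j * w) * g⁻¹ = g * j * g⁻¹ * (g * w * g⁻¹) by group, hgw.1, e,
            mul_assoc j w w, hgw.2, mul_one, e] at e2
          exact mul_eq_left.1 e2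
        rw [hw1, mul_one, mul_inv_eq_iff_eq_mul] at e
        exact e.symm
      have := S.self_cent (mem_inf.2 ⟨hg0, hcent⟩)
      have h1024 : orderOf (⟨g, this⟩ : S.J) ∣ 1024 := S.card_J ▸ orderOf_dvd_natCard _
      rw [← orderOf_coe] at h1024
      rw [← orderOf_coe] at hg3
      change orderOf g ∣ 1024 at h1024
      change orderOf g = 3 at hg3
      rw [hg3] at h1024
      norm_num at h1024
  have hxJ : x ∈ S.J := S.outer_faithful x hx fun k hk => by
    refine hMJ _ ?_ (mul_mem (S.K_normal x hx k hk) (inv_mem hk))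
    rw [show x * k * x⁻¹ * k⁻¹ = x * (k * x⁻¹ * k⁻¹) by group]
    exact mul_mem hxM (hMn k (mem_inf.2 ⟨S.K_cent hk, S.K_le hk⟩) _ (inv_mem hxM))
  refine S.center x hxJ fun y hy => ?_
  rcases S.comm_or x hxJ y hy with e | e
  · exact e
  exfalso
  have e' : x * y * x⁻¹ * y⁻¹ = S.z := by
    rw [e, mul_assoc y x, mem_centralizer_singleton_iff.1 hx, ← mul_assoc, mul_inv_cancel_right,
      mem_centralizer_singleton_iff.1 (S.J_cent hy), mul_inv_cancel_right]
  rcases h y hy with e2 | e2 <;> rw [e'] at e2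
  · exact S.z_ne e2
  · exact S.z1_ne_z e2.symm

theorem exists_nc : ∃ x ∈ S.J, ∃ y ∈ S.J, x * y = y * x * S.z := by
  by_contra! h
  exact S.not_abelian_half S.J le_rfl (by rw [S.card_J]; norm_num) fun x hx y hy =>
    (S.comm_or x hx y hy).resolve_right (h x hx y hy)

theorem exists_sq : ∃ x ∈ S.J, x * x = S.z := by
  by_contra! h
  obtain ⟨x, hx, y, hy, e⟩ := S.exists_nc
  have hs : ∀ u ∈ S.J, u⁻¹ = u := fun u hu => inv_eq_of_mul_eq_one_right ((S.sq_or u hu).resolve_right (h u hu))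
  have h2 := hs _ (mul_mem hx hy)
  rw [mul_inv_rev, hs x hx, hs y hy, e] at h2
  exact S.z_ne (mul_eq_left.1 h2.symm)

/-- `C(z₁)/⟨z₁⟩` satisfies the hypotheses of the recognition of `PSU₆(2)`. -/
theorem barSetup : ∃ T : U6Cent.CentSetup S.Bar F,
    T.z = S.proj ⟨S.z, S.z_cent1⟩ ∧
    T.J = (S.J.subgroupOf (centralizer ({S.z1} : Set G))).map S.proj ∧
    T.H0 = (S.K.subgroupOf (centralizer ({S.z1} : Set G))).map S.proj ∧
    centralizer ({T.z} : Set S.Bar) =
      ((centralizer ({S.z1} : Set G) ⊓ centralizer ({S.z} : Set G)).subgroupOf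
        (centralizer ({S.z1} : Set G))).map S.proj ∧
    2 * Nat.card (centralizer ({T.z} : Set S.Bar)) =
      Nat.card (centralizer ({S.z1} : Set G) ⊓ centralizer ({S.z} : Set G) : Subgroup G) := by
  classical
  haveI : Fact (Nat.Prime 2) := ⟨Nat.prime_two⟩
  set X := centralizer ({S.z1} : Set G)
  set Z : S.Bar := S.proj ⟨S.z, S.z_cent1⟩ with hZ
  set C1 := X ⊓ centralizer ({S.z} : Set G) with hC1
  let J' : Subgroup S.Bar := (S.J.subgroupOf X).map S.proj
  let H0 : Subgroup S.Bar := (S.K.subgroupOf X).map S.proj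
  have hsurj : Function.Surjective S.proj := QuotientGroup.mk'_surjective _
  have hJX : S.J ≤ X := S.J_le.trans S.K_cent
  have hcent : centralizer ({Z} : Set S.Bar) = (C1.subgroupOf X).map S.proj := by
    ext q
    obtain ⟨x, rfl⟩ := hsurj q
    constructor
    · intro hq
      refine ⟨x, mem_subgroupOf.2 (mem_inf.2 ⟨x.2, mem_centralizer_singleton_iff.2 ?_⟩), rfl⟩
      have h : S.proj (x * ⟨S.z, S.z_cent1⟩ * x⁻¹ * ⟨S.z, S.z_cent1⟩⁻¹) = 1 := by
        rw [map_mul, map_mul, map_mul, map_inv, map_inv, ← hZ, mem_centralizer_singleton_iff.1 hq,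
          mul_inv_cancel_right, mul_inv_cancel]
      rcases (S.proj_eq_one _).1 h with e | e <;> simp only [coe_mul, coe_inv] at e
      · exact mul_inv_eq_iff_eq_mul.1 (mul_inv_eq_one.1 e)
      · refine absurd (isConj_iff.2 ⟨(x : G), ?_⟩) S.not_conj'
        rw [mul_inv_eq_iff_eq_mul.1 e, S.z_comm_z1]
    · rintro ⟨y, hy, e⟩
      rw [← e, mem_centralizer_singleton_iff, hZ, ← map_mul, ← map_mul]
      exact congrArg S.proj (Subtype.ext
        (mem_centralizer_singleton_iff.1 (mem_inf.1 (mem_subgroupOf.1 hy)).2))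
  have hcardC : 2 * Nat.card (centralizer ({Z} : Set S.Bar)) = Nat.card C1 := by
    rw [hcent, S.card_map_proj C1 inf_le_left (mem_inf.2 ⟨mem_centralizer_singleton_iff.2 rfl,
      mem_centralizer_singleton_iff.2 S.z_comm_z1.symm⟩)]
  have hcardJ : Nat.card J' = 512 := by
    have := S.card_map_proj S.J hJX S.z1_mem
    rw [S.card_J] at this
    change 1024 = 2 * Nat.card J' at this
    omega
  have hcardK : Nat.card H0 = 13271040 := by
    have := S.card_map_proj S.K S.K_cent (S.J_le S.z1_mem)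
    rw [S.card_K] at this
    change 26542080 = 2 * Nat.card H0 at this
    omega
  have hZne : Z ≠ 1 := fun e => by
    rcases (S.proj_eq_one _).1 e with h | h
    exacts [S.z_ne h, S.z1_ne_z h.symm]
  have hZJ : Z ∈ J' := mem_map_of_mem _ S.z_mem
  have hJle : J' ≤ H0 := map_mono fun x hx => S.J_le hx
  have hKle : H0 ≤ centralizer ({Z} : Set S.Bar) := by
    rw [hcent]; exact map_mono fun x hx => mem_inf.2 ⟨x.2, S.K_le hx⟩
  have conjn : ∀ (A : Subgroup G), (∀ g ∈ centralizer ({S.z} : Set G), ∀ a ∈ A, g * a * g⁻¹ ∈ A) →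
      ∀ q ∈ centralizer ({Z} : Set S.Bar), ∀ p ∈ (A.subgroupOf X).map S.proj,
        q * p * q⁻¹ ∈ (A.subgroupOf X).map S.proj := by
    intro A hA q hq p hp
    rw [hcent] at hq
    obtain ⟨g, hg, rfl⟩ := hq
    obtain ⟨a, ha, rfl⟩ := hp
    exact ⟨g * a * g⁻¹, hA g (mem_inf.1 hg).2 a ha, by rw [map_mul, map_mul, map_inv]⟩
  -- `J'` is extraspecial
  have hJ2 : IsPGroup 2 J' := IsPGroup.of_card (n := 9) (by rw [hcardJ]; norm_num)
  have hcJ : ∀ x ∈ S.J, ∀ y ∈ S.J, ∀ (hx : x ∈ X) (hy : y ∈ X),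
      S.proj ⟨x, hx⟩ * S.proj ⟨y, hy⟩ = S.proj ⟨y, hy⟩ * S.proj ⟨x, hx⟩ ↔ x * y = y * x := by
    intro x hxJ y hyJ hx hy
    constructor
    · intro h
      rcases S.comm_or x hxJ y hyJ with e | e
      · exact e
      exfalso
      have h' : S.proj (⟨x, hx⟩ * ⟨y, hy⟩) = S.proj (⟨y, hy⟩ * ⟨x, hx⟩) := by rw [map_mul, map_mul, h]
      rw [show (⟨x, hx⟩ * ⟨y, hy⟩ : X) = ⟨y, hy⟩ * ⟨x, hx⟩ * ⟨S.z, S.z_cent1⟩ from Subtype.ext e,
        map_mul, mul_eq_left] at h'
      exact hZne h'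
    · intro h
      rw [← map_mul, ← map_mul]; exact congrArg S.proj (Subtype.ext h)
  have hext : IsExtraspecial 2 J' := by
    have hZo : orderOf (⟨Z, hZJ⟩ : J') = 2 := orderOf_eq_prime (by
      apply Subtype.ext
      show Z ^ 2 = 1
      rw [hZ, ← map_pow, pow_two, show (⟨S.z, S.z_cent1⟩ * ⟨S.z, S.z_cent1⟩ : X) = 1 from Subtype.ext S.z_sq,
        map_one]) fun e => hZne (congrArg Subtype.val e)
    have hmemZ : ∀ u : J', (u : S.Bar) = 1 ∨ (u : S.Bar) = Z → u ∈ zpowers (⟨Z, hZJ⟩ : J') := fun u hu => by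
      rcases hu with e | e
      · rw [show u = 1 from Subtype.ext e]; exact one_mem _
      · rw [show u = ⟨Z, hZJ⟩ from Subtype.ext e]; exact mem_zpowers _
    refine CfsgLib.Coprime.isExtraspecial_of_central hJ2 (zpowers ⟨Z, hZJ⟩) ((Nat.card_zpowers _).trans hZo)
      ?_ ?_ ?_ ?_
    · refine le_antisymm (fun u hu => hmemZ u ?_) (zpowers_le.2 ?_)
      · obtain ⟨x, hx, e⟩ := u.2
        have hxW := S.center x (mem_subgroupOf.1 hx) fun y hy => (hcJ x (mem_subgroupOf.1 hx) y hy x.2 (hJX hy)).1 (by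
          have := congrArg Subtype.val (mem_center_iff.1 hu ⟨S.proj ⟨y, hJX hy⟩, mem_map_of_mem _ hy⟩)
          rw [coe_mul, coe_mul, ← e] at this
          exact this.symm)
        rw [← e]
        rcases hxW with h | h | h | h
        · exact Or.inl ((S.proj_eq_one _).2 (Or.inl h))
        · exact Or.inr (congrArg S.proj (Subtype.ext h))
        · exact Or.inl ((S.proj_eq_one _).2 (Or.inr h))
        · refine Or.inr ?_
          rw [show x = ⟨S.z, S.z_cent1⟩ * ⟨S.z1, hJX S.z1_mem⟩ from Subtype.ext h, map_mul,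
            (S.proj_eq_one ⟨S.z1, hJX S.z1_mem⟩).2 (Or.inr rfl), mul_one]
      · refine mem_center_iff.2 fun v => Subtype.ext ?_
        exact mem_centralizer_singleton_iff.1 (hKle (hJle v.2))
    · intro u v
      refine hmemZ _ ?_
      obtain ⟨x, hx, e⟩ := u.2
      obtain ⟨y, hy, e'⟩ := v.2
      rw [commutatorElement_def]
      simp only [coe_mul, coe_inv, ← e, ← e', ← map_mul, ← map_inv]
      rcases S.comm_or x (mem_subgroupOf.1 hx) y (mem_subgroupOf.1 hy) with h | h
      · refine Or.inl ?_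
        rw [show x * y = y * x from Subtype.ext h, mul_inv_cancel_right, mul_inv_cancel, map_one]
      · refine Or.inr (congrArg S.proj (Subtype.ext ?_))
        simp only [coe_mul, coe_inv]
        rw [h, mul_assoc (y : G) x, mem_centralizer_singleton_iff.1 (S.J_cent (mem_subgroupOf.1 hx)),
          ← mul_assoc, mul_inv_cancel_right, mem_centralizer_singleton_iff.1 (S.J_cent (mem_subgroupOf.1 hy)),
          mul_inv_cancel_right]
    · intro u
      refine hmemZ _ ?_
      obtain ⟨x, hx, e⟩ := u.2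
      rw [coe_pow, ← e, ← map_pow, pow_two]
      rcases S.sq_or x (mem_subgroupOf.1 hx) with h | h
      · exact Or.inl ((S.proj_eq_one _).2 (Or.inl h))
      · exact Or.inr (congrArg S.proj (Subtype.ext h))
    · intro h
      have := Nat.card_congr ((MulEquiv.subgroupCongr h).trans topEquiv).toEquiv
      rw [Nat.card_zpowers, hZo, hcardJ] at this
      norm_num at this
  have hself : centralizer ({Z} : Set S.Bar) ⊓ centralizer (J' : Set S.Bar) ≤ J' := by
    intro q hq
    obtain ⟨hq1, hq2⟩ := mem_inf.1 hq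
    rw [hcent] at hq1
    obtain ⟨x, hx, rfl⟩ := hq1
    obtain ⟨x1, x2⟩ := mem_inf.1 (mem_subgroupOf.1 hx)
    have hW := S.cent_mod x1 x2 fun j hj => (S.proj_eq_one (x * ⟨j, hJX hj⟩ * x⁻¹ * ⟨j, hJX hj⟩⁻¹)).1 (by
      rw [map_mul, map_mul, map_mul, map_inv, map_inv,
        ← mem_centralizer_iff.1 hq2 _ (mem_map_of_mem _ (mem_subgroupOf.2 (show ((⟨j, hJX hj⟩ : X) : G) ∈ S.J from hj))),
        mul_inv_cancel_right, mul_inv_cancel])
    refine mem_map_of_mem _ (mem_subgroupOf.2 ?_)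
    rcases hW with h | h | h | h <;> rw [h]
    exacts [one_mem _, S.z_mem, S.z1_mem, mul_mem S.z_mem S.z1_mem]
  -- the map onto `SU₄(2)`
  let φ : S.K →* H0 := (S.proj.comp (inclusion S.K_cent)).codRestrict H0 fun k =>
    mem_map_of_mem _ (mem_subgroupOf.2 k.2)
  have hφ : Function.Surjective φ := fun q => by
    obtain ⟨x, hx, e⟩ := q.2
    exact ⟨⟨x, hx⟩, Subtype.ext e⟩
  have hker : φ.ker ≤ S.psi.ker := fun k hk => by
    refine MonoidHom.mem_ker.2 ((S.psi_ker k).2 ?_)
    rcases (S.proj_eq_one _).1 (congrArg Subtype.val (MonoidHom.mem_ker.1 hk)) with h | h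
    · exact (show (k : G) = 1 from h) ▸ one_mem _
    · exact (show (k : G) = S.z1 from h) ▸ S.z1_mem
  let ψ : H0 →* SU 4 F 2 := φ.liftOfSurjective hφ ⟨S.psi, hker⟩
  have hψ : ∀ k, ψ (φ k) = S.psi k := fun k => φ.liftOfRightInverse_comp_apply _ _ ⟨S.psi, hker⟩ k
  refine ⟨{
    hF := S.hF, z := Z, J := J', H0 := H0
    z_sq := by
      rw [hZ, ← map_mul]; exact (S.proj_eq_one _).2 (Or.inl S.z_sq)
    z_ne := hZne, z_mem := hZJ, J_le := hJle, H0_le := hKle
    J_normal := conjn S.J S.J_normal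
    H0_normal := conjn S.K S.K_normal
    card_J := hcardJ, card_H0 := hcardK
    card_H := by
      have h : Nat.card C1 = 26542080 ∨ Nat.card C1 = 53084160 := S.card_cent_inf
      rcases h with h | h
      · left; omega
      · right; omega
    J_extra := hext, self_cent := hself
    psi := ψ
    psi_surj := fun s => by
      obtain ⟨k, rfl⟩ := S.psi_surj s
      exact ⟨φ k, hψ k⟩
    psi_ker := fun q => by
      obtain ⟨k, rfl⟩ := hφ q
      rw [hψ, S.psi_ker]
      constructor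
      · exact fun h => mem_map_of_mem _ (mem_subgroupOf.2 h)
      · rintro ⟨x, hx, e⟩
        have h : S.proj (inclusion S.K_cent k * x⁻¹) = 1 := by
          rw [map_mul, map_inv, e]; exact mul_inv_cancel _
        have hx' := mem_subgroupOf.1 hx
        rcases (S.proj_eq_one _).1 h with h' | h' <;> simp only [coe_mul, coe_inv, coe_inclusion] at h'
        · rw [mul_inv_eq_one.1 h']; exact hx'
        · rw [mul_inv_eq_iff_eq_mul.1 h']; exact mul_mem S.z1_mem hx'
    outer_faithful := fun q hq h => by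
      rw [hcent] at hq
      obtain ⟨x, hx, rfl⟩ := hq
      refine mem_map_of_mem _ (mem_subgroupOf.2 (S.outer_faithful x (mem_inf.1 hx).2 fun k hk => ?_))
      obtain ⟨y, hy, e⟩ := h (S.proj ⟨k, S.K_cent hk⟩) (mem_map_of_mem _ (mem_subgroupOf.2 hk))
      rw [← map_inv, ← map_inv, ← map_mul, ← map_mul, ← map_mul] at e
      have h' : S.proj (x * ⟨k, S.K_cent hk⟩ * x⁻¹ * ⟨k, S.K_cent hk⟩⁻¹ * y⁻¹) = 1 := by
        rw [map_mul _ _ y⁻¹, map_inv, e]; exact mul_inv_cancel _
      have hy' := mem_subgroupOf.1 hy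
      rcases (S.proj_eq_one _).1 h' with h'' | h'' <;> simp only [coe_mul, coe_inv] at h''
      · rw [mul_inv_eq_one.1 h'']; exact hy'
      · rw [mul_inv_eq_iff_eq_mul.1 h'']; exact mul_mem S.z1_mem hy' }, rfl, rfl, rfl, hcent, hcardC⟩

/-- The dichotomy for `C(z₁)/⟨z₁⟩`. -/
theorem iso_or_u6 : S.Iso ∨ S.U6 := by
  classical
  obtain ⟨T, hT, -, -, -, hcard⟩ := S.barSetup
  rcases T.isolated_or_psu T.dichotomy with h | ⟨G0, ⟨e⟩, hc, hi⟩
  · refine Or.inl fun g hg hcom => ?_
    have h' := h.2 (S.proj ⟨g, hg⟩) (by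
      rw [hT, ← map_inv, ← map_mul, ← map_mul]
      show _ * _ = _ * _
      rw [← map_mul, ← map_mul]
      exact congrArg S.proj (Subtype.ext hcom.symm.eq))
    rw [hT, ← map_inv, ← map_mul, ← map_mul] at h'
    have h2 : S.proj (⟨g, hg⟩ * ⟨S.z, S.z_cent1⟩ * ⟨g, hg⟩⁻¹ * ⟨S.z, S.z_cent1⟩⁻¹) = 1 := by
      rw [map_mul, h', map_inv, mul_inv_cancel]
    rcases (S.proj_eq_one _).1 h2 with e | e <;> simp only [coe_mul, coe_inv] at e
    · exact mul_inv_eq_one.1 e
    · refine absurd (isConj_iff.2 ⟨g, ?_⟩) S.not_conj'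
      rw [mul_inv_eq_iff_eq_mul.1 e, S.z_comm_z1]
  · have hidx : G0.index = 1 ∨ G0.index = 2 := by
      have h0 : G0.index ≠ 0 := index_ne_zero_of_finite
      rcases S.card_cent_inf with h | h <;> rw [← hcard, ← hi] at h <;> omega
    have hn : G0.Normal := by
      rcases hidx with h | h
      · rw [index_eq_one.1 h]; infer_instance
      · exact normal_of_index_eq_two h
    set P' := G0.comap S.proj
    refine Or.inr ⟨P'.map (centralizer ({S.z1} : Set G)).subtype, map_subtype_le _,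
      ⟨⟨S.z1, mem_centralizer_singleton_iff.2 rfl⟩, ?_, rfl⟩, ⟨⟨S.z, S.z_cent1⟩, ?_, rfl⟩, ?_, ?_, ?_, ?_⟩
    · show S.proj _ ∈ G0
      rw [(S.proj_eq_one _).2 (Or.inr rfl)]; exact one_mem _
    · show S.proj _ ∈ G0
      obtain ⟨x, hx, e⟩ := S.exists_sq
      rw [show (⟨S.z, S.z_cent1⟩ : centralizer ({S.z1} : Set G)) =
        ⟨x, S.K_cent (S.J_le hx)⟩ * ⟨x, S.K_cent (S.J_le hx)⟩ from Subtype.ext e.symm, map_mul]
      rcases hidx with h | h
      · rw [index_eq_one.1 h]; exact mem_top _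
      · exact (mul_mem_iff_of_index_two h).2 Iff.rfl
    · intro g hg p hp
      obtain ⟨q, hq, rfl⟩ := hp
      exact ⟨⟨g, hg⟩ * q * ⟨g, hg⟩⁻¹, (hn.comap S.proj).conj_mem q hq _, rfl⟩
    · let E := P'.equivMapOfInjective _ (centralizer ({S.z1} : Set G)).subtype_injective
      let ρ : P' →* G0 := (S.proj.comp P'.subtype).codRestrict G0 fun x => x.2
      refine ⟨(e.toMonoidHom.comp ρ).comp E.symm.toMonoidHom, fun u => ?_, fun p => ?_⟩
      · obtain ⟨w, rfl⟩ := e.surjective u
        obtain ⟨x, hx⟩ := QuotientGroup.mk'_surjective S.N1 (w : S.Bar)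
        have hxP : x ∈ P' := by show S.proj x ∈ G0; rw [show S.proj x = w from hx]; exact w.2
        refine ⟨E ⟨x, hxP⟩, ?_⟩
        simp only [MonoidHom.comp_apply, MulEquiv.coe_toMonoidHom, MulEquiv.symm_apply_apply]
        exact congrArg e (Subtype.ext hx)
      · simp only [MonoidHom.comp_apply, MulEquiv.coe_toMonoidHom, map_eq_one_iff e e.injective]
        rw [← Subtype.coe_inj]
        refine (S.proj_eq_one _).trans ?_
        have h2 : ((P'.subtype (E.symm p) : centralizer ({S.z1} : Set G)) : G) = p := by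
          conv_rhs => rw [← E.apply_symm_apply p]
          rfl
        rw [h2]
    · have h1 : (P'.map (centralizer ({S.z1} : Set G)).subtype).relIndex (centralizer ({S.z1} : Set G)) =
          G0.index := by
        show ((P'.map (centralizer ({S.z1} : Set G)).subtype).comap (centralizer ({S.z1} : Set G)).subtype).index = _
        rw [comap_map_eq_self_of_injective (subtype_injective _) P']
        exact index_comap_of_surjective _ (QuotientGroup.mk'_surjective _)
      rw [h1, ← hcard, ← hi]; ring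
    · intro x hx h
      refine (S.proj_eq_one ⟨x, hx⟩).1 ?_
      have hmem : S.proj ⟨x, hx⟩ ∈ centralizer (G0 : Set S.Bar) := mem_centralizer_iff.2 fun q hq => by
        obtain ⟨y, rfl⟩ := QuotientGroup.mk'_surjective S.N1 q
        have h' : S.proj (⟨x, hx⟩ * y * ⟨x, hx⟩⁻¹ * y⁻¹) = 1 :=
          (S.proj_eq_one _).2 (h y ⟨y, hq, rfl⟩)
        rw [map_mul, map_mul, map_mul, map_inv, map_inv, mul_inv_eq_one, mul_inv_eq_iff_eq_mul] at h'
        exact h'.symm
      rwa [hc, mem_bot] at hmem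

end Setup

end CfsgLib.Recog.Fi22Cent
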