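import Cfsg.Agent.Lib.Recog.Fi22Cent.CoordApi
import Cfsg.Agent.Lib.Recog.U6Cent.ModCoord

/-!
Coordinates on `J` modulo `{1, z, z₁, z z₁}` with the action of all of `C(z)`, from coordinates for
`C(z₁)/⟨z₁⟩` in the natural case.
-/

set_option autoImplicit false
set_option linter.style.haveILetI false

namespace CfsgLib.Recog.Fi22Cent

open Subgroup Cfsg
open CfsgLib.Recog.U6Cent (NatData)
open CfsgLib.Recog.U6Cent.Mod (Four Gens ext T)

/-! ### An additive map commuting with the unitary group is a scalar -/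

theorem sep_exponents : ∀ i j : Fin 4, j ≠ i → ∃ a : T, ext a i = 0 ∧ ext a j ≠ 0 := by decide +kernel

theorem unit_exponents : ∀ i : Fin 4, ∃ a : T, ext a i = 1 := by decide +kernel

section Commutant

variable {F : Type*} [Field F] [Fintype F]

theorem scalar_of_commutes (X : Gens F) {f : (Fin 4 → F) → Fin 4 → F}
    (hadd : ∀ u v, f (u + v) = f u + f v)
    (hc : ∀ (s : SU 4 F 2) v, f (U6Cent.Mod.act s v) = U6Cent.Mod.act s (f v)) :
    ∃ k : F, ∀ v, f v = k • v := by
  have hf := X.hf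
  have hval : ((1 : ZMod 3).val) = 1 := rfl
  have hsup : ∀ i (c : F) j, j ≠ i → f (Pi.single i c) j = 0 := by
    intro i c j hj
    obtain ⟨a, hai, haj⟩ := sep_exponents i j hj
    have hfix : U6Cent.Mod.act (X.tor a) (Pi.single i c) = Pi.single i c := by
      refine funext fun k => ?_
      rw [X.tor_act]
      rcases eq_or_ne k i with rfl | hk
      · rw [hai, ZMod.val_zero, pow_zero, one_mul]
      · rw [Pi.single_eq_of_ne hk, mul_zero]
    have h := congrFun (hc (X.tor a) (Pi.single i c)) j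
    rw [hfix, X.tor_act] at h
    have hne : X.w ^ (ext a j).val ≠ 1 := by
      have h3 : ext a j = 1 ∨ ext a j = 2 :=
        (by decide : ∀ b : ZMod 3, b ≠ 0 → b = 1 ∨ b = 2) _ haj
      rcases h3 with e | e
      · rw [e, hval, pow_one]; exact hf.w_ne_one
      · rw [e, show ((2 : ZMod 3).val) = 2 from rfl, hf.w2]
        exact fun h' => hf.w_ne (by linear_combination h')
    by_contra h0
    exact hne (mul_right_cancel₀ h0 ((one_mul _).trans h).symm)
  let φ : Fin 4 → F → F := fun i c => f (Pi.single i c) i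
  have hsingle : ∀ i c, f (Pi.single i c) = Pi.single i (φ i c) := fun i c => funext fun j => by
    rcases eq_or_ne j i with rfl | hj
    · rw [Pi.single_eq_same]
    · rw [Pi.single_eq_of_ne hj, hsup i c j hj]
  have hφadd : ∀ i c d, φ i (c + d) = φ i c + φ i d := fun i c d => by
    show f (Pi.single i (c + d)) i = _
    rw [Pi.single_add, hadd]; rfl
  have hφw : ∀ i c, φ i (X.w * c) = X.w * φ i c := by
    intro i c
    obtain ⟨a, ha⟩ := unit_exponents i
    have hm : ∀ c, U6Cent.Mod.act (X.tor a) (Pi.single i c) i = X.w * c := fun c => by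
      rw [X.tor_act, ha, hval, pow_one, Pi.single_eq_same]
    have he : U6Cent.Mod.act (X.tor a) (Pi.single i c) = Pi.single i (X.w * c) := funext fun j => by
      rcases eq_or_ne j i with rfl | hj
      · rw [hm, Pi.single_eq_same]
      · rw [X.tor_act, Pi.single_eq_of_ne hj, Pi.single_eq_of_ne hj, mul_zero]
    have h := congrFun (hc (X.tor a) (Pi.single i c)) i
    rw [he, hsingle i c, hm] at h
    exact h
  have hφ : ∀ i c, φ i c = φ i 1 * c := by
    intro i c
    have h0 : φ i 0 = 0 := left_eq_add.1 (show φ i 0 = φ i 0 + φ i 0 by rw [← hφadd, add_zero])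
    rcases hf.cases_four c with rfl | rfl | rfl | rfl
    · rw [h0, mul_zero]
    · rw [mul_one]
    · have := hφw i 1
      rw [mul_one] at this
      rw [this, mul_comm]
    · have := hφw i 1
      rw [mul_one] at this
      rw [hφadd, this]
      ring
  have heq : ∀ i, φ i 1 = φ 0 1 := by
    intro i
    have he : U6Cent.Mod.act (X.swp 0 i) (Pi.single (0 : Fin 4) (1 : F)) = Pi.single i 1 := funext fun j => by
      rw [X.swp_act]
      rcases eq_or_ne j i with rfl | hj
      · rw [Equiv.swap_apply_right, Pi.single_eq_same, Pi.single_eq_same]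
      · rw [Pi.single_eq_of_ne hj, Pi.single_eq_of_ne]
        exact fun h' => hj ((Equiv.swap (0 : Fin 4) i).injective (h'.trans (Equiv.swap_apply_right 0 i).symm))
    have h := congrFun (hc (X.swp 0 i) (Pi.single (0 : Fin 4) (1 : F))) i
    rw [he, hsingle 0, X.swp_act, Equiv.swap_apply_right, Pi.single_eq_same] at h
    exact h
  refine ⟨φ 0 1, fun v => ?_⟩
  have hsum : v = Pi.single 0 (v 0) + Pi.single 1 (v 1) + Pi.single 2 (v 2) + Pi.single 3 (v 3) := by
    refine funext fun j => ?_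
    fin_cases j <;> simp
  conv_lhs => rw [hsum]
  simp only [hadd, hsingle, hφ _ (v _), heq]
  refine funext fun j => ?_
  fin_cases j <;> simp

end Commutant

/-! ### The coordinates -/

variable {G : Type*} [Group G] {F : Type*} [Field F] [Fintype F]

namespace Setup

variable (S : Setup G F)

open scoped _root_.Classical in
/-- The vector of a member of `C(z₁)` read modulo `z₁`. -/
noncomputable def barVec {Q : Type*} [Group Q] (π : centralizer ({S.z1} : Set G) →* Q)
    (N : NatData Q F) (x : G) : Fin 4 → F :=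
  if h : x ∈ centralizer ({S.z1} : Set G) then N.vec (π ⟨x, h⟩) else 0

end Setup

/-- Coordinates from coordinates on `C(z₁)/⟨z₁⟩`, agreeing with them on `C(z₁)`. -/
theorem exists_fdata_eq (S : Setup G F) {Q : Type*} [Group Q] (π : centralizer ({S.z1} : Set G) →* Q)
    (hπ : ∀ x, π x = 1 ↔ (x : G) = 1 ∨ (x : G) = S.z1) (N : NatData Q F)
    (hz : ∀ h : S.z ∈ centralizer ({S.z1} : Set G), π ⟨S.z, h⟩ = N.z)
    (hJ : ∀ q, q ∈ N.J ↔ ∃ x : centralizer ({S.z1} : Set G), (x : G) ∈ S.J ∧ π x = q)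
    (hK : ∀ q, q ∈ N.H0 ↔ ∃ x : centralizer ({S.z1} : Set G), (x : G) ∈ S.K ∧ π x = q) :
    ∃ D : FData S, (∀ x (h : x ∈ centralizer ({S.z1} : Set G)), D.vec x = N.vec (π ⟨x, h⟩)) ∧
      ∀ g ∈ centralizer ({S.z} : Set G), ∀ (h : g ∈ centralizer ({S.z1} : Set G)) (v : Fin 4 → F),
        D.act g v = N.act (π ⟨g, h⟩) v := by
  classical
  let C1 := centralizer ({S.z1} : Set G)
  let H := centralizer ({S.z} : Set G)
  let vec := S.barVec π N
  have hJ1 : ∀ {x : G}, x ∈ S.J → x ∈ C1 := fun h => S.J_le_cent_one h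
  have hvec : ∀ {x : G} (h : x ∈ C1), vec x = N.vec (π ⟨x, h⟩) := fun h => dif_pos h
  have hin : ∀ {x : G} (hx : x ∈ S.J), π ⟨x, hJ1 hx⟩ ∈ N.J := fun hx => (hJ _).2 ⟨_, hx, rfl⟩
  have vec_mul : ∀ x ∈ S.J, ∀ y ∈ S.J, vec (x * y) = vec x + vec y := fun x hx y hy => by
    rw [hvec (hJ1 (mul_mem hx hy)), hvec (hJ1 hx), hvec (hJ1 hy), ← N.vec_mul _ (hin hx) _ (hin hy),
      ← map_mul]
    rfl
  have vec_surj : ∀ v, ∃ x ∈ S.J, vec x = v := fun v => by
    obtain ⟨q, hq, rfl⟩ := N.vec_surj v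
    obtain ⟨x, hx, rfl⟩ := (hJ q).1 hq
    exact ⟨x, hx, hvec x.2⟩
  have hzne : π ⟨S.z, hJ1 S.z_mem⟩ ≠ 1 := fun h => N.z_ne ((hz _).symm.trans h)
  have hker : ∀ {x : G} (h : x ∈ C1), π ⟨x, h⟩ = π ⟨S.z, hJ1 S.z_mem⟩ ↔ x = S.z ∨ x = S.z * S.z1 := by
    intro x h
    rw [← inv_mul_eq_one, ← map_inv, ← map_mul, hπ]
    show x⁻¹ * S.z = 1 ∨ x⁻¹ * S.z = S.z1 ↔ _
    rw [inv_mul_eq_one, inv_mul_eq_iff_eq_mul]
    refine or_congr Iff.rfl ⟨fun e => ?_, fun e => ?_⟩
    · rw [e, mul_assoc, S.z1_sq, mul_one]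
    · rw [e, mul_assoc, S.z1_sq, mul_one]
  have vec_zero : ∀ x ∈ S.J, vec x = 0 ↔ x = 1 ∨ x = S.z ∨ x = S.z1 ∨ x = S.z * S.z1 := fun x hx => by
    rw [hvec (hJ1 hx), N.vec_zero _ (hin hx), hπ, ← hz (hJ1 S.z_mem), hker]
    exact ⟨fun h => by tauto, fun h => by tauto⟩
  have hsq1 : ∀ {x : G} (hx : x ∈ S.J),
      π ⟨x, hJ1 hx⟩ * π ⟨x, hJ1 hx⟩ = 1 ↔ x * x = 1 := fun {x} hx => by
    rw [← map_mul]
    refine ⟨fun h => ?_, fun h => (hπ _).2 (Or.inl h)⟩
    rcases S.sq_or x hx with h' | h'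
    · exact h'
    · refine absurd ?_ hzne
      rw [← h]
      exact congrArg π (Subtype.ext h'.symm)
  have sq_iff : ∀ x ∈ S.J, x * x = 1 ↔ hermForm 4 F 2 (vec x) (vec x) = 0 := fun x hx => by
    rw [hvec (hJ1 hx), ← N.sq_iff _ (hin hx), hsq1 hx]
  have comm_iff : ∀ x ∈ S.J, ∀ y ∈ S.J,
      x * y = y * x ↔ hermForm 4 F 2 (vec x) (vec y) + hermForm 4 F 2 (vec x) (vec y) ^ 2 = 0 := by
    intro x hx y hy
    rw [hvec (hJ1 hx), hvec (hJ1 hy), ← N.comm_iff _ (hin hx) _ (hin hy), ← map_mul, ← map_mul]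
    refine ⟨fun h => congrArg π (Subtype.ext h), fun h => ?_⟩
    rcases S.comm_or x hx y hy with h' | h'
    · exact h'
    · refine absurd ?_ hzne
      have e : π (⟨x, hJ1 hx⟩ * ⟨y, hJ1 hy⟩) = π (⟨y, hJ1 hy⟩ * ⟨x, hJ1 hx⟩ * ⟨S.z, hJ1 S.z_mem⟩) :=
        congrArg π (Subtype.ext h')
      rw [map_mul, map_mul] at h
      rw [map_mul, map_mul, map_mul, h] at e
      exact left_eq_mul.1 e
  -- the action
  choose rep hrep hvrep using vec_surj
  let act : G → (Fin 4 → F) → Fin 4 → F := fun g v => vec (g * rep v * g⁻¹)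
  have vec_one : vec 1 = 0 := (vec_zero 1 S.J.one_mem).2 (Or.inl rfl)
  have hW : ∀ g ∈ H, ∀ x ∈ S.J, vec x = 0 → vec (g * x * g⁻¹) = 0 := by
    intro g hg x hx h0
    refine (vec_zero _ (S.J_normal g hg x hx)).2 ?_
    have hgz : g * S.z * g⁻¹ = S.z := by rw [S.z_comm hg, mul_inv_cancel_right]
    have hgzz : g * (S.z * S.z1) * g⁻¹ = S.z * (g * S.z1 * g⁻¹) := by
      rw [show g * (S.z * S.z1) * g⁻¹ = (g * S.z * g⁻¹) * (g * S.z1 * g⁻¹) by group, hgz]
    rcases (vec_zero x hx).1 h0 with h | h | h | h <;> rw [h]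
    · exact Or.inl (by group)
    · exact Or.inr (Or.inl hgz)
    · rcases S.z1_conj g hg with e | e
      · exact Or.inr (Or.inr (Or.inl e))
      · exact Or.inr (Or.inr (Or.inr e))
    · rw [hgzz]
      rcases S.z1_conj g hg with e | e
      · exact Or.inr (Or.inr (Or.inr (by rw [e])))
      · exact Or.inr (Or.inr (Or.inl (by rw [e, ← mul_assoc, S.z_sq, one_mul])))
  have act_vec : ∀ g ∈ H, ∀ x ∈ S.J, vec (g * x * g⁻¹) = act g (vec x) := by
    intro g hg x hx
    set r := rep (vec x)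
    have hr : r ∈ S.J := hrep _
    have hd : vec (r⁻¹ * x) = 0 := by
      have h1 : vec r⁻¹ + vec r = 0 := by rw [← vec_mul _ (inv_mem hr) _ hr, inv_mul_cancel, vec_one]
      rw [vec_mul _ (inv_mem hr) _ hx]
      rwa [show vec r = vec x from hvrep _] at h1
    show vec (g * x * g⁻¹) = vec (g * r * g⁻¹)
    rw [show g * x * g⁻¹ = (g * r * g⁻¹) * (g * (r⁻¹ * x) * g⁻¹) by group,
      vec_mul _ (S.J_normal g hg r hr) _ (S.J_normal g hg _ (mul_mem (inv_mem hr) hx)),
      hW g hg _ (mul_mem (inv_mem hr) hx) hd, add_zero]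
  have act_mul : ∀ g ∈ H, ∀ h ∈ H, ∀ v, act (g * h) v = act g (act h v) := by
    intro g hg h hh v
    show vec (g * h * rep v * (g * h)⁻¹) = act g (vec (h * rep v * h⁻¹))
    rw [← act_vec g hg _ (S.J_normal h hh _ (hrep v))]
    exact congrArg vec (by group)
  have act_add : ∀ g ∈ H, ∀ u v, act g (u + v) = act g u + act g v := by
    intro g hg u v
    conv_lhs => rw [← hvrep u, ← hvrep v, ← vec_mul _ (hrep u) _ (hrep v)]
    rw [← act_vec g hg _ (mul_mem (hrep u) (hrep v)),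
      show g * (rep u * rep v) * g⁻¹ = g * rep u * g⁻¹ * (g * rep v * g⁻¹) by group,
      vec_mul _ (S.J_normal g hg _ (hrep u)) _ (S.J_normal g hg _ (hrep v))]
  have act_J : ∀ g ∈ S.J, ∀ v, act g v = v := by
    intro g hg v
    show vec (g * rep v * g⁻¹) = v
    rcases S.conj_cases (hrep v) hg with h | h <;> rw [h]
    · exact hvrep v
    · rw [vec_mul _ (hrep v) _ S.z_mem, hvrep, (vec_zero _ S.z_mem).2 (Or.inr (Or.inl rfl)), add_zero]
  have act_id : ∀ v, act 1 v = v := act_J 1 S.J.one_mem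
  have act_inv : ∀ g ∈ H, ∀ v, act g (act g⁻¹ v) = v := fun g hg v => by
    rw [← act_mul g hg _ (inv_mem hg), mul_inv_cancel, act_id]
  -- inside `C(z₁)`
  have hpiH : ∀ {g : G}, g ∈ H → ∀ h1 : g ∈ C1, π ⟨g, h1⟩ ∈ centralizer ({N.z} : Set Q) := fun {g} hg h1 => by
    rw [mem_centralizer_singleton_iff, ← hz (hJ1 S.z_mem), ← map_mul, ← map_mul]
    exact congrArg π (Subtype.ext (S.z_comm hg))
  have hbar : ∀ g ∈ H, ∀ h1 : g ∈ C1, ∀ v, act g v = N.act (π ⟨g, h1⟩) v := by
    intro g hg h1 v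
    conv_rhs => rw [← hvrep v]
    show vec (g * rep v * g⁻¹) = _
    rw [hvec (hJ1 (hrep v)), ← N.act_vec _ (hpiH hg h1) _ (hin (hrep v)),
      hvec (hJ1 (S.J_normal g hg _ (hrep v))), ← map_inv, ← map_mul, ← map_mul]
    rfl
  have hKC : ∀ {g : G}, g ∈ S.K → g ∈ C1 := fun h => S.K_cent h
  have hKH : ∀ {g : G}, g ∈ S.K → g ∈ H := fun h => S.K_le h
  have one_in : ∀ g ∈ H, g ∈ C1 → (∀ v, act g v = v) → g ∈ S.J := by
    intro g hg h1 hv
    have h2 : π ⟨g, h1⟩ ∈ N.J := (N.act_one _ (hpiH hg h1)).1 fun v => by rw [← hbar g hg h1, hv]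
    obtain ⟨x, hx, hxe⟩ := (hJ _).1 h2
    have h3 : π (x⁻¹ * ⟨g, h1⟩) = 1 := by rw [map_mul, map_inv, hxe, inv_mul_cancel]
    rcases (hπ _).1 h3 with h | h
    · have : (x : G) = g := inv_mul_eq_one.1 h
      exact this ▸ hx
    · have : g = x * S.z1 := inv_mul_eq_iff_eq_mul.1 h
      exact this ▸ mul_mem hx S.z1_mem
  have comm_mem : ∀ g ∈ H, (∀ k ∈ S.K, ∀ v, act g (act k v) = act k (act g v)) → g ∈ S.J := by
    intro g hg hc
    refine S.outer_faithful g hg fun k hk => ?_
    have hmem : g * k * g⁻¹ * k⁻¹ ∈ S.K := mul_mem (S.K_normal g hg k hk) (inv_mem hk)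
    refine one_in _ (hKH hmem) (hKC hmem) fun v => ?_
    rw [act_mul _ (mul_mem (mul_mem hg (hKH hk)) (inv_mem hg)) _ (inv_mem (hKH hk)),
      act_mul _ (mul_mem hg (hKH hk)) _ (inv_mem hg), act_mul _ hg _ (hKH hk), hc k hk,
      act_inv g hg, act_inv k (hKH hk)]
  have act_one : ∀ g ∈ H, (∀ v, act g v = v) ↔ g ∈ S.J :=
    fun g hg => ⟨fun h => comm_mem g hg fun k _ v => by rw [h, h], fun h => act_J g h⟩
  have act_inner : ∀ g ∈ S.K, ∃ M : SU 4 F 2, ∀ v, act g v = Matrix.mulVec (slToMat 4 F M) v := by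
    intro g hg
    obtain ⟨M, hM⟩ := N.act_inner _ ((hK _).2 ⟨⟨g, hKC hg⟩, hg, rfl⟩)
    exact ⟨M, fun v => (hbar g (hKH hg) (hKC hg) v).trans (hM v)⟩
  have act_surj : ∀ M : SU 4 F 2, ∃ g ∈ S.K, ∀ v, act g v = Matrix.mulVec (slToMat 4 F M) v := by
    intro M
    obtain ⟨q, hq, hM⟩ := N.act_surj M
    obtain ⟨x, hx, rfl⟩ := (hK q).1 hq
    exact ⟨x, hx, fun v => (hbar _ (hKH hx) x.2 v).trans (hM v)⟩
  obtain ⟨X⟩ := U6Cent.Mod.exists_gens S.hF
  have hf := X.hf
  have hnorm : ∀ g ∈ H, ∀ v, hermForm 4 F 2 (act g v) (act g v) = hermForm 4 F 2 v v := by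
    intro g hg v
    have h01 : ∀ u : Fin 4 → F, hermForm 4 F 2 u u = 0 ∨ hermForm 4 F 2 u u = 1 := fun u => by
      have h := hf.herm_swap u u
      rcases eq_or_ne (hermForm 4 F 2 u u) 0 with e | e
      · exact Or.inl e
      · exact Or.inr (mul_right_cancel₀ e (by rw [one_mul, ← pow_two, ← h]))
    have hiff : hermForm 4 F 2 (act g v) (act g v) = 0 ↔ hermForm 4 F 2 v v = 0 := by
      conv_rhs => rw [← hvrep v]
      rw [show act g v = vec (g * rep v * g⁻¹) from rfl, ← sq_iff _ (S.J_normal g hg _ (hrep v)),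
        ← sq_iff _ (hrep v), show g * rep v * g⁻¹ * (g * rep v * g⁻¹) = g * (rep v * rep v) * g⁻¹ by group,
        conj_eq_one_iff]
    rcases h01 v with e | e
    · rw [e]; exact hiff.2 e
    · rw [e]
      exact (h01 _).resolve_left fun h => one_ne_zero (α := F) (e ▸ hiff.1 h)
  have main : ∀ g ∈ H, g ∉ S.K → (∀ (k : F) v, act g (k • v) = k ^ 2 • act g v) ∧
      ∀ v u, hermForm 4 F 2 (act g v) (act g u) = hermForm 4 F 2 v u ^ 2 := by
    intro g hg hgK
    let n : (Fin 4 → F) → Fin 4 → F := fun v => act g (X.w • act g⁻¹ v)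
    have hn_add : ∀ u v, n (u + v) = n u + n v := fun u v => by
      show act g (X.w • act g⁻¹ (u + v)) = _
      rw [act_add _ (inv_mem hg), smul_add, act_add _ hg]
    obtain ⟨l, hl⟩ := scalar_of_commutes X hn_add fun s v => by
      obtain ⟨k, hk, hks⟩ := act_surj s
      obtain ⟨M, hM⟩ := act_inner _ (S.K_normal g⁻¹ (inv_mem hg) k hk)
      show act g (X.w • act g⁻¹ (Matrix.mulVec (slToMat 4 F s) v)) =
        Matrix.mulVec (slToMat 4 F s) (act g (X.w • act g⁻¹ v))
      rw [← hks v, ← hks, ← act_mul _ (inv_mem hg) _ (hKH hk),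
        show g⁻¹ * k = (g⁻¹ * k * g⁻¹⁻¹) * g⁻¹ by group,
        act_mul _ (hKH (S.K_normal g⁻¹ (inv_mem hg) k hk)) _ (inv_mem hg), hM, ← Matrix.mulVec_smul, ← hM,
        ← act_mul _ hg _ (hKH (S.K_normal g⁻¹ (inv_mem hg) k hk)), ← act_mul _ (hKH hk) _ hg]
      exact congrArg (fun e => act e (X.w • act g⁻¹ v)) (by group)
    have hl' : ∀ v, act g (X.w • v) = l • act g v := fun v => by
      rw [← hl]
      show _ = act g (X.w • act g⁻¹ (act g v))
      rw [← act_mul _ (inv_mem hg) _ hg, inv_mul_cancel, act_id]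
    have hinj : Function.Injective (act g) := fun u v h => by
      have := congrArg (act g⁻¹) h
      rwa [← act_mul _ (inv_mem hg) _ hg, ← act_mul _ (inv_mem hg) _ hg, inv_mul_cancel, act_id, act_id] at this
    have h0 : act g 0 = 0 := left_eq_add.1 (show act g 0 = act g 0 + act g 0 by rw [← act_add g hg, add_zero])
    have hcases : l = X.w ∨ l = X.w + 1 := by
      have hne : (Pi.single (0 : Fin 4) (1 : F) : Fin 4 → F) ≠ 0 := fun h => by
        simpa using congrFun h 0
      rcases hf.cases_four l with e | e | e | e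
      · exfalso
        have h := hl' (Pi.single 0 1)
        rw [e, zero_smul, ← h0] at h
        exact (smul_ne_zero hf.w_ne hne) (hinj h)
      · exfalso
        have h := hl' (Pi.single 0 1)
        rw [e, one_smul] at h
        have := congrFun (hinj h) 0
        simp only [Pi.smul_apply, Pi.single_eq_same, smul_eq_mul, mul_one] at this
        exact hf.w_ne_one this
      · exact Or.inl e
      · exact Or.inr e
    have hsq : ∀ (k : F) v, (l = X.w → act g (k • v) = k • act g v) ∧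
        (l = X.w + 1 → act g (k • v) = k ^ 2 • act g v) := by
      intro k v
      have hw1 : act g ((X.w + 1) • v) = (l + 1) • act g v := by
        rw [add_smul, one_smul, act_add g hg, hl', add_smul, one_smul]
      rcases hf.cases_four k with rfl | rfl | rfl | rfl
      · simp [h0]
      · simp
      · refine ⟨fun e => by rw [hl', e], fun e => by rw [hl', e, hf.w2]⟩
      · refine ⟨fun e => by rw [hw1, e], fun e => ?_⟩
        rw [hw1, e, hf.add_sq, one_pow, hf.w2]
    rcases hcases with e | e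
    · exfalso
      refine hgK ?_
      have hlin : ∀ (k : F) v, act g (k • v) = k • act g v := fun k v => (hsq k v).1 e
      let L : (Fin 4 → F) →ₗ[F] (Fin 4 → F) :=
        { toFun := act g
          map_add' := act_add g hg
          map_smul' := fun k v => hlin k v }
      set A := LinearMap.toMatrix' L
      have hA : ∀ v, A.mulVec v = act g v := fun v => LinearMap.toMatrix'_mulVec L v
      have hA0 : A.det ≠ 0 := fun h => by
        obtain ⟨x, hx, hx0⟩ := Matrix.exists_mulVec_eq_zero_iff.2 h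
        rw [hA, ← h0] at hx0
        exact hx (hinj hx0)
      have hd := hf.cube hA0
      set c := A.det ^ 2 with hc
      have hc3 : c ^ 3 = 1 := by rw [hc, ← pow_mul, mul_comm, pow_mul, hd, one_pow]
      have hdet : (c • A).det = 1 := by
        rw [Matrix.det_smul, Fintype.card_fin]
        linear_combination c * A.det * hc3 + hd
      obtain ⟨k0, hk0, hk0e⟩ := act_surj ⟨⟨c • A, hdet⟩, fun u v => by
        show hermForm 4 F 2 ((c • A).mulVec u) ((c • A).mulVec v) = _
        rw [Matrix.smul_mulVec, Matrix.smul_mulVec, hA, hA,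
          ← hf.herm_linear (act_add g hg) hlin (hnorm g hg) u v]
        simp only [hermForm, Pi.smul_apply, smul_eq_mul]
        exact Finset.sum_congr rfl fun i _ => by linear_combination act g u i * act g v i ^ 2 * hc3⟩
      have hq : k0⁻¹ * g ∈ H := mul_mem (inv_mem (hKH hk0)) hg
      have hk0v : ∀ v, act k0 v = c • act g v := fun v => by
        rw [hk0e]
        show (c • A).mulVec v = _
        rw [Matrix.smul_mulVec, hA]
      have hscal : ∀ v, act (k0⁻¹ * g) v = c⁻¹ • v := fun v => by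
        obtain ⟨M, hM⟩ := act_inner k0⁻¹ (inv_mem hk0)
        have h1 : act k0⁻¹ (c • act g v) = v := by
          rw [← hk0v, ← act_mul _ (inv_mem (hKH hk0)) _ (hKH hk0), inv_mul_cancel, act_id]
        rw [hM, Matrix.mulVec_smul, ← hM] at h1
        have hcne : c ≠ 0 := fun h => by rw [h] at hc3; simp at hc3
        rw [act_mul _ (inv_mem (hKH hk0)) _ hg, eq_inv_smul_iff₀ hcne]
        exact h1
      have hmem := comm_mem _ hq fun k hk v => by
        obtain ⟨M, hM⟩ := act_inner k hk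
        rw [hscal, hscal, hM, hM, Matrix.mulVec_smul]
      have := mul_mem hk0 (S.J_le hmem)
      rwa [mul_inv_cancel_left] at this
    · exact ⟨fun k v => (hsq k v).2 e, fun v u =>
        hf.herm_anti (act_add g hg) (fun k v => (hsq k v).2 e) (hnorm g hg) v u⟩
  exact ⟨{
    vec := vec
    vec_mul := vec_mul
    vec_surj := fun v => ⟨rep v, hrep v, hvrep v⟩
    vec_zero := vec_zero
    sq_iff := sq_iff
    comm_iff := comm_iff
    act := act
    act_vec := act_vec
    act_one := act_one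
    act_inner := act_inner
    act_surj := act_surj
    act_outer := fun g hg hgK => (main g hg hgK).1
    act_form := fun g hg hgK => (main g hg hgK).2 }, fun x h => hvec h, hbar⟩

/-- Coordinates from coordinates on `C(z₁)/⟨z₁⟩`. -/
theorem exists_fdata (S : Setup G F) {Q : Type*} [Group Q] (π : centralizer ({S.z1} : Set G) →* Q)
    (hπ : ∀ x, π x = 1 ↔ (x : G) = 1 ∨ (x : G) = S.z1) (N : NatData Q F)
    (hz : ∀ h : S.z ∈ centralizer ({S.z1} : Set G), π ⟨S.z, h⟩ = N.z)
    (hJ : ∀ q, q ∈ N.J ↔ ∃ x : centralizer ({S.z1} : Set G), (x : G) ∈ S.J ∧ π x = q)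
    (hK : ∀ q, q ∈ N.H0 ↔ ∃ x : centralizer ({S.z1} : Set G), (x : G) ∈ S.K ∧ π x = q) :
    Nonempty (FData S) :=
  let ⟨D, _⟩ := exists_fdata_eq S π hπ N hz hJ hK
  ⟨D⟩

end CfsgLib.Recog.Fi22Cent
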