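import Cfsg.Agent.Lib.Recog.Fi22Cent.Bar
import Cfsg.Agent.Lib.Recog.Fi22Cent.Coord

/-!
Coordinates on `J` modulo `{1, z, z₁, z z₁}` in the natural case.
-/

set_option autoImplicit false
set_option linter.unusedSectionVars false

namespace CfsgLib.Recog.U6Cent

open Subgroup Cfsg
open scoped commutatorElement

namespace CentSetup

variable {G : Type*} [Group G] {F : Type*} [Field F] [Fintype F] (S : CentSetup G F)

open scoped _root_.Classical in
theorem natData_full [Finite G] {X : Mod.Gens F} (N : Mod.NatCase S.rep X) :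
    ∃ D : NatData G F, D.z = S.z ∧ D.J = S.J ∧ D.H0 = S.H0 := by
  obtain ⟨τ, hτs, hτ⟩ := N.exists_tau
  let vec : G → Fin 4 → F := fun x => N.E.symm (S.pr x)
  have hvec : ∀ x, N.E (vec x) = S.pr x := fun x => N.E.apply_symm_apply _
  let act : G → (Fin 4 → F) → Fin 4 → F := fun g =>
    if hg : g ∈ centralizer ({S.z} : Set G) then N.cmap (S.Φ ⟨g, hg⟩) else id
  have hact : ∀ g (hg : g ∈ centralizer ({S.z} : Set G)) v, N.E (act g v) = S.Φ ⟨g, hg⟩ (N.E v) :=
    fun g hg v => by rw [show act g = N.cmap (S.Φ ⟨g, hg⟩) from dif_pos hg, N.E_cmap]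
  have hinner : ∀ g (hg : g ∈ S.H0) v, act g v = Mod.act (τ (S.psi ⟨g, hg⟩)) v := fun g hg v =>
    N.E.injective (by rw [hact g (S.H0_le hg), hτ]; exact (S.rho_psi hg _).symm)
  refine ⟨{
    hF := S.hF, z := S.z, J := S.J, H0 := S.H0, z_sq := S.z_sq, z_ne := S.z_ne, z_mem := S.z_mem
    J_le := S.J_le, H0_le := S.H0_le, J_normal := S.J_normal, H0_normal := S.H0_normal
    card_J := S.card_J, card_H0 := S.card_H0, card_H := S.card_H
    vec := vec
    vec_mul := fun x hx y hy => N.E.injective (by rw [map_add, hvec, hvec, hvec, S.pr_mul hx hy])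
    vec_surj := fun v => by
      obtain ⟨x, hx, h⟩ := S.exists_pr (N.E v)
      exact ⟨x, hx, N.E.injective (by rw [hvec, h])⟩
    vec_zero := fun x hx => by
      rw [← S.pr_zero_iff hx, ← hvec x]
      exact (AddEquiv.map_eq_zero_iff N.E).symm
    sq_iff := fun x hx => by rw [← S.Qf_pr hx, ← hvec x]; exact N.Q_zero_iff _
    sq_or := fun x hx => S.sq_cases hx
    comm_iff := fun x hx y hy => by rw [← S.polar_pr hx hy, ← hvec x, ← hvec y]; exact N.polar_iff _ _
    comm_or := fun x hx y hy => S.comm_cases hx hy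
    act := act
    act_vec := fun g hg x hx => N.E.injective (by rw [hvec, hact g hg, hvec, S.Φ_pr _ hx])
    act_one := fun g hg => by
      constructor
      · refine fun h => S.mem_J_of_Φ (g := ⟨g, hg⟩) fun v => ?_
        obtain ⟨x, rfl⟩ := N.E.surjective v
        rw [← hact g hg, h]
      · intro h v
        exact N.E.injective (by rw [hact g hg]; exact S.Φ_J (g := ⟨g, hg⟩) h _)
    act_inner := fun g hg => ⟨τ (S.psi ⟨g, hg⟩), hinner g hg⟩
    act_surj := fun M => by
      obtain ⟨s, rfl⟩ := hτs M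
      refine ⟨S.sec s, S.sec_mem s, fun v => ?_⟩
      rw [hinner _ (S.sec_mem s), S.psi_sec]
      rfl
    act_outer := ?_
    act_form := ?_ }, rfl, rfl, rfl⟩
  all_goals
    intro g hg hg0
    rcases N.normalizing (S.Φ ⟨g, hg⟩) (fun u v h => by
        have := congrArg (S.Φ ⟨g, hg⟩⁻¹) h
        change (S.Φ ⟨g, hg⟩⁻¹ * S.Φ ⟨g, hg⟩) u = (S.Φ ⟨g, hg⟩⁻¹ * S.Φ ⟨g, hg⟩) v at this
        rwa [← map_mul, inv_mul_cancel, map_one] at this)
      (S.Φ_Q _) (S.normalises _) with ⟨r, hr⟩ | h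
  case refine_1.inl | refine_2.inl =>
    exfalso
    refine hg0 ?_
    let k : centralizer ({S.z} : Set G) := S.sec r * ⟨g, hg⟩
    have hk : (k : G) ∈ S.J := by
      refine S.outer_faithful _ k.2 fun h hh => ?_
      let hq : centralizer ({S.z} : Set G) := ⟨h, S.H0_le hh⟩
      refine S.mem_J_of_Φ (g := k * hq * k⁻¹ * hq⁻¹) fun v => ?_
      have hcomm : ∀ v, S.Φ k (S.Φ hq v) = S.Φ hq (S.Φ k v) := by
        intro v
        rw [← S.rho_psi hh, ← S.rho_psi hh]
        show (S.Φ (S.sec r * ⟨g, hg⟩)) _ = _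
        rw [map_mul]
        exact hr _ v
      have e2 : S.Φ (k * hq) = S.Φ (hq * k) := AddMonoidHom.ext fun v => by
        rw [S.Φ.map_mul k hq, S.Φ.map_mul hq k]
        exact hcomm v
      rw [map_mul, map_mul, e2, ← map_mul, ← map_mul, mul_inv_cancel_right, mul_inv_cancel, map_one]
      rfl
    have := mul_mem (inv_mem (S.sec_mem r)) (S.J_le hk)
    simpa [k] using this
  · exact fun k v => by
      rw [show act g = N.cmap (S.Φ ⟨g, hg⟩) from dif_pos hg]
      exact h.1 k v
  · exact fun v w => by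
      rw [show act g = N.cmap (S.Φ ⟨g, hg⟩) from dif_pos hg]
      exact h.2 v w

end CentSetup

end CfsgLib.Recog.U6Cent

namespace CfsgLib.Recog.Fi22Cent

open Subgroup Cfsg

variable {G : Type*} [Group G] [Finite G] {F : Type*} [Field F] [Fintype F]

/-- Either coordinates on `J` modulo `{1, z, z₁, z z₁}`, or the reducible case in `C(z₁)/⟨z₁⟩`. -/
theorem Setup.fdata_or_red (S : Setup G F) : Nonempty (FData S) ∨
    ∃ R : U6Cent.RedData S.Bar, R.z = S.proj ⟨S.z, S.z_cent1⟩ := by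
  classical
  obtain ⟨T, hT, hTJ, hTH, -⟩ := S.barSetup
  obtain ⟨X⟩ := U6Cent.Mod.exists_gens T.hF
  rcases T.rep.cases_of_dichotomy X with h | h
  · obtain ⟨N, hz, hJ, hH⟩ := T.natData_full h
    refine Or.inl (exists_fdata S S.proj S.proj_eq_one N (fun _ => (hz.trans hT).symm) (fun q => ?_) fun q => ?_)
    · rw [hJ, hTJ]; exact Iff.rfl
    · rw [hH, hTH]; exact Iff.rfl
  · obtain ⟨R, hR⟩ := T.redData h
    exact Or.inr ⟨R, hR.trans hT⟩

end CfsgLib.Recog.Fi22Cent
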