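import Cfsg.Prelude.Def_Classical
import Cfsg.Agent.Lib.Recog.U6Cent.Basic

/-!
An involution `z` whose centralizer `H` has `J = O₂(H) = 2 × 2^{1+8}` with derived subgroup `⟨z⟩` and
`H/J ≅ U₄(2).2`; `z₁` is a central involution of `J` other than `z`. Interfaces of the proof.
-/

set_option autoImplicit false

namespace CfsgLib.Recog.Fi22Cent

open Subgroup Cfsg

/-- The hypotheses on `H = C(z)`; `K` is the inner part, `psi` identifies `K/J` with `SU₄(2)`. -/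
structure Setup (G : Type*) [Group G] (F : Type*) [Field F] [Fintype F] where
  hF : Fintype.card F = 4
  z : G
  z1 : G
  J : Subgroup G
  K : Subgroup G
  z_sq : z * z = 1
  z_ne : z ≠ 1
  z1_sq : z1 * z1 = 1
  z1_ne : z1 ≠ 1
  z1_ne_z : z1 ≠ z
  z_mem : z ∈ J
  z1_mem : z1 ∈ J
  J_le : J ≤ K
  K_le : K ≤ centralizer ({z} : Set G)
  K_cent : K ≤ centralizer ({z1} : Set G)
  J_normal : ∀ g ∈ centralizer ({z} : Set G), ∀ x ∈ J, g * x * g⁻¹ ∈ J
  K_normal : ∀ g ∈ centralizer ({z} : Set G), ∀ x ∈ K, g * x * g⁻¹ ∈ K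
  card_J : Nat.card J = 1024
  card_K : Nat.card K = 26542080
  card_H : Nat.card (centralizer ({z} : Set G)) = 53084160
  z1_central : ∀ x ∈ J, x * z1 = z1 * x
  z1_conj : ∀ g ∈ centralizer ({z} : Set G), g * z1 * g⁻¹ = z1 ∨ g * z1 * g⁻¹ = z * z1
  sq_or : ∀ x ∈ J, x * x = 1 ∨ x * x = z
  comm_or : ∀ x ∈ J, ∀ y ∈ J, x * y = y * x ∨ x * y = y * x * z
  center : ∀ x ∈ J, (∀ y ∈ J, x * y = y * x) → x = 1 ∨ x = z ∨ x = z1 ∨ x = z * z1
  self_cent : centralizer ({z} : Set G) ⊓ centralizer (J : Set G) ≤ J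
  psi : K →* SU 4 F 2
  psi_surj : Function.Surjective psi
  psi_ker : ∀ g : K, psi g = 1 ↔ (g : G) ∈ J
  outer_faithful : ∀ g ∈ centralizer ({z} : Set G), (∀ h ∈ K, g * h * g⁻¹ * h⁻¹ ∈ J) → g ∈ J

namespace Setup

variable {G : Type*} [Group G] {F : Type*} [Field F] [Fintype F] (S : Setup G F)

/-- Some element of `H` interchanges `z₁` and `z z₁`. -/
def Swap : Prop := ∃ h ∈ centralizer ({S.z} : Set G), h * S.z1 * h⁻¹ = S.z * S.z1

/-- The same situation with `z z₁` in place of `z₁`. -/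
def flip : Setup G F :=
  have hz : ∀ {g : G}, g ∈ centralizer ({S.z} : Set G) → g * S.z = S.z * g :=
    fun h => mem_centralizer_singleton_iff.1 h
  have h1 : S.z1 * S.z = S.z * S.z1 := (S.z1_central S.z S.z_mem).symm
  { S with
    z1 := S.z * S.z1
    z1_sq := by
      rw [mul_assoc, ← mul_assoc S.z1, h1, mul_assoc S.z, S.z1_sq, mul_one, S.z_sq]
    z1_ne := fun e => S.z1_ne_z (by
      calc S.z1 = S.z * S.z * S.z1 := by rw [S.z_sq, one_mul]
        _ = S.z := by rw [mul_assoc, e, mul_one])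
    z1_ne_z := fun e => S.z1_ne (mul_eq_left.1 e)
    z1_mem := mul_mem S.z_mem S.z1_mem
    K_cent := fun g hg => mem_centralizer_singleton_iff.2 <| by
      rw [← mul_assoc, hz (S.K_le hg), mul_assoc, mem_centralizer_singleton_iff.1 (S.K_cent hg),
        ← mul_assoc]
    z1_central := fun x hx => by
      rw [← mul_assoc, hz (S.K_le (S.J_le hx)), mul_assoc, S.z1_central x hx, ← mul_assoc]
    z1_conj := fun g hg => by
      have e : g * (S.z * S.z1) * g⁻¹ = S.z * (g * S.z1 * g⁻¹) := by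
        rw [← mul_assoc g, hz hg]; group
      rw [e]
      rcases S.z1_conj g hg with h | h
      · exact Or.inl (by rw [h])
      · refine Or.inr ?_
        rw [h]
    center := fun x hx h => by
      have e : S.z * (S.z * S.z1) = S.z1 := by rw [← mul_assoc, S.z_sq, one_mul]
      rw [e]
      rcases S.center x hx h with h | h | h | h
      exacts [Or.inl h, Or.inr (Or.inl h), Or.inr (Or.inr (Or.inr h)), Or.inr (Or.inr (Or.inl h))] }

/-- `z` commutes with none of its other conjugates under `C(z₁)`. -/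
def Iso : Prop := ∀ g ∈ centralizer ({S.z1} : Set G), Commute (g * S.z * g⁻¹) S.z → g * S.z * g⁻¹ = S.z

/-- `C(z₁)/⟨z₁⟩` is `PSU₆(2)` or an extension of it by two which centralizes nothing. -/
def U6 : Prop :=
  ∃ P : Subgroup G, P ≤ centralizer ({S.z1} : Set G) ∧ S.z1 ∈ P ∧ S.z ∈ P ∧
    (∀ g ∈ centralizer ({S.z1} : Set G), ∀ p ∈ P, g * p * g⁻¹ ∈ P) ∧
    (∃ π : P →* PSU 6 F 2, Function.Surjective π ∧ ∀ p : P, π p = 1 ↔ ((p : G) = 1 ∨ (p : G) = S.z1)) ∧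
    P.relIndex (centralizer ({S.z1} : Set G)) * 26542080 =
      Nat.card (centralizer ({S.z1} : Set G) ⊓ centralizer ({S.z} : Set G) : Subgroup G) ∧
    ∀ x ∈ centralizer ({S.z1} : Set G),
      (∀ p ∈ P, x * p * x⁻¹ * p⁻¹ = 1 ∨ x * p * x⁻¹ * p⁻¹ = S.z1) → x = 1 ∨ x = S.z1

end Setup

/-- Coordinates on `J` modulo `{1, z, z₁, z z₁}` in the natural case, with the action of all of `C(z)`. -/
structure FData {G : Type*} [Group G] {F : Type*} [Field F] [Fintype F] (S : Setup G F) where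
  vec : G → Fin 4 → F
  vec_mul : ∀ x ∈ S.J, ∀ y ∈ S.J, vec (x * y) = vec x + vec y
  vec_surj : ∀ v, ∃ x ∈ S.J, vec x = v
  vec_zero : ∀ x ∈ S.J, vec x = 0 ↔ x = 1 ∨ x = S.z ∨ x = S.z1 ∨ x = S.z * S.z1
  sq_iff : ∀ x ∈ S.J, x * x = 1 ↔ hermForm 4 F 2 (vec x) (vec x) = 0
  comm_iff : ∀ x ∈ S.J, ∀ y ∈ S.J,
    x * y = y * x ↔ hermForm 4 F 2 (vec x) (vec y) + hermForm 4 F 2 (vec x) (vec y) ^ 2 = 0
  act : G → (Fin 4 → F) → Fin 4 → F
  act_vec : ∀ g ∈ centralizer ({S.z} : Set G), ∀ x ∈ S.J, vec (g * x * g⁻¹) = act g (vec x)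
  act_one : ∀ g ∈ centralizer ({S.z} : Set G), (∀ v, act g v = v) ↔ g ∈ S.J
  act_inner : ∀ g ∈ S.K, ∃ M : SU 4 F 2, ∀ v, act g v = Matrix.mulVec (slToMat 4 F M) v
  act_surj : ∀ M : SU 4 F 2, ∃ g ∈ S.K, ∀ v, act g v = Matrix.mulVec (slToMat 4 F M) v
  act_outer : ∀ g ∈ centralizer ({S.z} : Set G), g ∉ S.K → ∀ (k : F) v, act g (k • v) = k ^ 2 • act g v
  act_form : ∀ g ∈ centralizer ({S.z} : Set G), g ∉ S.K → ∀ v w,
    hermForm 4 F 2 (act g v) (act g w) = hermForm 4 F 2 v w ^ 2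

end CfsgLib.Recog.Fi22Cent
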