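import Cfsg.Agent.Lib.Recog.Fi22Cent.Basic

/-!
Elementary consequences of the hypotheses and of the coordinates.
-/

set_option autoImplicit false

namespace CfsgLib.Recog.Fi22Cent

open Subgroup Cfsg

variable {G : Type*} [Group G] {F : Type*} [Field F] [Fintype F]

namespace Setup

variable (S : Setup G F)

theorem J_le_cent : S.J ≤ centralizer ({S.z} : Set G) := le_trans S.J_le S.K_le

theorem J_le_cent_one : S.J ≤ centralizer ({S.z1} : Set G) := le_trans S.J_le S.K_cent

theorem z_cent : S.z ∈ centralizer ({S.z} : Set G) := S.J_le_cent S.z_mem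

theorem z_comm {g : G} (hg : g ∈ centralizer ({S.z} : Set G)) : g * S.z = S.z * g :=
  mem_centralizer_singleton_iff.1 hg

theorem z_z1 : S.z * S.z1 = S.z1 * S.z := S.z1_central S.z S.z_mem

theorem conj_cases {x g : G} (hx : x ∈ S.J) (hg : g ∈ S.J) : g * x * g⁻¹ = x ∨ g * x * g⁻¹ = x * S.z := by
  rcases S.comm_or g hg x hx with h | h
  · exact Or.inl (by rw [h, mul_inv_cancel_right])
  · refine Or.inr ?_
    rw [h, mul_assoc _ S.z, ← show g⁻¹ * S.z = S.z * g⁻¹ from S.z_comm (S.J_le_cent (inv_mem hg)),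
      ← mul_assoc, mul_inv_cancel_right]

end Setup

namespace FData

variable {S : Setup G F} (D : FData S)
include D

theorem vec_one : D.vec 1 = 0 := (D.vec_zero 1 S.J.one_mem).2 (Or.inl rfl)

theorem vec_inv {x : G} (hx : x ∈ S.J) : D.vec x⁻¹ = -D.vec x :=
  eq_neg_of_add_eq_zero_right (by rw [← D.vec_mul x hx _ (inv_mem hx), mul_inv_cancel, D.vec_one])

theorem add_self (v : Fin 4 → F) : v + v = 0 := by
  obtain ⟨x, hx, rfl⟩ := D.vec_surj v
  rw [← D.vec_mul x hx x hx]
  rcases S.sq_or x hx with h | h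
  · rw [h, D.vec_one]
  · exact (D.vec_zero _ (mul_mem hx hx)).2 (Or.inr (Or.inl h))

theorem neg_eq (v : Fin 4 → F) : -v = v := neg_eq_of_add_eq_zero_left (D.add_self v)

theorem vec_z : D.vec S.z = 0 := (D.vec_zero _ S.z_mem).2 (Or.inr (Or.inl rfl))

theorem vec_z1 : D.vec S.z1 = 0 := (D.vec_zero _ S.z1_mem).2 (Or.inr (Or.inr (Or.inl rfl)))

theorem vec_eq_iff {x y : G} (hx : x ∈ S.J) (hy : y ∈ S.J) :
    D.vec x = D.vec y ↔ y = x ∨ y = x * S.z ∨ y = x * S.z1 ∨ y = x * (S.z * S.z1) := by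
  have h := D.vec_zero (x⁻¹ * y) (mul_mem (inv_mem hx) hy)
  rw [D.vec_mul _ (inv_mem hx) y hy, D.vec_inv hx, neg_add_eq_zero] at h
  rw [h]
  simp only [inv_mul_eq_iff_eq_mul, mul_one]

/-- The elements of `J` with zero vector form the group `{1, z, z₁, z z₁}`. -/
theorem vec_eq_zero_mul {x w : G} (hx : x ∈ S.J) (hw : w ∈ S.J) (h : D.vec w = 0) :
    D.vec (x * w) = D.vec x := by
  rw [D.vec_mul x hx w hw, h, add_zero]

theorem act_add {g : G} (hg : g ∈ centralizer ({S.z} : Set G)) (u v : Fin 4 → F) :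
    D.act g (u + v) = D.act g u + D.act g v := by
  obtain ⟨x, hx, rfl⟩ := D.vec_surj u
  obtain ⟨y, hy, rfl⟩ := D.vec_surj v
  rw [← D.vec_mul x hx y hy, ← D.act_vec g hg _ (mul_mem hx hy), ← D.act_vec g hg x hx,
    ← D.act_vec g hg y hy, ← D.vec_mul _ (S.J_normal g hg x hx) _ (S.J_normal g hg y hy)]
  exact congrArg D.vec (by group)

theorem act_mul {g h : G} (hg : g ∈ centralizer ({S.z} : Set G)) (hh : h ∈ centralizer ({S.z} : Set G))
    (v : Fin 4 → F) : D.act (g * h) v = D.act g (D.act h v) := by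
  obtain ⟨x, hx, rfl⟩ := D.vec_surj v
  rw [← D.act_vec h hh x hx, ← D.act_vec _ (mul_mem hg hh) x hx,
    ← D.act_vec g hg _ (S.J_normal h hh x hx)]
  exact congrArg D.vec (by group)

theorem act_J {g : G} (hg : g ∈ S.J) (v : Fin 4 → F) : D.act g v = v :=
  (D.act_one g (S.J_le_cent hg)).2 hg v

theorem act_id (v : Fin 4 → F) : D.act 1 v = v := D.act_J S.J.one_mem v

theorem act_inv {g : G} (hg : g ∈ centralizer ({S.z} : Set G)) (v : Fin 4 → F) :
    D.act g⁻¹ (D.act g v) = v := by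
  rw [← D.act_mul (inv_mem hg) hg, inv_mul_cancel, D.act_id]

theorem act_zero {g : G} (hg : g ∈ centralizer ({S.z} : Set G)) : D.act g 0 = 0 := by
  rw [← D.vec_one, ← D.act_vec g hg 1 S.J.one_mem, mul_one, mul_inv_cancel]

theorem act_injective {g : G} (hg : g ∈ centralizer ({S.z} : Set G)) : Function.Injective (D.act g) :=
  fun u v h => by rw [← D.act_inv hg u, h, D.act_inv hg v]

end FData

end CfsgLib.Recog.Fi22Cent
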