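import Cfsg.Agent.Lib.Recog.Fi22Cent.Bar
import Cfsg.Agent.Lib.Recog.Fi22Cent.Coord
import Cfsg.Agent.Lib.Recog.Fi22Cent.CoordApi

/-!
Without a swap, `z` cannot have conjugates commuting with it under both `C(z₁)` and `C(z z₁)`.
-/

set_option autoImplicit false
set_option linter.unusedSectionVars false

namespace CfsgLib.Recog.Fi22Cent

open Subgroup Cfsg
open CfsgLib.Recog.U6Cent (transvec NatData CentSetup pv pv_ne pv_iso exists_pairing exists_orth_pairing exists_trace_one)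

variable {F : Type*} [Field F] [Fintype F]

/-- An involutive isometry fixing a quarter of the space is a transvection. -/
theorem transvec_of_fix (hF : Fintype.card F = 4) (M : SU 4 F 2)
    (hM2 : ∀ x, Matrix.mulVec (slToMat 4 F M) (Matrix.mulVec (slToMat 4 F M) x) = x)
    (hne : ∃ x, Matrix.mulVec (slToMat 4 F M) x ≠ x)
    (hfix : 64 ≤ {x : Fin 4 → F | Matrix.mulVec (slToMat 4 F M) x = x}.ncard) :
    ∃ v, v ≠ 0 ∧ hermForm 4 F 2 v v = 0 ∧ ∀ x, Matrix.mulVec (slToMat 4 F M) x = transvec v x := by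
  classical
  set f : (Fin 4 → F) → Fin 4 → F := fun x => Matrix.mulVec (slToMat 4 F M) x with hf
  have hadd : ∀ x y, f (x + y) = f x + f y := fun x y => Matrix.mulVec_add _ _ _
  have hsmul : ∀ (k : F) x, f (k • x) = k • f x := fun k x => Matrix.mulVec_smul _ _ _
  have hiso : ∀ x y, hermForm 4 F 2 (f x) (f y) = hermForm 4 F 2 x y := fun x y => M.2 x y
  have hself : ∀ x : Fin 4 → F, x + x = 0 := fun x => funext fun i => U6Cent.f4_add_self hF _
  obtain ⟨u0, hu0⟩ := hne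
  set d := f u0 + u0 with hd
  have hd0 : d ≠ 0 := fun e => hu0 (by
    show f u0 = u0
    calc f u0 = f u0 + (u0 + u0) := by rw [hself, add_zero]
      _ = u0 := by rw [← add_assoc, ← hd, e, zero_add])
  have horth : ∀ x, f x = x → hermForm 4 F 2 x d = 0 := fun x hx => by
    rw [hd, U6Cent.herm_add_right hF]
    conv_lhs => arg 1; rw [← hx, hiso]
    exact U6Cent.f4_add_self hF _
  obtain ⟨y, hy⟩ := exists_pairing hd0 1
  set U := {x : Fin 4 → F | f x = x} with hU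
  have hinj : Function.Injective fun p : U × F => (p.1 : Fin 4 → F) + p.2 • y := by
    rintro ⟨⟨a, ha⟩, k⟩ ⟨⟨b, hb⟩, l⟩ e
    have e' : a + k • y = b + l • y := e
    have h := congrArg (fun t => hermForm 4 F 2 t d) e'
    simp only [U6Cent.herm_add_left hF, U6Cent.herm_smul_left hF, horth a ha, horth b hb, hy, mul_one,
      zero_add] at h
    subst h
    exact Prod.ext (Subtype.ext (add_right_cancel e')) rfl
  have hV : Nat.card (Fin 4 → F) = 256 := by
    rw [Nat.card_fun, Nat.card_eq_fintype_card (α := F), hF, Nat.card_eq_fintype_card, Fintype.card_fin]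
    norm_num
  have hbij : Function.Bijective fun p : U × F => (p.1 : Fin 4 → F) + p.2 • y := by
    refine (Nat.bijective_iff_injective_and_card _).2 ⟨hinj, le_antisymm (Nat.card_le_card_of_injective _ hinj) ?_⟩
    rw [Nat.card_prod, Nat.card_coe_set_eq, hV, Nat.card_eq_fintype_card (α := F), hF]
    have h64 : 64 ≤ U.ncard := hfix
    omega
  obtain ⟨e, he⟩ : ∃ e, e = f y + y := ⟨_, rfl⟩
  have hfy : f y = y + e := by rw [he, add_comm (f y) y, ← add_assoc, hself, zero_add]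
  have hform : ∀ x, f x = x + hermForm 4 F 2 x d • e := fun x => by
    obtain ⟨⟨⟨a, ha⟩, k⟩, rfl⟩ := hbij.2 x
    show f (a + k • y) = a + k • y + hermForm 4 F 2 (a + k • y) d • e
    rw [U6Cent.herm_add_left hF, U6Cent.herm_smul_left hF, horth a ha, hy, mul_one, zero_add, hadd, hsmul,
      hfy, smul_add, ha, add_assoc]
  have hed : ∃ c : F, d = c • e := ⟨hermForm 4 F 2 u0 d, by
    calc d = f u0 + u0 := rfl
      _ = hermForm 4 F 2 u0 d • e := by rw [hform u0, add_comm u0, add_assoc, hself, add_zero]⟩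
  obtain ⟨c, hc⟩ := hed
  have hc0 : c ≠ 0 := fun h => hd0 (by rw [hc, h, zero_smul])
  have hdd : hermForm 4 F 2 d d = 0 := horth d (by
    rw [hd, hadd, show f (f u0) = u0 from hM2 u0, add_comm])
  have hec : e = c⁻¹ • d := by rw [hc, inv_smul_smul₀ hc0]
  have hk : c⁻¹ + c⁻¹ ^ 2 = 0 := by
    have h := hiso y y
    rw [hfy, U6Cent.herm_add_left hF, U6Cent.herm_add_right hF, U6Cent.herm_add_right hF, add_assoc,
      add_eq_left, hec, U6Cent.herm_smul_left hF, U6Cent.herm_smul_left hF, U6Cent.herm_smul_right hF,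
      U6Cent.herm_smul_right hF, hdd, hy, U6Cent.herm_swap hF y d, hy] at h
    simpa [add_comm] using h
  have hk1 : c⁻¹ = 1 := by
    have h1 : c⁻¹ * (1 + c⁻¹) = 0 := by rw [mul_add, mul_one, ← pow_two]; exact hk
    rcases mul_eq_zero.1 h1 with h | h
    · exact absurd h (inv_ne_zero hc0)
    · rw [eq_neg_of_add_eq_zero_right h, neg_eq_iff_add_eq_zero, U6Cent.f4_add_self hF]
  refine ⟨d, hd0, hdd, fun x => ?_⟩
  show f x = _
  rw [hform x, hec, hk1, one_smul]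
  rfl

namespace Setup

variable {G : Type*} [Group G] [Finite G] (S : Setup G F)

/-- Over every point a conjugate of `z` under `C(z₁)`, when `z` is not isolated there. -/
theorem exists_lifts (h : ¬ S.Iso) : ∃ D : FData S, ∀ v : Fin 4 → F, v ≠ 0 → hermForm 4 F 2 v v = 0 →
    ∃ g ∈ centralizer ({S.z1} : Set G), g * S.z * g⁻¹ ∈ S.K ∧ (∀ x, D.act (g * S.z * g⁻¹) x = transvec v x) ∧
      ∀ x ∈ S.J, hermForm 4 F 2 (D.vec x) v = 0 → x * (g * S.z * g⁻¹) = g * S.z * g⁻¹ * x := by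
  classical
  obtain ⟨T, hT, hTJ, hT0, hTc, -⟩ := S.barSetup
  have notiso : ¬ (∀ q, q * T.z * q⁻¹ * T.z = T.z * (q * T.z * q⁻¹) → q * T.z * q⁻¹ = T.z) := fun hiso => by
    refine h fun g hg hcom => ?_
    have e : S.proj ⟨g, hg⟩ * T.z * (S.proj ⟨g, hg⟩)⁻¹ =
        S.proj (⟨g, hg⟩ * ⟨S.z, S.z_cent1⟩ * ⟨g, hg⟩⁻¹) := by rw [map_mul, map_mul, map_inv, hT]
    have h' := hiso (S.proj ⟨g, hg⟩) (by
      rw [e, hT, ← map_mul, ← map_mul]
      exact congrArg S.proj (Subtype.ext hcom.eq))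
    rw [e, hT, ← mul_inv_eq_one, ← map_inv, ← map_mul] at h'
    rcases (S.proj_eq_one _).1 h' with e' | e' <;> simp only [coe_mul, coe_inv] at e'
    · exact mul_inv_eq_one.1 e'
    · refine absurd (isConj_iff.2 ⟨g, ?_⟩) S.not_conj'
      rw [mul_inv_eq_iff_eq_mul.1 e', S.z_comm_z1]
  obtain ⟨X⟩ := U6Cent.Mod.exists_gens S.hF
  rcases T.rep.cases_of_dichotomy X with hc | hc
  swap
  · obtain ⟨R, hR⟩ := T.redData hc
    exact absurd (fun q hq => hR ▸ R.isolated q (hR ▸ hq)) notiso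
  obtain ⟨N, hNz, hNJ, hN0⟩ := T.natData' hc
  rcases N.classes N.conj_mem_J with hi | O
  · exact absurd (fun q hq => hNz ▸ hi q (hNz ▸ hq)) notiso
  obtain ⟨D, hDv, hDa⟩ := exists_fdata_eq S S.proj S.proj_eq_one N (fun _ => by rw [hNz, hT])
    (fun q => by
      rw [hNJ, hTJ]
      exact ⟨fun ⟨x, hx, e⟩ => ⟨x, mem_subgroupOf.1 hx, e⟩, fun ⟨x, hx, e⟩ => ⟨x, mem_subgroupOf.2 hx, e⟩⟩)
    (fun q => by
      rw [hN0, hT0]
      exact ⟨fun ⟨x, hx, e⟩ => ⟨x, mem_subgroupOf.1 hx, e⟩, fun ⟨x, hx, e⟩ => ⟨x, mem_subgroupOf.2 hx, e⟩⟩)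
  refine ⟨D, fun v hv hv0 => ?_⟩
  obtain ⟨t, ht, htv⟩ : {t | t ∈ N.dset ∧ ∀ x, N.act t x = transvec v x}.Nonempty :=
    Set.nonempty_of_ncard_ne_zero (by rw [O.cover v hv hv0]; norm_num)
  obtain ⟨q, hq⟩ := isConj_iff.1 ht.1
  obtain ⟨⟨g, hg⟩, hgq⟩ := QuotientGroup.mk'_surjective S.N1 q
  set a : centralizer ({S.z1} : Set G) := ⟨g, hg⟩ * ⟨S.z, S.z_cent1⟩ * ⟨g, hg⟩⁻¹ with ha
  have hpa : S.proj a = t := by
    rw [ha, map_mul, map_mul, map_inv, ← hq, hNz, hT]
    exact congrArg (fun u => u * S.proj _ * u⁻¹) hgq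
  have haK : (a : G) ∈ S.K := by
    have hi := O.inner t ht
    rw [hN0, hT0] at hi
    obtain ⟨x, hx, e⟩ := hi
    have hx' : (x : G) ∈ S.K := mem_subgroupOf.1 hx
    have h1 : S.proj (x⁻¹ * a) = 1 := by rw [map_mul, map_inv, e, hpa, inv_mul_cancel]
    rcases (S.proj_eq_one _).1 h1 with h' | h' <;> simp only [coe_mul, coe_inv] at h'
    · rw [← inv_mul_eq_one.1 h']; exact hx'
    · rw [inv_mul_eq_iff_eq_mul.1 h']; exact mul_mem hx' (S.J_le S.z1_mem)
  refine ⟨g, hg, haK, fun x => ?_, fun x hx hxv => ?_⟩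
  · show D.act (a : G) x = _
    rw [hDa (a : G) (S.K_le haK) a.2 x, Subtype.coe_eta, hpa]
    exact htv x
  · have hx1 : x ∈ centralizer ({S.z1} : Set G) := S.J_le_cent_one hx
    rw [hDv x hx1] at hxv
    have hxN : S.proj ⟨x, hx1⟩ ∈ N.J := by
      rw [hNJ, hTJ]; exact mem_map_of_mem _ (mem_subgroupOf.2 hx)
    have hcom := (O.cent t ht v htv _ hxN).2 hxv
    have h1 : S.proj (⟨x, hx1⟩ * a * ⟨x, hx1⟩⁻¹ * a⁻¹) = 1 := by
      rw [map_mul, map_mul, map_mul, map_inv, map_inv, hpa, hcom, mul_inv_cancel_right, mul_inv_cancel]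
    rcases (S.proj_eq_one _).1 h1 with h' | h' <;> simp only [ha, coe_mul, coe_inv] at h'
    · exact mul_inv_eq_iff_eq_mul.1 (mul_inv_eq_one.1 h')
    · exfalso
      refine S.not_conj' (isConj_iff.2 ⟨g⁻¹ * x * g, ?_⟩)
      have h2 := mul_inv_eq_iff_eq_mul.1 h'
      have hgz : g⁻¹ * S.z1 * g = S.z1 := by
        rw [mul_assoc, ← mem_centralizer_singleton_iff.1 hg, inv_mul_cancel_left]
      calc g⁻¹ * x * g * S.z * (g⁻¹ * x * g)⁻¹ = g⁻¹ * (x * (g * S.z * g⁻¹) * x⁻¹) * g := by group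
        _ = g⁻¹ * (S.z1 * (g * S.z * g⁻¹)) * g := by rw [h2]
        _ = (g⁻¹ * S.z1 * g) * S.z := by group
        _ = S.z1 * S.z := by rw [hgz]
        _ = S.z * S.z1 := S.z_comm_z1.symm

/-- A Sylow subgroup of `G` lies in `C(z)` with its normalizer. -/
theorem exists_sylow_le : ∃ P : Sylow 2 G, (P : Subgroup G) ≤ centralizer ({S.z} : Set G) ∧
    normalizer ((P : Subgroup G) : Set G) ≤ centralizer ({S.z} : Set G) := by
  classical
  haveI : Fact (Nat.Prime 2) := ⟨Nat.prime_two⟩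
  set H := centralizer ({S.z} : Set G) with hH
  obtain ⟨T0, hT0⟩ : ∃ T0 : Sylow 2 H, S.J.subgroupOf H ≤ (T0 : Subgroup H) :=
    IsPGroup.exists_le_sylow (S.isPGroup_J.comap_subtype)
  set T : Subgroup G := (T0 : Subgroup H).map H.subtype with hT
  have hTH : T ≤ H := map_subtype_le _
  have hJT : S.J ≤ T := fun x hx => ⟨⟨x, S.J_cent hx⟩, hT0 (mem_subgroupOf.2 hx), rfl⟩
  have hT2 : IsPGroup 2 T := T0.2.map _
  -- the normalizer of `T` lies in `C(z)`
  have hN : normalizer (T : Set G) ≤ H := by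
    intro n hn
    set u := n * S.z * n⁻¹ with hu
    have huT : u ∈ T := (mem_normalizer_iff.1 hn S.z).1 (hJT S.z_mem)
    have hucent : ∀ t ∈ T, u * t = t * u := fun t ht => by
      have ht' : n⁻¹ * t * n ∈ T := by
        rw [mem_normalizer_iff.1 hn, show n * (n⁻¹ * t * n) * n⁻¹ = t by group]; exact ht
      calc u * t = n * (S.z * (n⁻¹ * t * n)) * n⁻¹ := by rw [hu]; group
        _ = n * ((n⁻¹ * t * n) * S.z) * n⁻¹ := by rw [mem_centralizer_singleton_iff.1 (hTH ht')]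
        _ = t * u := by rw [hu]; group
    have huJ : u ∈ S.J := S.self_cent (mem_inf.2 ⟨hTH huT, mem_centralizer_iff.2 fun j hj => (hucent j (hJT hj)).symm⟩)
    rcases S.center u huJ (fun y hy => hucent y (hJT hy)) with e | e | e | e
    · exact absurd (conj_eq_one_iff.1 e) S.z_ne
    · exact mem_centralizer_singleton_iff.2 (mul_inv_eq_iff_eq_mul.1 e)
    · exact absurd (isConj_iff.2 ⟨n, e⟩) S.not_conj
    · exact absurd (isConj_iff.2 ⟨n, e⟩) S.not_conj'
  obtain ⟨P, hP⟩ := hT2.exists_le_sylow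
  have hPT : T = P := by
    by_contra hne
    haveI : Group.IsNilpotent P := P.2.isNilpotent
    have hlt : T.subgroupOf P < ⊤ := lt_top_iff_ne_top.2 fun e => hne (le_antisymm hP (subgroupOf_eq_top.1 e))
    obtain ⟨x, hxN, hxT⟩ := SetLike.exists_of_lt (Group.normalizerCondition_of_isNilpotent _ hlt)
    have hxn : (x : G) ∈ normalizer (T : Set G) := mem_normalizer_iff.2 fun t => by
      constructor
      · intro ht
        exact mem_subgroupOf.1 ((mem_normalizer_iff.1 hxN ⟨t, hP ht⟩).1 (mem_subgroupOf.2 ht))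
      · intro ht
        have htP : t ∈ (P : Subgroup G) := by
          have := mul_mem (mul_mem (inv_mem x.2) (hP ht)) x.2
          simpa [mul_assoc] using this
        exact mem_subgroupOf.1 ((mem_normalizer_iff.1 hxN ⟨t, htP⟩).2 (mem_subgroupOf.2 ht))
    have hmax : (P : Subgroup G) ⊓ H ≤ T := by
      have h1 : (T0 : Subgroup H) ≤ ((P : Subgroup G) ⊓ H).subgroupOf H := fun t ht =>
        mem_subgroupOf.2 (mem_inf.2 ⟨hP ⟨t, ht, rfl⟩, t.2⟩)
      have h2 := T0.3 ((P.2.to_le inf_le_left).comap_subtype) h1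
      intro t ht
      obtain ⟨h3, h4⟩ := mem_inf.1 ht
      exact ⟨⟨t, h4⟩, h2 ▸ mem_subgroupOf.2 (mem_inf.2 ⟨h3, h4⟩), rfl⟩
    exact hxT (mem_subgroupOf.2 (hmax (mem_inf.2 ⟨x.2, hN hxn⟩)))
  exact ⟨P, hPT ▸ hTH, hPT ▸ hN⟩

include S in
/-- The two-part of the order. -/
theorem not_two18 : ¬ 2 ^ 18 ∣ Nat.card G := by
  haveI : Fact (Nat.Prime 2) := ⟨Nat.prime_two⟩
  intro h
  obtain ⟨P, hP, -⟩ := S.exists_sylow_le
  have h' := (P.pow_dvd_card_of_pow_dvd_card h).trans (card_dvd_of_le hP)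
  rw [S.card_H] at h'
  norm_num at h'

/-- Without a swap, `z₁` and `z z₁` are not conjugate. -/
theorem not_conj_pair (h : ¬ S.Swap) : ¬ IsConj S.z1 (S.z * S.z1) := by
  classical
  haveI : Fact (Nat.Prime 2) := ⟨Nat.prime_two⟩
  intro hc
  obtain ⟨g, hg⟩ := isConj_iff.1 hc
  set H := centralizer ({S.z} : Set G) with hH
  obtain ⟨P, hPH, hN⟩ := S.exists_sylow_le
  have fix1 : ∀ x ∈ H, x * S.z1 * x⁻¹ = S.z1 := fun x hx => by
    rcases S.z1_conj x hx with e | e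
    · exact e
    · exact absurd ⟨x, hx, e⟩ h
  have comm1 : ∀ x ∈ H, x * S.z1 = S.z1 * x := fun x hx => mul_inv_eq_iff_eq_mul.1 (fix1 x hx)
  have hz1c : S.z1 ∈ centralizer (P : Set G) := mem_centralizer_iff.2 fun t ht => comm1 t (hPH ht)
  have hzzc : S.z * S.z1 ∈ centralizer (P : Set G) := mem_centralizer_iff.2 fun t ht => by
    have htH : t ∈ H := hPH ht
    rw [← mul_assoc, mem_centralizer_singleton_iff.1 htH, mul_assoc, comm1 t htH, ← mul_assoc]
  obtain ⟨n, hn, e⟩ := Sylow.conj_eq_normalizer_conj_of_mem_centralizer P S.z1 g⁻¹ hz1c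
    (by rw [inv_inv, hg]; exact hzzc)
  rw [inv_inv, hg] at e
  have hnH : n⁻¹ ∈ H := by
    exact inv_mem (hN hn)
  have h1 := fix1 _ hnH
  rw [inv_inv, ← e] at h1
  exact S.zz1_ne_z1 h1

/-- The branch in which `z` is isolated neither in `C(z₁)` nor in `C(z z₁)` does not occur without a swap. -/
theorem both_false (hs : ¬ S.Swap) (h1 : ¬ S.Iso) (h2 : ¬ S.flip.Iso) : False := by
  classical
  have hF := S.hF
  obtain ⟨D, hD⟩ := S.exists_lifts h1
  obtain ⟨D', hD'⟩ := S.flip.exists_lifts h2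
  obtain ⟨v0, hv0, hv0s⟩ : ∃ v : Fin 4 → F, v ≠ 0 ∧ hermForm 4 F 2 v v = 0 := ⟨pv hF 0, pv_ne hF 0, pv_iso hF 0⟩
  obtain ⟨g, hg, hbK, hbact, hbcom⟩ := hD' v0 hv0 hv0s
  set b := g * S.z * g⁻¹ with hb
  replace hbact : ∀ x, D'.act b x = transvec v0 x := hbact
  replace hbcom : ∀ x ∈ S.J, hermForm 4 F 2 (D'.vec x) v0 = 0 → x * b = b * x := hbcom
  have hbK' : b ∈ S.K := hbK
  have hbz : b ∈ centralizer ({S.z} : Set G) := S.K_le hbK'
  have hbb : b * b = 1 := by
    rw [hb, show g * S.z * g⁻¹ * (g * S.z * g⁻¹) = g * (S.z * S.z) * g⁻¹ by group, S.z_sq, mul_one, mul_inv_cancel]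
  -- fixed vectors in either coordinate system
  have hfixiff : ∀ x ∈ S.J, (D.act b (D.vec x) = D.vec x ↔ D'.act b (D'.vec x) = D'.vec x) := by
    intro x hx
    have hx' : b * x * b⁻¹ ∈ S.J := S.J_normal b hbz x hx
    rw [← D.act_vec b hbz x hx, ← D'.act_vec b hbz x hx]
    refine ⟨fun e => ((D'.vec_eq_iff hx hx').2 ?_).symm, fun e => ((D.vec_eq_iff hx hx').2 ?_).symm⟩ <;>
      [have e' := (D.vec_eq_iff hx hx').1 e.symm; have e' := (D'.vec_eq_iff hx hx').1 e.symm]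
    · show (_ ∨ b * x * b⁻¹ = x * S.z ∨ b * x * b⁻¹ = x * (S.z * S.z1) ∨
        b * x * b⁻¹ = x * (S.z * (S.z * S.z1)))
      rw [← mul_assoc S.z S.z, S.z_sq, one_mul]
      tauto
    · change (_ ∨ b * x * b⁻¹ = x * S.z ∨ b * x * b⁻¹ = x * (S.z * S.z1) ∨
        b * x * b⁻¹ = x * (S.z * (S.z * S.z1))) at e'
      rw [← mul_assoc S.z S.z, S.z_sq, one_mul] at e'
      tauto
  choose rep hrep hrepv using D'.vec_surj
  have hφ : Function.Injective fun v => D.vec (rep v) := fun u v e => by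
    rw [← hrepv u, ← hrepv v, D'.vec_eq_iff (hrep u) (hrep v)]
    have e' := (D.vec_eq_iff (hrep u) (hrep v)).1 e
    show _ ∨ rep v = rep u * S.z ∨ rep v = rep u * (S.z * S.z1) ∨ rep v = rep u * (S.z * (S.z * S.z1))
    rw [← mul_assoc S.z S.z, S.z_sq, one_mul]
    tauto
  have htf : ∀ w x : Fin 4 → F, w ≠ 0 → (transvec w x = x ↔ hermForm 4 F 2 x w = 0) := fun w x hw => by
    show x + hermForm 4 F 2 x w • w = x ↔ _
    rw [add_eq_left, smul_eq_zero, or_iff_left hw]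
  have hV : Nat.card (Fin 4 → F) = 256 := by
    rw [Nat.card_fun, Nat.card_eq_fintype_card (α := F), hF, Nat.card_eq_fintype_card, Fintype.card_fin]
    norm_num
  obtain ⟨y0, hy0⟩ := exists_pairing hv0 1
  have hker : 64 ≤ {x : Fin 4 → F | hermForm 4 F 2 x v0 = 0}.ncard := by
    have hinj : Function.Injective fun x : Fin 4 → F =>
        ((⟨x + hermForm 4 F 2 x v0 • y0, by
          show hermForm 4 F 2 _ v0 = 0
          rw [U6Cent.herm_add_left hF, U6Cent.herm_smul_left hF, hy0, mul_one, U6Cent.f4_add_self hF]⟩ :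
            {x : Fin 4 → F | hermForm 4 F 2 x v0 = 0}), hermForm 4 F 2 x v0) := fun x y e => by
      have e1 : x + hermForm 4 F 2 x v0 • y0 = y + hermForm 4 F 2 y v0 • y0 :=
        congrArg Subtype.val (congrArg Prod.fst e)
      have e2 : hermForm 4 F 2 x v0 = hermForm 4 F 2 y v0 := congrArg Prod.snd e
      rw [e2] at e1
      exact add_right_cancel e1
    have h := Nat.card_le_card_of_injective _ hinj
    rw [Nat.card_prod, Nat.card_coe_set_eq, hV, Nat.card_eq_fintype_card (α := F), hF] at h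
    omega
  obtain ⟨M, hM⟩ := D.act_inner b hbK'
  obtain ⟨v, hv, hvs, hvM⟩ := transvec_of_fix hF M
    (fun x => by
      rw [← hM, ← hM, ← D.act_mul hbz hbz, hbb, D.act_id])
    (by
      by_contra hall
      push_neg at hall
      have hbJ : b ∈ S.J := (D.act_one b hbz).1 fun x => (hM x).trans (hall x)
      have h := (hbact y0).symm.trans (D'.act_J (show b ∈ S.flip.J from hbJ) y0)
      rw [htf v0 y0 hv0, hy0] at h
      exact one_ne_zero h)
    (hker.trans (Set.ncard_le_ncard_of_injOn (fun x => D.vec (rep x)) (fun x hx => by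
      show Matrix.mulVec _ (D.vec (rep x)) = D.vec (rep x)
      rw [← hM, hfixiff _ (hrep x), hrepv, hbact, htf v0 x hv0]
      exact hx) hφ.injOn))
  have hbv : ∀ x, D.act b x = transvec v x := fun x => (hM x).trans (hvM x)
  obtain ⟨g1, hg1, haK, haact, hacom⟩ := hD v hv hvs
  set a := g1 * S.z * g1⁻¹ with ha
  have haz : a ∈ centralizer ({S.z} : Set G) := S.K_le haK
  have haa : a * a = 1 := by
    rw [ha, show g1 * S.z * g1⁻¹ * (g1 * S.z * g1⁻¹) = g1 * (S.z * S.z) * g1⁻¹ by group, S.z_sq, mul_one,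
      mul_inv_cancel]
  have hjJ : a * b ∈ S.J := (D.act_one _ (mul_mem haz hbz)).1 fun x => by
    rw [D.act_mul haz hbz, haact, ← hbv, ← D.act_mul hbz hbz, hbb, D.act_id]
  have hjcom : ∀ x ∈ S.J, hermForm 4 F 2 (D.vec x) v = 0 → a * b * x = x * (a * b) := fun x hx hxv => by
    have hbx : x * b = b * x := hbcom x hx <| by
      rw [← htf v0 (D'.vec x) hv0, ← hbact, ← hfixiff x hx, hbv, htf v _ hv]
      exact hxv
    rw [mul_assoc, ← hbx, ← mul_assoc, ← hacom x hx hxv, mul_assoc]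
  set vj := D.vec (a * b) with hvj
  have hperp : ∀ u, hermForm 4 F 2 u v = 0 → hermForm 4 F 2 vj u = 0 := by
    intro u hu
    have hall : ∀ k : F, hermForm 4 F 2 vj (k • u) + hermForm 4 F 2 vj (k • u) ^ 2 = 0 := fun k => by
      obtain ⟨x, hx, e⟩ := D.vec_surj (k • u)
      rw [← e, ← D.comm_iff _ hjJ x hx]
      exact hjcom x hx (by rw [e, U6Cent.herm_smul_left hF, hu, mul_zero])
    by_contra hne
    obtain ⟨t, ht⟩ := exists_trace_one hF
    -- scale the value to one of trace one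
    obtain ⟨k, hk⟩ : ∃ k : F, k ^ 2 * hermForm 4 F 2 vj u = t := by
      refine ⟨(t / hermForm 4 F 2 vj u) ^ 2, ?_⟩
      rw [← pow_mul, U6Cent.f4_pow hF, div_mul_cancel₀ _ hne]
    have h := hall k
    rw [U6Cent.herm_smul_right hF, hk, ht] at h
    exact one_ne_zero h
  obtain ⟨y, hy⟩ := exists_pairing hv 1
  set k := hermForm 4 F 2 vj y with hk
  have hvy : hermForm 4 F 2 v y = 1 := by rw [U6Cent.herm_swap hF y v, hy, one_pow]
  have hjv : vj = k • v := by
    by_contra hne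
    have hd : vj + k • v ≠ 0 := fun e => hne (by
      rw [eq_neg_of_add_eq_zero_left e, D.neg_eq])
    obtain ⟨u, hu⟩ := exists_pairing hd 1
    have h0 : hermForm 4 F 2 (vj + k • v) u = 0 := by
      have hu' : hermForm 4 F 2 (u + hermForm 4 F 2 u v • y) v = 0 := by
        rw [U6Cent.herm_add_left hF, U6Cent.herm_smul_left hF, hy, mul_one, U6Cent.f4_add_self hF]
      have h3 : hermForm 4 F 2 v (u + hermForm 4 F 2 u v • y) = 0 := by
        rw [U6Cent.herm_swap hF _ v, hu', zero_pow two_ne_zero]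
      have h4 := hperp _ hu'
      rw [U6Cent.herm_add_right hF, U6Cent.herm_smul_right hF, ← hk] at h4
      rw [U6Cent.herm_add_right hF, U6Cent.herm_smul_right hF, hvy, mul_one] at h3
      rw [U6Cent.herm_add_left hF, U6Cent.herm_smul_left hF]
      linear_combination h4 + k * h3 - k * U6Cent.f4_add_self hF (hermForm 4 F 2 u v ^ 2)
    rw [U6Cent.herm_swap hF u, hu, one_pow] at h0
    exact one_ne_zero h0
  obtain ⟨x, hx, hxy⟩ := D.vec_surj (k • y)
  set c := a⁻¹ * x * a * x⁻¹ with hc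
  have hainv : a⁻¹ = a := inv_eq_of_mul_eq_one_right haa
  have hax : a⁻¹ * x * a ∈ S.J := by simpa using S.J_normal a⁻¹ (inv_mem haz) x hx
  have hcJ : c ∈ S.J := mul_mem hax (inv_mem hx)
  have hcv : D.vec c = k • v := by
    rw [hc, D.vec_mul _ hax _ (inv_mem hx), D.vec_inv hx, D.neg_eq, show a⁻¹ * x * a = a * x * a⁻¹ by rw [hainv],
      D.act_vec a haz x hx, haact, hxy]
    show k • y + hermForm 4 F 2 (k • y) v • v + k • y = _
    rw [U6Cent.herm_smul_left hF, hy, mul_one, add_comm, ← add_assoc, D.add_self, zero_add]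
  obtain ⟨w, hw, hbw⟩ : ∃ w, (w = 1 ∨ w = S.z ∨ w = S.z1 ∨ w = S.z * S.z1) ∧
      b = x * g1 * S.z * (x * g1)⁻¹ * w := by
    refine ⟨c⁻¹ * (a * b), (D.vec_zero _ (mul_mem (inv_mem hcJ) hjJ)).1 ?_, ?_⟩
    · rw [D.vec_mul _ (inv_mem hcJ) _ hjJ, D.vec_inv hcJ, hcv, ← hvj, hjv, neg_add_cancel]
    · rw [show x * g1 * S.z * (x * g1)⁻¹ = x * a * x⁻¹ by rw [ha]; group,
        show x * a * x⁻¹ = a * c by rw [hc]; group, mul_assoc a c, mul_inv_cancel_left, ← mul_assoc, haa, one_mul]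
  set g2 := x * g1 with hg2
  have hgz : g * (S.z * S.z1) * g⁻¹ = S.z * S.z1 := mul_inv_eq_iff_eq_mul.2 (mem_centralizer_singleton_iff.1 hg)
  have hg2c : g2 * S.z1 * g2⁻¹ = S.z1 :=
    mul_inv_eq_iff_eq_mul.2 (mem_centralizer_singleton_iff.1 (mul_mem (S.J_le_cent_one hx) hg1))
  have hg2i : g2⁻¹ * S.z1 * g2 = S.z1 := by
    conv_lhs => rw [← hg2c]
    group
  have hbzz : b * (S.z * S.z1) = g * S.z1 * g⁻¹ := by
    conv_lhs => rw [hb, ← hgz]
    rw [show g * S.z * g⁻¹ * (g * (S.z * S.z1) * g⁻¹) = g * (S.z * S.z * S.z1) * g⁻¹ by group, S.z_sq, one_mul]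
  rcases hw with rfl | rfl | rfl | rfl
  · rw [mul_one, hb] at hbw
    have hh : g2⁻¹ * g ∈ centralizer ({S.z} : Set G) := mem_centralizer_singleton_iff.2 <| by
      calc g2⁻¹ * g * S.z = g2⁻¹ * (g * S.z * g⁻¹) * g := by group
        _ = S.z * (g2⁻¹ * g) := by rw [hbw]; group
    rcases S.z1_conj _ hh with e | e
    · have hgz1 : g * S.z1 * g⁻¹ = S.z1 := by
        calc g * S.z1 * g⁻¹ = g2 * (g2⁻¹ * g * S.z1 * (g2⁻¹ * g)⁻¹) * g2⁻¹ := by group
          _ = S.z1 := by rw [e, hg2c]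
      have hbz' : b = S.z := by
        calc b = b * (S.z * S.z1) * (S.z * S.z1)⁻¹ := by group
          _ = S.z := by
            rw [hbzz, hgz1, inv_eq_of_mul_eq_one_right S.zz1_sq, ← mul_assoc, ← S.z_comm_z1, mul_assoc,
              S.z1_sq, mul_one]
      have h := (hbact y0).symm.trans (D'.act_J (show b ∈ S.flip.J from hbz' ▸ S.z_mem) y0)
      rw [htf v0 y0 hv0, hy0] at h
      exact one_ne_zero h
    · exact hs ⟨_, hh, e⟩
  · refine S.not_conj_pair hs (isConj_iff.2 ⟨g2⁻¹ * g, ?_⟩)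
    calc g2⁻¹ * g * S.z1 * (g2⁻¹ * g)⁻¹ = g2⁻¹ * (g * S.z1 * g⁻¹) * g2 := by group
      _ = g2⁻¹ * (g2 * S.z * g2⁻¹ * S.z1) * g2 := by
        rw [← hbzz, hbw, mul_assoc _ S.z (S.z * S.z1), ← mul_assoc S.z S.z, S.z_sq, one_mul]
      _ = S.z * (g2⁻¹ * S.z1 * g2) := by group
      _ = S.z * S.z1 := by rw [hg2i]
  · refine S.not_conj' (isConj_iff.2 ⟨g2⁻¹ * g, ?_⟩)
    calc g2⁻¹ * g * S.z * (g2⁻¹ * g)⁻¹ = g2⁻¹ * (g * S.z * g⁻¹) * g2 := by group
      _ = g2⁻¹ * (g2 * S.z * g2⁻¹ * S.z1) * g2 := by rw [← hb, hbw]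
      _ = S.z * (g2⁻¹ * S.z1 * g2) := by group
      _ = S.z * S.z1 := by rw [hg2i]
  · refine S.not_conj (isConj_iff.2 ⟨g⁻¹ * g2, ?_⟩)
    calc g⁻¹ * g2 * S.z * (g⁻¹ * g2)⁻¹ = g⁻¹ * (g2 * S.z * g2⁻¹) * g := by group
      _ = g⁻¹ * (b * (S.z * S.z1)) * g := by rw [hbw, mul_assoc _ (S.z * S.z1), S.zz1_sq, mul_one]
      _ = S.z1 := by rw [hbzz]; group

end Setup

end CfsgLib.Recog.Fi22Cent
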