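import Cfsg.Agent.Lib.Recog.Fi22Cent.LocCore
import Cfsg.Prelude.Def_TwoFusion

/-!
`z` is isolated when it is isolated in the centralisers of `z₁` and of `z z₁`; when it is isolated in the
centraliser of `z z₁` only, conjugates of `z` in `C(z)` keep `z₁` fixed.
-/

set_option autoImplicit false
set_option linter.unusedSectionVars false

namespace CfsgLib.Recog.Fi22Cent

open Subgroup Cfsg CfsgLib.Recog.U6Cent

variable {G : Type*} [Group G] {F : Type*} [Field F] [Fintype F]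

namespace Setup

variable (S : Setup G F)

theorem orderOf_z : orderOf S.z = 2 := orderOf_eq_prime (by rw [pow_two, S.z_sq]) S.z_ne

/-- If `z` is isolated in `C(z₁)` then its commutators there have odd order. -/
theorem Iso.odd_order [Finite G] (h : S.Iso) {x : G} (hx : x ∈ centralizer ({S.z1} : Set G)) :
    Odd (orderOf (S.z * (x * S.z * x⁻¹))) := by
  have hzC : S.z ∈ centralizer ({S.z1} : Set G) := S.J_le_cent_one S.z_mem
  have hiso : IsIsolatedInvolution (⟨S.z, hzC⟩ : centralizer ({S.z1} : Set G)) :=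
    ⟨by rw [← orderOf_coe]; exact S.orderOf_z, fun g hg =>
      Subtype.ext (h g g.2 (congrArg Subtype.val hg.symm.eq))⟩
  have := CfsgLib.Invol.isolated_odd_mul_conj hiso ⟨x, hx⟩
  rwa [← orderOf_coe] at this

/-- A conjugation carrying `z` into `C(z)` gives a local configuration. -/
theorem loc_of_conj [Finite G] (h : S.Iso) {g : G} (ht : g * S.z * g⁻¹ ∈ centralizer ({S.z} : Set G))
    (ht1 : g * S.z * g⁻¹ * S.z1 = S.z1 * (g * S.z * g⁻¹))
    (hfix : ∀ x ∈ S.J, x * (g⁻¹ * (S.z * S.z1) * g) = g⁻¹ * (S.z * S.z1) * g * x →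
      x * (g⁻¹ * S.z * g) = g⁻¹ * S.z * g * x) :
    S.Loc (g⁻¹ * S.z * g) (g⁻¹ * S.z1 * g) := by
  have hsy : g⁻¹ * S.z * g * (g⁻¹ * S.z1 * g) = g⁻¹ * (S.z * S.z1) * g := by group
  refine ⟨mem_centralizer_singleton_iff.2 ?_, mem_centralizer_singleton_iff.2 ?_, ?_, ?_, ?_, ?_, ?_, ?_⟩
  · calc g⁻¹ * S.z * g * S.z = g⁻¹ * (S.z * (g * S.z * g⁻¹)) * g := by group
      _ = S.z * (g⁻¹ * S.z * g) := by rw [← S.z_comm ht]; group
  · calc g⁻¹ * S.z1 * g * S.z = g⁻¹ * (S.z1 * (g * S.z * g⁻¹)) * g := by group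
      _ = S.z * (g⁻¹ * S.z1 * g) := by rw [← ht1]; group
  · rw [show g⁻¹ * S.z * g * (g⁻¹ * S.z * g) = g⁻¹ * (S.z * S.z) * g by group, S.z_sq, mul_one, inv_mul_cancel]
  · rw [show g⁻¹ * S.z1 * g * (g⁻¹ * S.z1 * g) = g⁻¹ * (S.z1 * S.z1) * g by group, S.z1_sq, mul_one,
      inv_mul_cancel]
  · rw [hsy, S.z_z1]; group
  · intro x hx hxy
    have hx' : g * x * g⁻¹ ∈ centralizer ({S.z1} : Set G) := mem_centralizer_singleton_iff.2 (by
      calc g * x * g⁻¹ * S.z1 = g * (x * (g⁻¹ * S.z1 * g)) * g⁻¹ := by group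
        _ = S.z1 * (g * x * g⁻¹) := by rw [hxy]; group)
    have := h.odd_order S hx'
    rwa [show g⁻¹ * S.z * g * (x * (g⁻¹ * S.z * g) * x⁻¹) =
      g⁻¹ * (S.z * (g * x * g⁻¹ * S.z * (g * x * g⁻¹)⁻¹)) * g by group,
      CfsgLib.Invol.orderOf_conj_inv_eq]
  · intro x hx hxy
    rw [hsy] at hxy
    exact hfix x hx hxy
  · intro x hx hxs
    have hx' : g * x * g⁻¹ ∈ centralizer ({S.z} : Set G) := mem_centralizer_singleton_iff.2 (by
      calc g * x * g⁻¹ * S.z = g * (x * (g⁻¹ * S.z * g)) * g⁻¹ := by group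
        _ = S.z * (g * x * g⁻¹) := by rw [hxs]; group)
    rw [hsy, show x * (g⁻¹ * S.z1 * g) * x⁻¹ = g⁻¹ * (g * x * g⁻¹ * S.z1 * (g * x * g⁻¹)⁻¹) * g by group]
    rcases S.z1_conj _ hx' with e | e <;> rw [e]
    · exact Or.inl rfl
    · exact Or.inr rfl

/-- With both isolations the hypothesis of `loc_of_conj` holds. -/
theorem fix_of_flip [Finite G] (h' : S.flip.Iso) {g : G} (ht : g * S.z * g⁻¹ ∈ centralizer ({S.z} : Set G))
    {x : G} (hx : x ∈ S.J) (hxy : x * (g⁻¹ * (S.z * S.z1) * g) = g⁻¹ * (S.z * S.z1) * g * x) :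
    x * (g⁻¹ * S.z * g) = g⁻¹ * S.z * g * x := by
  set s := g⁻¹ * S.z * g with hs
  have hsH : s ∈ centralizer ({S.z} : Set G) := mem_centralizer_singleton_iff.2 (by
    calc g⁻¹ * S.z * g * S.z = g⁻¹ * (S.z * (g * S.z * g⁻¹)) * g := by group
      _ = S.z * (g⁻¹ * S.z * g) := by rw [← S.z_comm ht]; group)
  have hss : s⁻¹ = s := by
    rw [hs, mul_inv_rev, mul_inv_rev, inv_inv, S.z_inv_eq, mul_assoc]
  have hx' : g * x * g⁻¹ ∈ centralizer ({S.flip.z1} : Set G) := mem_centralizer_singleton_iff.2 (by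
    show g * x * g⁻¹ * (S.z * S.z1) = S.z * S.z1 * (g * x * g⁻¹)
    calc g * x * g⁻¹ * (S.z * S.z1) = g * (x * (g⁻¹ * (S.z * S.z1) * g)) * g⁻¹ := by group
      _ = S.z * S.z1 * (g * x * g⁻¹) := by rw [hxy]; group)
  have hodd := h'.odd_order S.flip hx'
  change Odd (orderOf (S.z * (g * x * g⁻¹ * S.z * (g * x * g⁻¹)⁻¹))) at hodd
  rw [← CfsgLib.Invol.orderOf_conj_inv_eq g, show g⁻¹ * (S.z * (g * x * g⁻¹ * S.z * (g * x * g⁻¹)⁻¹)) * g =
    s * (x * s * x⁻¹) by rw [hs]; group] at hodd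
  have hm : s * (x * s * x⁻¹) ∈ S.J := by
    have := mul_mem (S.J_normal s hsH x hx) (inv_mem hx)
    rwa [hss, show s * x * s * x⁻¹ = s * (x * s * x⁻¹) by group] at this
  have h2 := eq_inv_of_mul_eq_one_right (S.odd_mem_J hm hodd)
  rw [hss] at h2
  exact mul_inv_eq_iff_eq_mul.1 h2

end Setup

namespace FData

variable {S : Setup G F} (A : FData S)
include A

/-- The elements with zero vector. -/
theorem cases_of_vec {x : G} (h : x ∈ S.J ∧ A.vec x = 0) :
    x = 1 ∨ x = S.z ∨ x = S.z1 ∨ x = S.z * S.z1 := (A.vec_zero x h.1).1 h.2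

/-- Conjugates of `z` centralising `z` and `z₁` equal `z`. -/
theorem inner_iso [Finite G] (h : S.Iso) (h' : S.flip.Iso) (hz1 : ¬ IsConj S.z S.z1)
    (hz12 : ¬ IsConj S.z (S.z * S.z1)) (hns : ¬ S.Swap → ¬ IsConj S.z1 (S.z * S.z1)) {g : G}
    (ht : g * S.z * g⁻¹ ∈ centralizer ({S.z} : Set G))
    (ht1 : g * S.z * g⁻¹ * S.z1 = S.z1 * (g * S.z * g⁻¹)) : g * S.z * g⁻¹ = S.z := by
  have L := S.loc_of_conj h ht ht1 fun x hx => S.fix_of_flip h' ht hx
  have hcomm : Commute (g * S.z * g⁻¹) S.z := S.z_comm ht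
  have back : ∀ {a b : G}, g⁻¹ * a * g = b → g * b * g⁻¹ = a := fun e => by rw [← e]; group
  have conj : ∀ {a b : G}, g⁻¹ * a * g = b → IsConj a b := fun e => isConj_iff.2 ⟨g⁻¹, by rw [inv_inv, e]⟩
  have via1 : ∀ k, k * S.z * k⁻¹ = g * S.z * g⁻¹ → k * S.z1 * k⁻¹ = S.z1 → g * S.z * g⁻¹ = S.z :=
    fun k e e1 => by
      rw [← e]
      exact h k (mem_centralizer_singleton_iff.2 (mul_inv_eq_iff_eq_mul.1 e1)) (by rw [e]; exact hcomm)
  have via2 : ∀ k, k * S.z * k⁻¹ = g * S.z * g⁻¹ → k * (S.z * S.z1) * k⁻¹ = S.z * S.z1 →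
      g * S.z * g⁻¹ = S.z := fun k e e1 => by
      rw [← e]
      refine h' k (mem_centralizer_singleton_iff.2 ?_) ?_
      · exact mul_inv_eq_iff_eq_mul.1 e1
      · show Commute (k * S.z * k⁻¹) S.z
        rw [e]; exact hcomm
  have shiftz : ∀ {w : G}, w ∈ centralizer ({S.z} : Set G) → (g * w) * S.z * (g * w)⁻¹ = g * S.z * g⁻¹ :=
    fun {w} hw => by
      rw [show g * w * S.z * (g * w)⁻¹ = g * (w * S.z * w⁻¹) * g⁻¹ by group, S.z_comm hw, mul_inv_cancel_right]
  have one_ne : ∀ {a : G}, a ≠ 1 → g⁻¹ * a * g ≠ 1 := fun ha e => ha (by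
    have := back e; rwa [mul_one, mul_inv_cancel, eq_comm] at this)
  rcases A.loc_center L with hc | hc | hc
  · rcases A.cases_of_vec hc with e | e | e | e
    · exact absurd e (one_ne S.z_ne)
    · exact back e
    · exact absurd (conj e) hz1
    · exact absurd (conj e) hz12
  · rcases A.cases_of_vec hc with e | e | e | e
    · exact absurd e (one_ne S.z1_ne)
    · exact absurd (conj e).symm hz1
    · exact via1 g rfl (back e)
    · by_cases hsw : S.Swap
      · obtain ⟨w, hw, hw1⟩ := hsw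
        refine via1 (g * w) (shiftz hw) ?_
        rw [show g * w * S.z1 * (g * w)⁻¹ = g * (w * S.z1 * w⁻¹) * g⁻¹ by group, hw1, back e]
      · exact absurd (conj e) (hns hsw)
  · have hsy : g⁻¹ * S.z * g * (g⁻¹ * S.z1 * g) = g⁻¹ * (S.z * S.z1) * g := by group
    rw [hsy] at hc
    rcases A.cases_of_vec hc with e | e | e | e
    · exact absurd e (one_ne S.flip.z1_ne)
    · exact absurd (conj e).symm hz12
    · by_cases hsw : S.Swap
      · obtain ⟨w, hw, hw1⟩ := hsw
        refine via2 (g * w⁻¹) (shiftz (inv_mem hw)) ?_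
        rw [← hw1, show g * w⁻¹ * (w * S.z1 * w⁻¹) * (g * w⁻¹)⁻¹ = g * S.z1 * g⁻¹ by group, back e, ← hw1]
      · exact absurd (conj e).symm (hns hsw)
    · exact via2 g rfl (back e)

/-- **`z` is isolated** when it is so in the centralisers of `z₁` and `z z₁`. -/
theorem iso_iso [Finite G] (h : S.Iso) (h' : S.flip.Iso) (hz1 : ¬ IsConj S.z S.z1)
    (hz12 : ¬ IsConj S.z (S.z * S.z1)) (hns : ¬ S.Swap → ¬ IsConj S.z1 (S.z * S.z1)) :
    IsIsolatedInvolution S.z := by
  refine ⟨S.orderOf_z, fun g hg => ?_⟩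
  have inner : ∀ {k : G}, k * S.z * k⁻¹ ∈ centralizer ({S.z} : Set G) →
      k * S.z * k⁻¹ * S.z1 = S.z1 * (k * S.z * k⁻¹) → k * S.z * k⁻¹ = S.z :=
    A.inner_iso h h' hz1 hz12 hns
  set t := g * S.z * g⁻¹ with ht
  clear_value t
  have htH : t ∈ centralizer ({S.z} : Set G) := mem_centralizer_singleton_iff.2 hg.symm.eq
  by_contra htz
  have ht1 : t * S.z1 ≠ S.z1 * t := fun e => htz (by rw [ht] at htH e ⊢; exact inner htH e)
  set s := g⁻¹ * S.z * g with hs
  clear_value s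
  have hsH : s ∈ centralizer ({S.z} : Set G) := mem_centralizer_singleton_iff.2 (by
    rw [hs]
    calc g⁻¹ * S.z * g * S.z = g⁻¹ * (S.z * (g * S.z * g⁻¹)) * g := by group
      _ = S.z * (g⁻¹ * S.z * g) := by rw [← ht, ← S.z_comm htH, ht]; group)
  have hs1 : s * S.z1 ≠ S.z1 * s := fun e => by
    have h1 := inner (k := g⁻¹) (by rw [inv_inv, ← hs]; exact hsH) (by rw [inv_inv, ← hs]; exact e)
    rw [inv_inv] at h1
    refine htz ?_
    rw [ht]
    conv_lhs => rw [← h1]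
    group
  have hsJ : s ∉ S.J := fun hJ => hs1 (S.z1_central _ hJ)
  have htt : t * t = 1 := by
    rw [ht, show g * S.z * g⁻¹ * (g * S.z * g⁻¹) = g * (S.z * S.z) * g⁻¹ by group, S.z_sq, mul_one, mul_inv_cancel]
  have ht_inv : t⁻¹ = t := inv_eq_of_mul_eq_one_right htt
  have hsw : t * S.z1 * t⁻¹ = S.z * S.z1 :=
    (S.z1_conj t htH).resolve_left fun e => ht1 (mul_inv_eq_iff_eq_mul.1 e)
  obtain ⟨ω, h0, h1, hω, -⟩ := exists_omega S.hF
  -- `J` and its conjugate by `g` meet trivially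
  have hX : ∀ x ∈ S.J, g⁻¹ * x * g ∈ S.J → x = 1 := by
    intro x hx hxg
    by_contra hx1
    have hxt : x * t = t * x := by
      rw [ht]
      calc x * (g * S.z * g⁻¹) = g * (g⁻¹ * x * g * S.z) * g⁻¹ := by group
        _ = g * S.z * g⁻¹ * x := by rw [S.z_comm (S.J_le_cent hxg)]; group
    have hxz : x ≠ S.z := fun e => hsJ (by rw [hs, ← e]; exact hxg)
    have hxx : x * x = 1 := (S.sq_or x hx).resolve_right fun e => hsJ (by
      rw [hs, ← e, show g⁻¹ * (x * x) * g = g⁻¹ * x * g * (g⁻¹ * x * g) by group]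
      exact mul_mem hxg hxg)
    have hfx : A.act t (A.vec x) = A.vec x := by rw [← A.act_vec t htH x hx, ← hxt, mul_inv_cancel_right]
    by_cases hv : A.vec x = 0
    · rcases (A.vec_zero x hx).1 hv with e | e | e | e
      · exact hx1 e
      · exact hxz e
      · exact ht1 (e ▸ hxt).symm
      · refine ht1 ?_
        have h2 : t * (S.z * S.z1) = S.z * S.z1 * t := (e ▸ hxt).symm
        rw [← mul_assoc, S.z_comm htH, mul_assoc, mul_assoc] at h2
        exact mul_left_cancel h2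
    have htK : t ∉ S.K := fun hk => ht1 (mem_centralizer_singleton_iff.1 (S.K_cent hk))
    obtain ⟨j, hj, hjv⟩ := A.vec_surj (ω • A.vec x)
    have hjn : A.nv t (A.vec j) = A.vec x := by
      rw [hjv, nv, A.act_outer t htH htK, hfx, ← add_smul,
        show ω + ω ^ 2 = 1 by rw [hω, ← add_assoc, f4_add_self S.hF, zero_add], one_smul]
    set m := t * j * t⁻¹ * j⁻¹ with hm
    set w := x⁻¹ * m with hw
    have hmJ := (A.vec_commutator htH hj).1
    have hwJ : w ∈ S.J := mul_mem (inv_mem hx) hmJ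
    have hwc := (A.vec_zero w hwJ).1 (by
      rw [A.vec_mul _ (inv_mem hx) _ hmJ, A.vec_inv hx, A.neg_eq, (A.vec_commutator htH hj).2, hjn, A.add_self])
    have hxw : x * w = w * x := by
      rcases hwc with e | e | e | e <;> rw [e]
      · rw [mul_one, one_mul]
      · exact S.z_comm (S.J_le_cent hx)
      · exact S.z1_central x hx
      · exact ((Commute.mul_right (S.z_comm (S.J_le_cent hx) : Commute x S.z) (S.z1_central x hx)).eq)
    have hm' : t * m * t⁻¹ = m⁻¹ := by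
      rw [hm, ht_inv, mul_inv_rev, mul_inv_rev, mul_inv_rev, inv_inv, ht_inv]
      simp only [← mul_assoc, htt, one_mul]
    have htw : t * w * t⁻¹ = w := by
      have e1 : m = x * w := by rw [hw]; group
      rw [e1, mul_inv_rev, show t * (x * w) * t⁻¹ = t * x * t⁻¹ * (t * w * t⁻¹) by group,
        show t * x * t⁻¹ = x by rw [← hxt, mul_inv_cancel_right],
        inv_eq_of_mul_eq_one_right (S.center_sq hwc), inv_eq_of_mul_eq_one_right hxx, ← hxw] at hm'
      exact mul_left_cancel hm'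
    have hex : ∃ i ∈ S.J, t * i * t⁻¹ * i⁻¹ = x := by
      rcases hwc with e | e | e | e
      · refine ⟨j, hj, ?_⟩
        rw [← hm, show m = x * w by rw [hw]; group, e, mul_one]
      · refine ⟨j * S.z1, mul_mem hj S.z1_mem, ?_⟩
        calc t * (j * S.z1) * t⁻¹ * (j * S.z1)⁻¹ = t * j * t⁻¹ * (t * S.z1 * t⁻¹ * S.z1⁻¹) * j⁻¹ := by group
          _ = m * S.z := by
            rw [hsw, mul_inv_cancel_right, hm, mul_assoc _ S.z, ← S.z_comm (S.J_le_cent (inv_mem hj))]
            group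
          _ = x := by rw [show m = x * w by rw [hw]; group, e, mul_assoc, S.z_sq, mul_one]
      · exact absurd (by rw [e] at htw; exact mul_inv_eq_iff_eq_mul.1 htw) ht1
      · refine absurd ?_ ht1
        rw [e] at htw
        have h2 : t * (S.z * S.z1) = S.z * S.z1 * t := mul_inv_eq_iff_eq_mul.1 htw
        rw [← mul_assoc, S.z_comm htH, mul_assoc, mul_assoc] at h2
        exact mul_left_cancel h2
    obtain ⟨i, hi, hix⟩ := hex
    have hix' : i * t * i⁻¹ = t * x := by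
      rw [← hix, ← mul_assoc t, ← mul_assoc t, ← mul_assoc t, htt, one_mul, ht_inv]
    have he : g⁻¹ * (t * x) * g = S.z * (g⁻¹ * x * g) := by rw [ht]; group
    have hin := inner (k := g⁻¹ * i * g) (by
        rw [show g⁻¹ * i * g * S.z * (g⁻¹ * i * g)⁻¹ = g⁻¹ * (i * t * i⁻¹) * g by rw [ht]; group, hix', he]
        exact mul_mem S.z_cent (S.J_le_cent hxg)) (by
        rw [show g⁻¹ * i * g * S.z * (g⁻¹ * i * g)⁻¹ = g⁻¹ * (i * t * i⁻¹) * g by rw [ht]; group, hix', he]
        exact S.z1_central _ (mul_mem S.z_mem hxg))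
    rw [show g⁻¹ * i * g * S.z * (g⁻¹ * i * g)⁻¹ = g⁻¹ * (i * t * i⁻¹) * g by rw [ht]; group, hix', he] at hin
    exact hx1 (by
      have := mul_eq_left.1 hin
      calc x = g * (g⁻¹ * x * g) * g⁻¹ := by group
        _ = 1 := by rw [this, mul_one, mul_inv_cancel])
  -- the conjugate of `C_J(s)` acts faithfully and semilinearly, fixing the fixed vectors of `t`
  have hrH : ∀ a ∈ S.J, a * s = s * a → g * a * g⁻¹ ∈ centralizer ({S.z} : Set G) := fun a ha has =>
    mem_centralizer_singleton_iff.2 (by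
      calc g * a * g⁻¹ * S.z = g * (a * s) * g⁻¹ := by rw [hs]; group
        _ = S.z * (g * a * g⁻¹) := by rw [has, hs]; group)
  have hrK : ∀ a ∈ S.J, a * s = s * a → g * a * g⁻¹ ∈ S.K → a = 1 := by
    intro a ha has hK
    set r := g * a * g⁻¹ with hr
    have hrt : r * t = t * r := by
      rw [hr, ht]
      calc g * a * g⁻¹ * (g * S.z * g⁻¹) = g * (a * S.z) * g⁻¹ := by group
        _ = g * S.z * g⁻¹ * (g * a * g⁻¹) := by rw [S.z_comm (S.J_le_cent ha)]; group
    have hrfix : ∀ x ∈ S.J, x * t = t * x → A.act r (A.vec x) = A.vec x := by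
      intro x hx hxt
      have hxg : g⁻¹ * x * g ∈ centralizer ({S.z} : Set G) := mem_centralizer_singleton_iff.2 (by
        calc g⁻¹ * x * g * S.z = g⁻¹ * (x * t) * g := by rw [ht]; group
          _ = S.z * (g⁻¹ * x * g) := by rw [hxt, ht]; group)
      have hcm := hX (r * x * r⁻¹ * x⁻¹) (mul_mem (S.J_normal r (S.K_le hK) x hx) (inv_mem hx)) (by
        rw [show g⁻¹ * (r * x * r⁻¹ * x⁻¹) * g = a * (g⁻¹ * x * g * a⁻¹ * (g⁻¹ * x * g)⁻¹) by
          rw [hr]; group]
        exact mul_mem ha (S.J_normal _ hxg _ (inv_mem ha)))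
      rw [← A.act_vec r (S.K_le hK) x hx, mul_inv_eq_one.1 hcm]
    have htK : t ∉ S.K := fun hk => ht1 (mem_centralizer_singleton_iff.1 (S.K_cent hk))
    -- every fixed vector of `t` comes from the centraliser of `t`
    have hlift : ∀ v, A.act t v = v → ∃ x ∈ S.J, x * t = t * x ∧ A.vec x = v := by
      intro v hv
      obtain ⟨j, hj, rfl⟩ := A.vec_surj v
      set w := t * j * t⁻¹ * j⁻¹ with hw
      have hwc := (A.vec_zero w (A.vec_commutator htH hj).1).1 (by
        rw [(A.vec_commutator htH hj).2, nv, hv, A.add_self])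
      have e1 : t * j * t⁻¹ = w * j := by rw [hw]; group
      have e2 : t * w * t⁻¹ = w⁻¹ := by
        rw [hw, ht_inv, mul_inv_rev, mul_inv_rev, mul_inv_rev, inv_inv, ht_inv]
        simp only [← mul_assoc, htt, one_mul]
      rw [inv_eq_of_mul_eq_one_right (S.center_sq hwc)] at e2
      rcases hwc with e | e | e | e
      · exact ⟨j, hj, (mul_inv_eq_iff_eq_mul.1 (by rw [e1, e, one_mul])).symm, rfl⟩
      · refine ⟨j * S.z1, mul_mem hj S.z1_mem, (mul_inv_eq_iff_eq_mul.1 ?_).symm, ?_⟩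
        · rw [show t * (j * S.z1) * t⁻¹ = t * j * t⁻¹ * (t * S.z1 * t⁻¹) by group, e1, hsw, e,
            mul_assoc, ← mul_assoc j, S.z_comm (S.J_le_cent hj), mul_assoc S.z j, ← mul_assoc S.z,
            S.z_sq, one_mul]
        · exact A.vec_eq_zero_mul hj S.z1_mem A.vec_z1
      · exact absurd (by rw [e] at e2; exact mul_inv_eq_iff_eq_mul.1 e2) ht1
      · refine absurd ?_ ht1
        rw [e] at e2
        have h2 : t * (S.z * S.z1) = S.z * S.z1 * t := mul_inv_eq_iff_eq_mul.1 e2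
        rw [← mul_assoc, S.z_comm htH, mul_assoc, mul_assoc] at h2
        exact mul_left_cancel h2
    have hfixT : ∀ v, A.act t v = v → A.act r v = v := fun v hv => by
      obtain ⟨x, hx, hxt, rfl⟩ := hlift v hv
      exact hrfix x hx hxt
    have hi : ∀ v, A.act t (A.act t v) = v := fun v => by rw [← A.act_mul htH htH, htt, A.act_id]
    have lin := A.act_isom hK
    have hid : ∀ v, A.act r v = v := by
      intro v
      obtain ⟨v, rfl⟩ : ∃ u, A.act t u = v := ⟨A.act t v, hi v⟩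
      have f1 : A.act r (v + A.act t v) = v + A.act t v :=
        hfixT _ (by rw [A.act_add htH, hi, add_comm])
      have f2 : A.act r (ω • v + ω ^ 2 • A.act t v) = ω • v + ω ^ 2 • A.act t v := hfixT _ (by
        rw [A.act_add htH, A.act_outer t htH htK, A.act_outer t htH htK, hi, ← pow_mul, f4_pow S.hF,
          add_comm])
      have key : A.act t v = ω • (v + A.act t v) + (ω • v + ω ^ 2 • A.act t v) := by
        rw [smul_add, add_add_add_comm, A.add_self, zero_add, ← add_smul,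
          show ω + ω ^ 2 = 1 by rw [hω, ← add_assoc, f4_add_self S.hF, zero_add], one_smul]
      rw [key, lin.add, lin.smul, f1, f2]
    have hrJ : r ∈ S.J := (A.act_one r (S.K_le hK)).1 hid
    have := hX r hrJ (by rw [hr, show g⁻¹ * (g * a * g⁻¹) * g = a by group]; exact ha)
    calc a = g⁻¹ * r * g := by rw [hr]; group
      _ = 1 := by rw [this, mul_one, inv_mul_cancel]
  -- two nontrivial elements of `C_J(s)` whose product is nontrivial
  obtain ⟨v, hv0, hv⟩ : ∃ v, v ≠ 0 ∧ A.act s v = v := by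
    have hss : s * s = 1 := by
      rw [hs, show g⁻¹ * S.z * g * (g⁻¹ * S.z * g) = g⁻¹ * (S.z * S.z) * g by group, S.z_sq, mul_one,
        inv_mul_cancel]
    by_cases hu : va + A.act s va = 0
    · exact ⟨va, va_ne S.hF, (v_eq_of_add_zero S.hF hu).symm⟩
    · exact ⟨_, hu, by rw [A.act_add hsH, ← A.act_mul hsH hsH, hss, A.act_id, add_comm]⟩
  obtain ⟨j, hj, hjv⟩ := A.vec_surj v
  obtain ⟨x, hx, hxs, hxv⟩ : ∃ x ∈ S.J, x * s = s * x ∧ A.vec x = v := by
    set w := s * j * s⁻¹ * j⁻¹ with hw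
    have hwc := (A.vec_zero w (A.vec_commutator hsH hj).1).1 (by
      rw [(A.vec_commutator hsH hj).2, nv, hjv, hv, A.add_self])
    have hs1 : s * S.z1 * s⁻¹ = S.z * S.z1 :=
      (S.z1_conj s hsH).resolve_left fun e => hs1 (mul_inv_eq_iff_eq_mul.1 e)
    have hsinv : s⁻¹ = s := by rw [hs, mul_inv_rev, mul_inv_rev, inv_inv, S.z_inv_eq, mul_assoc]
    have hss : s * s = 1 := by
      nth_rewrite 2 [← hsinv]
      rw [mul_inv_cancel]
    have e1 : s * j * s⁻¹ = w * j := by rw [hw]; group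
    have e2 : s * w * s⁻¹ = w⁻¹ := by
      rw [hw, hsinv, mul_inv_rev, mul_inv_rev, mul_inv_rev, inv_inv, hsinv]
      simp only [← mul_assoc, hss, one_mul]
    rw [inv_eq_of_mul_eq_one_right (S.center_sq hwc)] at e2
    rcases hwc with e | e | e | e
    · exact ⟨j, hj, (mul_inv_eq_iff_eq_mul.1 (by rw [e1, e, one_mul])).symm, hjv⟩
    · refine ⟨j * S.z1, mul_mem hj S.z1_mem, (mul_inv_eq_iff_eq_mul.1 ?_).symm, ?_⟩
      · rw [show s * (j * S.z1) * s⁻¹ = s * j * s⁻¹ * (s * S.z1 * s⁻¹) by group, e1, hs1, e,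
          mul_assoc, ← mul_assoc j, S.z_comm (S.J_le_cent hj), mul_assoc S.z j, ← mul_assoc S.z,
          S.z_sq, one_mul]
      · rw [A.vec_eq_zero_mul hj S.z1_mem A.vec_z1, hjv]
    · rw [e, hs1] at e2
      exact absurd (mul_eq_right.1 e2) S.z_ne
    · rw [e, show s * (S.z * S.z1) * s⁻¹ = s * S.z * s⁻¹ * (s * S.z1 * s⁻¹) by group,
        S.z_comm hsH, mul_inv_cancel_right, hs1] at e2
      refine absurd ?_ S.z_ne
      have h2 := mul_left_cancel e2
      exact mul_eq_right.1 h2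
  have hzs : S.z * s = s * S.z := (S.z_comm hsH).symm
  have hzx : S.z * x ≠ 1 := fun e => hv0 (by
    rw [← hxv, ← eq_inv_of_mul_eq_one_right e |>.symm, S.z_inv_eq, A.vec_z])
  refine hzx ?_
  refine hrK _ (mul_mem S.z_mem hx) (by rw [mul_assoc, hxs, ← mul_assoc, hzs, mul_assoc]) ?_
  rw [show g * (S.z * x) * g⁻¹ = g * S.z * g⁻¹ * (g * x * g⁻¹) by group]
  exact S.mul_mem_K (hrH _ S.z_mem hzs) (hrH _ hx hxs) (fun hk => S.z_ne (hrK _ S.z_mem hzs hk))
    (fun hk => hv0 (by rw [← hxv, hrK _ hx hxs hk, A.vec_one]))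

end FData

end CfsgLib.Recog.Fi22Cent
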