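import Cfsg.Agent.Lib.Recog.Fi22Cent.Loc

/-!
Without an element interchanging `z₁` and `z z₁`, and with `z` isolated in the centraliser of `z z₁`,
a conjugation carrying `z` into `C(z) ∩ C(z₁)` fixes `z₁`.
-/

set_option autoImplicit false
set_option linter.unusedSectionVars false

namespace CfsgLib.Recog.Fi22Cent

open Subgroup Cfsg

variable {G : Type*} [Group G] {F : Type*} [Field F] [Fintype F]

namespace Setup

variable (S : Setup G F)

/-- Without the interchange all of `C(z)` centralises `z₁`. -/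
theorem cent_le_of_not_swap (hS : ¬ S.Swap) :
    centralizer ({S.z} : Set G) ≤ centralizer ({S.z1} : Set G) := fun g hg => by
  rcases S.z1_conj g hg with e | e
  · exact mem_centralizer_singleton_iff.2 (mul_inv_eq_iff_eq_mul.1 e)
  · exact absurd ⟨g, hg, e⟩ hS

/-- A two-subgroup of `C(z₁)` has a conjugate in `C(z)` under `C(z₁)`. -/
theorem exists_conj_into [Finite G] (hS : ¬ S.Swap) (h18 : ¬ 2 ^ 18 ∣ Nat.card G) {N : Subgroup G}
    (hN : IsPGroup 2 N) (hle : N ≤ centralizer ({S.z1} : Set G)) :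
    ∃ k ∈ centralizer ({S.z1} : Set G), ∀ x ∈ N, k * x * k⁻¹ ∈ centralizer ({S.z} : Set G) := by
  have : Fact (Nat.Prime 2) := ⟨Nat.prime_two⟩
  set H := centralizer ({S.z} : Set G)
  set C := centralizer ({S.z1} : Set G)
  have hHC : H ≤ C := S.cent_le_of_not_swap hS
  obtain ⟨P⟩ : Nonempty (Sylow 2 H) := inferInstance
  have hPc : Nat.card P = 2 ^ 17 := by
    rw [P.card_eq_multiplicity, S.card_H]
    rw [show (53084160 : ℕ) = 2 ^ 17 * 405 by norm_num, Nat.factorization_mul (by norm_num) (by norm_num),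
      Finsupp.add_apply, Nat.Prime.factorization_pow Nat.prime_two, Finsupp.single_eq_same,
      Nat.factorization_eq_zero_of_not_dvd (n := 405) (by norm_num), add_zero]
  set T : Subgroup C := ((P : Subgroup H).map H.subtype).subgroupOf C with hT
  have hTc : Nat.card T = 2 ^ 17 := by
    rw [hT, Nat.card_congr (subgroupOfEquivOfLe (le_trans (map_subtype_le _) hHC)).toEquiv,
      Nat.card_congr (Subgroup.equivMapOfInjective _ _ H.subtype_injective).toEquiv.symm, hPc]
  have hfac : (Nat.card C).factorization 2 = 17 := by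
    have hpos : Nat.card C ≠ 0 := Nat.card_pos.ne'
    refine le_antisymm ?_ ((Nat.prime_two.pow_dvd_iff_le_factorization hpos).1 (hTc ▸ card_subgroup_dvd_card T))
    by_contra hlt
    exact h18 (((Nat.prime_two.pow_dvd_iff_le_factorization hpos).2 (by omega)).trans (card_subgroup_dvd_card C))
  let TS : Sylow 2 C := Sylow.ofCard T (by rw [hTc, hfac])
  obtain ⟨Q, hQ⟩ := (hN.comap_of_injective C.subtype C.subtype_injective).exists_le_sylow
  obtain ⟨k, hk⟩ := MulAction.exists_smul_eq C Q TS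
  refine ⟨k, k.2, fun x hx => ?_⟩
  have hmem : (⟨x, hle hx⟩ : C) ∈ (Q : Subgroup C) := hQ hx
  have h2 : k * ⟨x, hle hx⟩ * k⁻¹ ∈ (T : Subgroup C) := by
    have hh : k * ⟨x, hle hx⟩ * k⁻¹ ∈ ((k • Q : Sylow 2 C) : Subgroup C) :=
      ⟨⟨x, hle hx⟩, hmem, rfl⟩
    rw [hk] at hh
    exact hh
  rw [hT, mem_subgroupOf] at h2
  exact map_subtype_le _ h2

end Setup

namespace FData

variable {S : Setup G F} (A : FData S)
include A

/-- **A conjugation carrying `z` into `C(z) ∩ C(z₁)` fixes `z₁`.** -/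
theorem mixed [Finite G] (hS : ¬ S.Swap) (h' : S.flip.Iso) (hz1 : ¬ IsConj S.z S.z1)
    (hz12 : ¬ IsConj S.z (S.z * S.z1)) (hns : ¬ IsConj S.z1 (S.z * S.z1)) (h18 : ¬ 2 ^ 18 ∣ Nat.card G)
    {g : G} (ht : g * S.z * g⁻¹ ∈ centralizer ({S.z} : Set G) ⊓ centralizer ({S.z1} : Set G)) :
    g * S.z1 * g⁻¹ = S.z1 := by
  have ht1 := mem_centralizer_singleton_iff.1 ht.2
  -- the image of the centraliser in `J` of the preimage of `z₁` is moved into `C(z)`
  set N : Subgroup G := (S.J ⊓ centralizer ({g⁻¹ * S.z1 * g} : Set G)).map (MulAut.conj g).toMonoidHom with hN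
  have hNC : N ≤ centralizer ({S.z1} : Set G) := by
    rintro _ ⟨x, hx, rfl⟩
    refine mem_centralizer_singleton_iff.2 ?_
    show g * x * g⁻¹ * S.z1 = S.z1 * (g * x * g⁻¹)
    calc g * x * g⁻¹ * S.z1 = g * (x * (g⁻¹ * S.z1 * g)) * g⁻¹ := by group
      _ = S.z1 * (g * x * g⁻¹) := by rw [mem_centralizer_singleton_iff.1 hx.2]; group
  have hNp : IsPGroup 2 N := by
    refine ((IsPGroup.of_card (n := 10) (by rw [S.card_J]; norm_num)).to_le inf_le_left).map _
  obtain ⟨k, hk, hkN⟩ := S.exists_conj_into hS h18 hNp hNC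
  have hkz1 : k * S.z1 * k⁻¹ = S.z1 := by
    rw [mem_centralizer_singleton_iff.1 hk, mul_inv_cancel_right]
  suffices hgoal : k * g * S.z1 * (k * g)⁻¹ = S.z1 by
    rw [show k * g * S.z1 * (k * g)⁻¹ = k * (g * S.z1 * g⁻¹) * k⁻¹ by group] at hgoal
    exact mul_left_cancel (mul_right_cancel (hgoal.trans hkz1.symm))
  have hyeq : (k * g)⁻¹ * S.z1 * (k * g) = g⁻¹ * S.z1 * g := by
    calc (k * g)⁻¹ * S.z1 * (k * g) = g⁻¹ * (k⁻¹ * (S.z1 * k)) * g := by group
      _ = g⁻¹ * S.z1 * g := by rw [← mem_centralizer_singleton_iff.1 hk]; group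
  have hmem : ∀ x ∈ S.J, x * (g⁻¹ * S.z1 * g) = g⁻¹ * S.z1 * g * x →
      k * g * x * (k * g)⁻¹ ∈ centralizer ({S.z} : Set G) := fun x hx hxy => by
    rw [show k * g * x * (k * g)⁻¹ = k * (g * x * g⁻¹) * k⁻¹ by group]
    exact hkN _ ⟨x, ⟨hx, mem_centralizer_singleton_iff.2 hxy⟩, rfl⟩
  have ht' : k * g * S.z * (k * g)⁻¹ ∈ centralizer ({S.z} : Set G) := hmem S.z S.z_mem (by
    calc S.z * (g⁻¹ * S.z1 * g) = g⁻¹ * (g * S.z * g⁻¹ * S.z1) * g := by group
      _ = g⁻¹ * S.z1 * g * S.z := by rw [ht1]; group)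
  have hle := S.cent_le_of_not_swap hS
  set g' := k * g
  have ht1' : g' * S.z * g'⁻¹ * S.z1 = S.z1 * (g' * S.z * g'⁻¹) :=
    mem_centralizer_singleton_iff.1 (hle ht')
  have hflip : S.z * (S.z * S.z1) = S.z1 := by rw [← mul_assoc, S.z_sq, one_mul]
  have hz1' : g' * S.z * g'⁻¹ * (S.z * S.z1) = S.z * S.z1 * (g' * S.z * g'⁻¹) :=
    ((Commute.mul_right (S.z_comm ht' : Commute _ S.z) (ht1' : Commute _ S.z1))).eq
  have L := S.flip.loc_of_conj h' ht' hz1' (fun x hx hxy => by
    change x * (g'⁻¹ * (S.z * (S.z * S.z1)) * g') = g'⁻¹ * (S.z * (S.z * S.z1)) * g' * x at hxy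
    rw [hflip, hyeq] at hxy
    have h1 := mem_centralizer_singleton_iff.1 (hmem x hx hxy)
    show x * (g'⁻¹ * S.z * g') = g'⁻¹ * S.z * g' * x
    calc x * (g'⁻¹ * S.z * g') = g'⁻¹ * (g' * x * g'⁻¹ * S.z) * g' := by group
      _ = g'⁻¹ * S.z * g' * x := by rw [h1]; group)
  -- the same coordinates serve for the flipped setup
  let A' : FData S.flip :=
    { vec := A.vec
      vec_mul := A.vec_mul
      vec_surj := A.vec_surj
      vec_zero := fun x hx => by
        show A.vec x = 0 ↔ x = 1 ∨ x = S.z ∨ x = S.z * S.z1 ∨ x = S.z * (S.z * S.z1)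
        rw [hflip, A.vec_zero x hx]
        tauto
      sq_iff := A.sq_iff
      comm_iff := A.comm_iff
      act := A.act
      act_vec := A.act_vec
      act_one := A.act_one
      act_inner := A.act_inner
      act_surj := A.act_surj
      act_outer := A.act_outer
      act_form := A.act_form }
  have back : ∀ {a b : G}, g'⁻¹ * a * g' = b → g' * b * g'⁻¹ = a := fun e => by rw [← e]; group
  have conj : ∀ {a b : G}, g'⁻¹ * a * g' = b → IsConj a b := fun e => isConj_iff.2 ⟨g'⁻¹, by rw [inv_inv, e]⟩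
  have one_ne : ∀ {a : G}, a ≠ 1 → g'⁻¹ * a * g' ≠ 1 := fun ha e => ha (by
    have := back e; rwa [mul_one, mul_inv_cancel, eq_comm] at this)
  have fixed : g' * S.z * g'⁻¹ = S.z → g' * S.z1 * g'⁻¹ = S.z1 := fun e =>
    (S.z1_conj g' (mem_centralizer_singleton_iff.2 (mul_inv_eq_iff_eq_mul.1 e))).resolve_right fun e' =>
      hS ⟨g', mem_centralizer_singleton_iff.2 (mul_inv_eq_iff_eq_mul.1 e), e'⟩
  have hprod : g'⁻¹ * S.z * g' * (g'⁻¹ * (S.z * S.z1) * g') = g'⁻¹ * S.z1 * g' := by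
    conv_rhs => rw [← hflip]
    group
  rcases A'.loc_center L with hc | hc | hc
  · rcases A.cases_of_vec hc with e | e | e | e <;> change g'⁻¹ * S.z * g' = _ at e
    · exact absurd e (one_ne S.z_ne)
    · exact fixed (back e)
    · exact absurd (conj e) hz1
    · exact absurd (conj e) hz12
  · rcases A.cases_of_vec hc with e | e | e | e <;> change g'⁻¹ * (S.z * S.z1) * g' = _ at e
    · exact absurd e (one_ne S.flip.z1_ne)
    · exact absurd (conj e).symm hz12
    · exact absurd (conj e).symm hns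
    · refine fixed (h' g' (mem_centralizer_singleton_iff.2 ?_) (S.z_comm ht' : Commute _ S.z))
      exact mul_inv_eq_iff_eq_mul.1 (back e)
  · change g'⁻¹ * S.z * g' * (g'⁻¹ * (S.z * S.z1) * g') ∈ S.J ∧
      A.vec (g'⁻¹ * S.z * g' * (g'⁻¹ * (S.z * S.z1) * g')) = 0 at hc
    rw [hprod] at hc
    rcases A.cases_of_vec hc with e | e | e | e
    · exact absurd e (one_ne S.z1_ne)
    · exact absurd (conj e).symm hz1
    · exact back e
    · exact absurd (conj e) hns

end FData

end CfsgLib.Recog.Fi22Cent
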