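import Cfsg.Agent.Lib.Recog.Fi22Cent.Basic
import Cfsg.Agent.Lib.Recog.U6Cent.Wrap
import Cfsg.Agent.Lib.Recog.U6Cent.NatAct

/-!
First facts: `z` is conjugate neither to `z₁` nor to `z z₁`, a Sylow subgroup of `C(z)` is one of the group, and
`C(z)` has no odd normal subgroup.
-/

set_option autoImplicit false
set_option linter.unusedSectionVars false

namespace CfsgLib.Recog.Fi22Cent

open Subgroup Cfsg

variable {G : Type*} [Group G] [Finite G] {F : Type*} [Field F] [Fintype F]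

theorem su_four_simple (hF : Fintype.card F = 4) : IsSimpleGroup (SU 4 F 2) := by
  have hF' : Fintype.card F = 2 ^ 2 := hF
  haveI := CfsgLib.Classical.isSimpleGroup_psu hF' (n := 4) (by norm_num) (by norm_num)
  obtain ⟨e⟩ := U6Cent.nonempty_psu_four hF
  exact e.symm.isSimpleGroup

namespace Setup

variable (S : Setup G F)

theorem J_cent {x : G} (hx : x ∈ S.J) : x ∈ centralizer ({S.z} : Set G) := S.K_le (S.J_le hx)

theorem z_inv : S.z⁻¹ = S.z := inv_eq_of_mul_eq_one_right S.z_sq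

theorem z1_inv : S.z1⁻¹ = S.z1 := inv_eq_of_mul_eq_one_right S.z1_sq

theorem z_comm_z1 : S.z * S.z1 = S.z1 * S.z := S.z1_central _ S.z_mem

theorem z_cent1 : S.z ∈ centralizer ({S.z1} : Set G) := mem_centralizer_singleton_iff.2 S.z_comm_z1

theorem zz1_sq : (S.z * S.z1) * (S.z * S.z1) = 1 := by
  rw [mul_assoc, ← mul_assoc S.z1, ← S.z_comm_z1, mul_assoc S.z, S.z1_sq, mul_one, S.z_sq]

theorem zz1_ne : S.z * S.z1 ≠ 1 := fun e => S.z1_ne_z (by
  calc S.z1 = S.z * S.z * S.z1 := by rw [S.z_sq, one_mul]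
    _ = S.z := by rw [mul_assoc, e, mul_one])

theorem zz1_ne_z : S.z * S.z1 ≠ S.z := fun e => S.z1_ne (mul_eq_left.1 e)

theorem zz1_ne_z1 : S.z * S.z1 ≠ S.z1 := fun e => S.z_ne (mul_eq_right.1 e)

/-- The group `{1, z, z₁, z z₁}` in terms of membership. -/
def InW (x : G) : Prop := x = 1 ∨ x = S.z ∨ x = S.z1 ∨ x = S.z * S.z1

theorem isPGroup_J : IsPGroup 2 S.J := IsPGroup.of_card (n := 10) (by rw [S.card_J]; norm_num)

theorem card_W_le : {x : G | S.InW x}.ncard ≤ 4 := by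
  classical
  have h : {x : G | S.InW x} ⊆ ↑({1, S.z, S.z1, S.z * S.z1} : Finset G) := fun x hx => by
    simpa [InW] using hx
  exact (Set.ncard_le_ncard h (Set.toFinite _)).trans (by rw [Set.ncard_coe_finset]; exact Finset.card_le_four)

/-- No abelian subgroup of `J` has index at most two. -/
theorem not_abelian_half (A : Subgroup G) (hA : A ≤ S.J) (hc : 512 ≤ Nat.card A)
    (hab : ∀ x ∈ A, ∀ y ∈ A, x * y = y * x) : False := by
  classical
  by_cases hA' : A = S.J
  · have h : ((S.J : Subgroup G) : Set G) ⊆ {x | S.InW x} := fun x hx =>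
      S.center x hx fun y hy => hab x (hA'.symm ▸ hx) y (hA'.symm ▸ hy)
    have := (Set.ncard_le_ncard h (Set.toFinite _)).trans S.card_W_le
    rw [← Nat.card_coe_set_eq] at this
    have hj := S.card_J
    change Nat.card S.J ≤ 4 at this
    omega
  obtain ⟨j, hj, hjA⟩ := SetLike.exists_of_lt (lt_of_le_of_ne hA hA')
  have hidx : A.relIndex S.J = 2 := by
    have h := (A.subgroupOf S.J).index_mul_card
    rw [Nat.card_congr (subgroupOfEquivOfLe hA).toEquiv, S.card_J] at h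
    change A.relIndex S.J * _ = _ at h
    have h1 : A.relIndex S.J ≠ 1 := fun e => hA' (le_antisymm hA (relIndex_eq_one.1 e))
    have h2 : A.relIndex S.J ≠ 0 := fun e => by rw [e, zero_mul] at h; omega
    by_contra h3
    have := Nat.mul_le_mul (show 3 ≤ A.relIndex S.J by omega) hc
    omega
  have hcover : ∀ y ∈ S.J, y ∈ A ∨ ∃ a ∈ A, y = j * a := fun y hy => by
    by_cases hyA : y ∈ A
    · exact Or.inl hyA
    refine Or.inr ⟨j⁻¹ * y, ?_, by rw [mul_inv_cancel_left]⟩
    have := (mul_mem_iff_of_index_two hidx (a := (⟨j⁻¹, inv_mem hj⟩ : S.J)) (b := ⟨y, hy⟩))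
    simp only [mem_subgroupOf, coe_mul] at this
    exact this.2 ⟨fun h => absurd (inv_mem_iff.1 h) hjA, fun h => absurd h hyA⟩
  set B := A ⊓ centralizer ({j} : Set G) with hB
  have hBW : (B : Set G) ⊆ {x | S.InW x} := fun x hx => by
    obtain ⟨hxA, hxj⟩ := mem_inf.1 hx
    refine S.center x (hA hxA) fun y hy => ?_
    rcases hcover y hy with h | ⟨a, ha, rfl⟩
    · exact hab x hxA y h
    · rw [← mul_assoc, mem_centralizer_singleton_iff.1 hxj, mul_assoc, hab x hxA a ha, ← mul_assoc]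
  have hB4 : Nat.card B ≤ 4 := by
    change Nat.card (B : Set G) ≤ 4
    rw [Nat.card_coe_set_eq]
    exact (Set.ncard_le_ncard hBW (Set.toFinite _)).trans S.card_W_le
  -- `a ↦ [a, j]` takes two values
  obtain ⟨φ, hφ⟩ : ∃ φ : A → Bool, ∀ a : A, φ a = decide ((a : G) * j = j * a) :=
    ⟨fun a => decide ((a : G) * j = j * a), fun _ => rfl⟩
  have hhalf : ∀ a b : A, φ a = φ b → (a : G)⁻¹ * b ∈ B := fun a b e => by
    refine mem_inf.2 ⟨mul_mem (inv_mem a.2) b.2, mem_centralizer_singleton_iff.2 ?_⟩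
    rw [hφ, hφ, decide_eq_decide] at e
    have hz : ∀ x ∈ S.J, x * S.z = S.z * x := fun x hx => mem_centralizer_singleton_iff.1 (S.J_cent hx)
    by_cases h : (a : G) * j = j * a
    · have h' := e.1 h
      calc (a : G)⁻¹ * b * j = (a : G)⁻¹ * (j * b) := by rw [mul_assoc, h']
        _ = (a : G)⁻¹ * (j * a) * (a : G)⁻¹ * b := by group
        _ = (a : G)⁻¹ * ((a : G) * j) * (a : G)⁻¹ * b := by rw [h]
        _ = j * ((a : G)⁻¹ * b) := by group
    · have h' : ¬ (b : G) * j = j * b := fun x => h (e.2 x)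
      have ea := (S.comm_or _ (hA a.2) _ hj).resolve_left h
      have eb := (S.comm_or _ (hA b.2) _ hj).resolve_left h'
      calc (a : G)⁻¹ * b * j = (a : G)⁻¹ * (j * (b * S.z)) := by rw [mul_assoc, eb, mul_assoc]
        _ = (a : G)⁻¹ * (j * (S.z * b)) := by rw [hz _ (hA b.2)]
        _ = (a : G)⁻¹ * ((j * a) * ((a : G)⁻¹ * S.z)) * b := by group
        _ = (a : G)⁻¹ * ((a : G) * j * S.z * ((a : G)⁻¹ * S.z)) * b := by
          rw [ea, mul_assoc _ S.z S.z, S.z_sq, mul_one]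
        _ = j * (S.z * (a : G)⁻¹) * (S.z * b) := by group
        _ = j * ((a : G)⁻¹ * b) := by
          rw [← hz _ (inv_mem (hA a.2)), mul_assoc, mul_assoc, ← mul_assoc S.z S.z, S.z_sq, one_mul]
  obtain ⟨f, hf⟩ : ∃ f : A → Bool × B, Function.Injective f := by
    have hsec : ∀ c : Bool, ∃ a0 : A, ∀ a : A, φ a = c → φ a0 = c := fun c => by
      by_cases h : ∃ a : A, φ a = c
      · obtain ⟨a, ha⟩ := h; exact ⟨a, fun _ _ => ha⟩
      · exact ⟨1, fun a ha => absurd ⟨a, ha⟩ h⟩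
    choose a0 ha0 using hsec
    refine ⟨fun a => (φ a, ⟨(a0 (φ a) : G)⁻¹ * a, hhalf _ _ (ha0 _ a rfl)⟩), fun a b e => ?_⟩
    simp only [Prod.mk.injEq, Subtype.mk.injEq] at e
    rw [e.1] at e
    exact Subtype.ext (mul_left_cancel e.2)
  have := Nat.card_le_card_of_injective f hf
  rw [Nat.card_prod, Nat.card_eq_fintype_card (α := Bool), Fintype.card_bool] at this
  omega

theorem K_map (g : G) : Nat.card (S.K.map (MulAut.conj g).toMonoidHom) = 26542080 := by
  rw [← S.card_K]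
  exact Nat.card_congr (S.K.equivMapOfInjective _ (MulAut.conj g).injective).toEquiv.symm

/-- A two-group inside `K` normalised by a subgroup of `K` of index at most two lies in `J`. -/
theorem two_le_J (N R : Subgroup G) (hN : N ≤ S.K) (hRN : R ≤ N) (hR : IsPGroup 2 R)
    (hnK : ∀ g ∈ S.K, ∀ x ∈ N, g * x * g⁻¹ ∈ N) (hidx : N.relIndex S.K ≤ 2)
    (hn : ∀ g ∈ N, ∀ x ∈ R, g * x * g⁻¹ ∈ R) : R ≤ S.J := by
  haveI := su_four_simple S.hF
  haveI : Finite (SU 4 F 2) := Finite.of_surjective _ S.psi_surj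
  let N' : Subgroup S.K := N.subgroupOf S.K
  haveI : N'.Normal := ⟨fun x hx g => hnK g g.2 x hx⟩
  have hNn : (N'.map S.psi).Normal := Subgroup.Normal.map inferInstance _ S.psi_surj
  have hc : Nat.card (SU 4 F 2) = 25920 := U6Cent.card_su_four S.hF
  have htop : N'.map S.psi = ⊤ := by
    rcases hNn.eq_bot_or_eq_top with h | h
    · exfalso
      have h1 : (N'.map S.psi).index ∣ N'.index := index_map_dvd _ S.psi_surj
      rw [h, index_bot, hc] at h1
      have h2 : N'.index ≠ 0 := index_ne_zero_of_finite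
      have := Nat.le_of_dvd (Nat.pos_of_ne_zero h2) h1
      change 25920 ≤ N.relIndex S.K at this
      omega
    · exact h
  let R' : Subgroup S.K := R.subgroupOf S.K
  have hRn : (R'.map S.psi).Normal := ⟨fun x hx s => by
    obtain ⟨r, hr, rfl⟩ := hx
    obtain ⟨n, hnn, rfl⟩ := (htop ▸ mem_top s : s ∈ N'.map S.psi)
    refine ⟨n * r * n⁻¹, hn n hnn r hr, ?_⟩
    rw [map_mul, map_mul, map_inv]⟩
  have hR' : IsPGroup 2 (R'.map S.psi) :=
    (hR.of_equiv (subgroupOfEquivOfLe (hRN.trans hN)).symm).map _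
  rcases hRn.eq_bot_or_eq_top with h | h
  · intro x hx
    refine (S.psi_ker ⟨x, hN (hRN hx)⟩).1 ?_
    have : S.psi ⟨x, hN (hRN hx)⟩ ∈ R'.map S.psi := mem_map_of_mem _ hx
    rwa [h, mem_bot] at this
  · exfalso
    rw [h] at hR'
    obtain ⟨n, hn⟩ := IsPGroup.iff_card.1 hR'
    rw [card_top, hc] at hn
    have : 3 ∣ 2 ^ n := hn ▸ (by norm_num)
    exact absurd (Nat.prime_three.dvd_of_dvd_pow this) (by norm_num)

theorem not_conj : ¬ IsConj S.z S.z1 := by
  intro hc
  obtain ⟨g, hg⟩ := isConj_iff.1 hc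
  set φ := (MulAut.conj g).toMonoidHom
  have hφ : ∀ x, φ x = g * x * g⁻¹ := fun x => rfl
  set K' := S.K.map φ with hK'
  set J' := S.J.map φ with hJ'
  set C := centralizer ({S.z1} : Set G)
  have hmapC : (centralizer ({S.z} : Set G)).map φ = C := by
    ext x
    constructor
    · rintro ⟨y, hy, rfl⟩
      rw [mem_centralizer_singleton_iff, hφ, ← hg]
      calc g * y * g⁻¹ * (g * S.z * g⁻¹) = g * (y * S.z) * g⁻¹ := by group
        _ = g * (S.z * y) * g⁻¹ := by rw [mem_centralizer_singleton_iff.1 hy]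
        _ = g * S.z * g⁻¹ * (g * y * g⁻¹) := by group
    · intro hx
      refine ⟨g⁻¹ * x * g, mem_centralizer_singleton_iff.2 ?_, by rw [hφ]; group⟩
      have h := mem_centralizer_singleton_iff.1 hx
      rw [← hg] at h
      calc g⁻¹ * x * g * S.z = g⁻¹ * (x * (g * S.z * g⁻¹)) * g := by group
        _ = S.z * (g⁻¹ * x * g) := by rw [h]; group
  have hK'C : K' ≤ C := hmapC ▸ map_mono S.K_le
  have hK'n : ∀ c ∈ C, ∀ x ∈ K', c * x * c⁻¹ ∈ K' := by
    rw [← hmapC]
    rintro _ ⟨c, hc, rfl⟩ _ ⟨x, hx, rfl⟩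
    exact ⟨c * x * c⁻¹, S.K_normal c hc x hx, by simp⟩
  have hJ'n : ∀ c ∈ C, ∀ x ∈ J', c * x * c⁻¹ ∈ J' := by
    rw [← hmapC]
    rintro _ ⟨c, hc, rfl⟩ _ ⟨x, hx, rfl⟩
    exact ⟨c * x * c⁻¹, S.J_normal c hc x hx, by simp⟩
  have hidx : K'.relIndex C = 2 := by
    have h := (K'.subgroupOf C).index_mul_card
    rw [Nat.card_congr (subgroupOfEquivOfLe hK'C).toEquiv, S.K_map g, ← hmapC] at h
    rw [← Nat.card_congr ((centralizer ({S.z} : Set G)).equivMapOfInjective φ
      (MulAut.conj g).injective).toEquiv, S.card_H, hmapC] at h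
    change K'.relIndex C * _ = _ at h
    omega
  have hle : (S.K ⊓ K').relIndex S.K ≤ 2 := by
    rw [inf_relIndex_left]
    have := relIndex_le_of_le_right (H := K') S.K_cent (by rw [hidx]; norm_num)
    rw [hidx] at this
    omega
  have hJK : J' ≤ K' := map_mono S.J_le
  set A := J' ⊓ S.K with hA
  have hAJ : A ≤ S.J := by
    refine S.two_le_J (S.K ⊓ K') A inf_le_left (le_inf inf_le_right (inf_le_left.trans hJK))
      ((S.isPGroup_J.map φ).to_le inf_le_left) (fun k hk x hx => ?_) hle fun n hn x hx => ?_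
    · exact mem_inf.2 ⟨mul_mem (mul_mem hk (mem_inf.1 hx).1) (inv_mem hk),
        hK'n k (S.K_cent hk) x (mem_inf.1 hx).2⟩
    · exact mem_inf.2 ⟨hJ'n n (S.K_cent (mem_inf.1 hn).1) x (mem_inf.1 hx).1,
        mul_mem (mul_mem (mem_inf.1 hn).1 (mem_inf.1 hx).2) (inv_mem (mem_inf.1 hn).1)⟩
  refine S.not_abelian_half A hAJ ?_ fun x hx y hy => ?_
  · have h1 : A.relIndex J' ≤ 2 := by
      rw [hA, inf_relIndex_left]
      have hKC : S.K.relIndex C = 2 := by
        have h := (S.K.subgroupOf C).index_mul_card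
        rw [Nat.card_congr (subgroupOfEquivOfLe S.K_cent).toEquiv, S.card_K, ← hmapC,
          ← Nat.card_congr ((centralizer ({S.z} : Set G)).equivMapOfInjective φ
          (MulAut.conj g).injective).toEquiv, S.card_H, hmapC] at h
        change S.K.relIndex C * _ = _ at h
        omega
      have := relIndex_le_of_le_right (H := S.K) (hJK.trans hK'C) (by rw [hKC]; norm_num)
      rw [hKC] at this
      omega
    have h := (A.subgroupOf J').index_mul_card
    rw [Nat.card_congr (subgroupOfEquivOfLe (inf_le_left : A ≤ J')).toEquiv,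
      ← Nat.card_congr (S.J.equivMapOfInjective φ (MulAut.conj g).injective).toEquiv, S.card_J] at h
    change A.relIndex J' * _ = _ at h
    nlinarith
  · rcases S.comm_or x (hAJ hx) y (hAJ hy) with e | e
    · exact e
    exfalso
    obtain ⟨x', hx', rfl⟩ := (mem_inf.1 hx).1
    obtain ⟨y', hy', rfl⟩ := (mem_inf.1 hy).1
    rcases S.comm_or x' hx' y' hy' with e' | e'
    · rw [← map_mul, e', map_mul] at e
      exact S.z_ne (mul_eq_left.1 e.symm)
    · rw [← map_mul, e', map_mul, map_mul, mul_right_inj, hφ S.z, hg] at e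
      exact S.z1_ne_z e

theorem not_conj' : ¬ IsConj S.z (S.z * S.z1) := S.flip.not_conj

theorem cent_inf_of_not_swap (h : ¬ S.Swap) :
    centralizer ({S.z1} : Set G) ⊓ centralizer ({S.z} : Set G) = centralizer ({S.z} : Set G) :=
  inf_eq_right.2 fun g hg => mem_centralizer_singleton_iff.2 <| by
    rcases S.z1_conj g hg with e | e
    · exact mul_inv_eq_iff_eq_mul.1 e
    · exact absurd ⟨g, hg, e⟩ h

theorem cent_inf_of_swap (h : S.Swap) :
    centralizer ({S.z1} : Set G) ⊓ centralizer ({S.z} : Set G) = S.K := by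
  refine le_antisymm (fun g hg => ?_) (le_inf S.K_cent S.K_le)
  obtain ⟨h1, h2⟩ := mem_inf.1 hg
  by_contra hgK
  obtain ⟨k, hk, hk'⟩ := h
  have hidx : S.K.relIndex (centralizer ({S.z} : Set G)) = 2 := by
    have h := (S.K.subgroupOf (centralizer ({S.z} : Set G))).index_mul_card
    rw [Nat.card_congr (subgroupOfEquivOfLe S.K_le).toEquiv, S.card_K, S.card_H] at h
    change S.K.relIndex _ * _ = _ at h
    omega
  have hne : k ∉ S.K := fun hkK => S.zz1_ne_z1 (by
    rw [← hk', mem_centralizer_singleton_iff.1 (S.K_cent hkK), mul_inv_cancel_right])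
  have h3 := (mul_mem_iff_of_index_two hidx (a := (⟨g⁻¹, inv_mem h2⟩ : centralizer ({S.z} : Set G)))
    (b := ⟨k, hk⟩))
  simp only [mem_subgroupOf, coe_mul, inv_mem_iff] at h3
  have h4 := S.K_cent (h3.2 ⟨fun h => absurd h hgK, fun h => absurd h hne⟩)
  have h5 := mul_mem h1 h4
  rw [mul_inv_cancel_left] at h5
  exact S.zz1_ne_z1 (by rw [← hk', mem_centralizer_singleton_iff.1 h5, mul_inv_cancel_right])

theorem card_cent_inf :
    Nat.card (centralizer ({S.z1} : Set G) ⊓ centralizer ({S.z} : Set G) : Subgroup G) = 26542080 ∨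
    Nat.card (centralizer ({S.z1} : Set G) ⊓ centralizer ({S.z} : Set G) : Subgroup G) = 53084160 := by
  by_cases h : S.Swap
  · exact Or.inl (by rw [S.cent_inf_of_swap h, S.card_K])
  · exact Or.inr (by rw [S.cent_inf_of_not_swap h, S.card_H])

/-- `C(z)` has no nontrivial normal subgroup of odd order. -/
theorem no_odd (N : Subgroup G) (hN : N ≤ centralizer ({S.z} : Set G)) (hodd : Odd (Nat.card N))
    (hn : ∀ g ∈ S.J, ∀ x ∈ N, g * x * g⁻¹ ∈ N) : N = ⊥ := by
  have hbot : N ⊓ S.J = ⊥ := by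
    refine inf_eq_bot_of_coprime ?_
    rw [S.card_J, show (1024 : ℕ) = 2 ^ 10 by norm_num]
    exact Nat.Coprime.pow_right _ (Nat.coprime_two_right.2 hodd)
  refine (eq_bot_iff).2 fun x hx => ?_
  rw [← hbot]
  refine mem_inf.2 ⟨hx, S.self_cent (mem_inf.2 ⟨hN hx, mem_centralizer_iff.2 fun j hj => ?_⟩)⟩
  have h : j * x * j⁻¹ * x⁻¹ ∈ N ⊓ S.J := mem_inf.2 ⟨mul_mem (hn j hj x hx) (inv_mem hx), by
    rw [show j * x * j⁻¹ * x⁻¹ = j * (x * j⁻¹ * x⁻¹) by group]
    exact mul_mem hj (S.J_normal x (hN hx) _ (inv_mem hj))⟩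
  rw [hbot, mem_bot, mul_inv_eq_one, mul_inv_eq_iff_eq_mul] at h
  exact h

/-- Isolation in `C(z₁)`: products with conjugates have odd order. -/
theorem Iso.odd {S : Setup G F} (h : S.Iso) {x : G} (hx : x ∈ centralizer ({S.z1} : Set G)) :
    Odd (orderOf (S.z * (x * S.z * x⁻¹))) := by
  set y := x * S.z * x⁻¹ with hy
  set r := S.z * y with hr
  have hyy : y * y = 1 := by rw [hy]; simp [mul_assoc, S.z_sq, ← mul_assoc S.z]
  have hrz : S.z * r * S.z⁻¹ = r⁻¹ := by
    rw [hr, S.z_inv, mul_inv_rev, S.z_inv, inv_eq_of_mul_eq_one_right hyy, ← mul_assoc, S.z_sq, one_mul]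
  have hsw : ∀ j : ℤ, S.z * r ^ j = r ^ (-j) * S.z := fun j => by
    have h := map_zpow (MulAut.conj S.z) r j
    rw [MulAut.conj_apply, MulAut.conj_apply, hrz, inv_zpow', mul_inv_eq_iff_eq_mul] at h
    exact h
  have hconj : ∀ j : ℤ, r ^ j * S.z * (r ^ j)⁻¹ = r ^ (2 * j) * S.z := fun j => by
    rw [mul_assoc, ← zpow_neg, hsw, neg_neg, ← mul_assoc, ← zpow_add, two_mul]
  have hy1 : y ∈ centralizer ({S.z1} : Set G) := mul_mem (mul_mem hx S.z_cent1) (inv_mem hx)
  have hr1 : r ∈ centralizer ({S.z1} : Set G) := mul_mem S.z_cent1 hy1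
  rw [← Nat.not_even_iff_odd]
  rintro ⟨m, hm⟩
  have hr0 : 0 < orderOf r := orderOf_pos r
  have hm1 : r ^ (m : ℤ) ≠ 1 := by
    rw [zpow_natCast]; exact pow_ne_one_of_lt_orderOf (by omega) (by omega)
  have hmm : r ^ (-(m : ℤ)) = r ^ (m : ℤ) := by
    rw [zpow_neg]
    exact inv_eq_of_mul_eq_one_right (by
      rw [← zpow_add, ← Nat.cast_add, ← hm, zpow_natCast, pow_orderOf_eq_one])
  have hne : r ^ (m : ℤ) * S.z ≠ S.z := fun e => hm1 (mul_eq_right.1 e)
  have hcom : Commute (r ^ (m : ℤ) * S.z) S.z := by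
    refine Commute.mul_left ?_ (Commute.refl _)
    show r ^ (m : ℤ) * S.z = S.z * r ^ (m : ℤ)
    rw [hsw, hmm]
  rcases Nat.even_or_odd m with ⟨l, hl⟩ | ⟨l, hl⟩
  · have e : r ^ (m : ℤ) * S.z = r ^ (l : ℤ) * S.z * (r ^ (l : ℤ))⁻¹ := by
      rw [hconj, hl]; push_cast; ring_nf
    exact hne (by rw [e] at hcom ⊢; exact h _ (zpow_mem hr1 _) hcom)
  · -- a conjugate of `y`
    set w := r ^ ((l : ℤ) + 1) with hw
    have e : r ^ (m : ℤ) * S.z = w * y * w⁻¹ := by
      have hy' : y = S.z * r := by rw [hr, ← mul_assoc, S.z_sq, one_mul]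
      rw [hy', hw, mul_assoc, mul_assoc, ← zpow_neg, ← zpow_one_add, hsw, ← mul_assoc, ← zpow_add, hl]
      congr 2
      push_cast; ring
    have e2 : w * y * w⁻¹ = (w * x) * S.z * (w * x)⁻¹ := by rw [hy]; group
    exact hne (by rw [e, e2] at hcom ⊢; exact h _ (mul_mem (zpow_mem hr1 _) hx) hcom)

end Setup

end CfsgLib.Recog.Fi22Cent
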