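import Cfsg.Agent.Lib.Recog.Fi22Cent.RedLift
import Cfsg.Agent.Lib.Recog.Fi22Cent.RedIsolated
import Cfsg.Agent.Lib.Recog.Fi22Cent.SetupFacts
import Cfsg.Prelude.Def_TwoFusion

/-!
In the reducible case `z` is an isolated involution of `G`.
-/

set_option autoImplicit false
set_option linter.unusedSectionVars false

namespace CfsgLib.Recog.Fi22Cent

open Subgroup Cfsg U6Cent U6Cent.Red

variable {G : Type*} [Group G] [Finite G] {F : Type*} [Field F] [Fintype F]

namespace Setup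

variable (S : Setup G F)

theorem rw_iff {x : G} : S.RW x ↔ x ∈ S.J ∧ ∀ y ∈ S.J, x * y = y * x :=
  ⟨fun h => ⟨h.mem_oddFix.1, fun y hy => (h.fixed (S.J_le_cent hy) (S.z1_central y hy)).symm⟩,
    fun h => S.center x h.1 h.2⟩

theorem RW.mul {S : Setup G F} {x y : G} (hx : S.RW x) (hy : S.RW y) : S.RW (x * y) := by
  rw [rw_iff] at *
  exact ⟨mul_mem hx.1 hy.1, fun u hu => by rw [mul_assoc, hy.2 u hu, ← mul_assoc, hx.2 u hu, mul_assoc]⟩

theorem RW.inv {S : Setup G F} {x : G} (hx : S.RW x) : S.RW x⁻¹ := by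
  rw [rw_iff] at *
  exact ⟨inv_mem hx.1, fun u hu => (show Commute x u from hx.2 u hu).inv_left.eq⟩

theorem rw_sq {x : G} (hx : x ∈ S.J) : S.RW (x * x) := by
  rcases S.sq_or x hx with h | h
  exacts [Or.inl h, Or.inr (Or.inl h)]

end Setup

namespace RedPre

variable {S : Setup G F} (P : RedPre S)
include P

theorem card_lifts : Nat.card P.lifts = 128 := by
  let φ : P.lifts →* Multiplicative V6 := MonoidHom.mk' (fun x => Multiplicative.ofAdd (P.vec x)) fun x y => by
    rw [← ofAdd_add, ← P.vec_mul _ (P.lifts_le x.2) _ (P.lifts_le y.2)]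
    rfl
  have hk : Nat.card φ.ker = 2 := by
    have h : φ.ker = (zpowers S.z).subgroupOf P.lifts := by
      ext x
      rw [MonoidHom.mem_ker, MonoidHom.mk'_apply, ofAdd_eq_one, P.lifts_vec_zero x.2, mem_subgroupOf, S.mem_zpow_z]
    rw [h, Nat.card_congr (subgroupOfEquivOfLe (zpowers_le.2 P.z_mem_lifts)).toEquiv, Nat.card_zpowers,
      orderOf_eq_prime (by rw [pow_two, S.z_sq]) S.z_ne]
  have hs : Function.Surjective φ := fun v => by
    obtain ⟨x, hx, e⟩ := P.lifts_surj v.toAdd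
    exact ⟨⟨x, hx⟩, congrArg Multiplicative.ofAdd e⟩
  have h := φ.ker.index_mul_card
  rw [Subgroup.index_ker, MonoidHom.range_eq_top.2 hs, card_top, hk] at h
  have hV : Nat.card (Multiplicative V6) = 64 := by simp [Nat.card_eq_fintype_card]
  omega

/-- `J = D Q`. -/
theorem split_lifts {x : G} (hx : x ∈ S.J) : ∃ d ∈ S.oddFix, ∃ y ∈ P.lifts, x = d * y := by
  obtain ⟨d, hd, y, hy, rfl⟩ := P.split x hx
  obtain ⟨q, hq, e⟩ := P.lifts_surj (P.vec y)
  have hq6 := P.lifts_le hq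
  have hw : S.RW (y * q⁻¹) := (P.vec_zero _ (mul_mem hy (inv_mem hq6))).1 (by
    rw [P.vec_mul y hy _ (inv_mem hq6), P.vec_inv hq6, e, v6_add_self])
  exact ⟨d * (y * q⁻¹), mul_mem hd hw.mem_oddFix, q, hq, by group⟩

theorem card_oddFix : Nat.card S.oddFix = 16 := by
  have hc : ∀ (d : S.oddFix) (q : P.lifts), Commute (d : G) q := fun d q =>
    mem_centralizer_iff.1 (P.lifts_le q.2).2 d d.2
  let φ : S.oddFix × P.lifts →* S.J :=
    MonoidHom.mk' (fun p => ⟨p.1 * p.2, mul_mem p.1.2.1 (P.lifts_le p.2.2).1⟩) fun p p' => Subtype.ext (by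
      show (p.1 * p'.1 : G) * (p.2 * p'.2) = p.1 * p.2 * (p'.1 * p'.2)
      rw [mul_assoc, ← mul_assoc (p'.1 : G), (hc p'.1 p.2).eq]; group)
  have hs : Function.Surjective φ := fun x => by
    obtain ⟨d, hd, y, hy, e⟩ := P.split_lifts x.2
    exact ⟨(⟨d, hd⟩, ⟨y, hy⟩), Subtype.ext e.symm⟩
  have hzD : S.z ∈ S.oddFix := Setup.RW.mem_oddFix (S := S) (Or.inr (Or.inl rfl))
  have hk : Nat.card φ.ker = 2 := by
    have hb : Function.Bijective (fun b : Bool => (⟨if b then (⟨S.z, hzD⟩, ⟨S.z, P.z_mem_lifts⟩) else 1, by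
        refine MonoidHom.mem_ker.2 (Subtype.ext ?_)
        cases b
        · exact one_mul 1
        · exact S.z_sq⟩ : φ.ker)) := by
      constructor
      · intro a b h
        have h' := congrArg (fun p : φ.ker => ((p.1.1 : S.oddFix) : G)) h
        cases a <;> cases b <;> simp at h' ⊢
        exacts [S.z_ne h'.symm, S.z_ne h']
      · rintro ⟨⟨d, q⟩, hp⟩
        have e : (d : G) * q = 1 := congrArg Subtype.val (MonoidHom.mem_ker.1 hp)
        have hq6 := P.lifts_le q.2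
        have hqD : (q : G) ∈ S.oddFix := by rw [eq_inv_of_mul_eq_one_right e]; exact inv_mem d.2
        have hv : P.vec (q : G) = 0 := eq_zero_of_b6 fun v => by
          obtain ⟨y, hy, rfl⟩ := P.vec_surj v
          exact (P.comm_iff _ hq6 y hy).1 (mem_centralizer_iff.1 hy.2 _ hqD)
        have hd : (d : G) = (q : G)⁻¹ := eq_inv_of_mul_eq_one_left e
        rcases (P.lifts_vec_zero q.2).1 hv with h | h <;> rw [h] at hd
        · exact ⟨false, Subtype.ext (Prod.ext (Subtype.ext (by simpa using hd.symm)) (Subtype.ext h.symm))⟩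
        · exact ⟨true, Subtype.ext (Prod.ext
            (Subtype.ext (hd.trans (inv_eq_of_mul_eq_one_right S.z_sq)).symm) (Subtype.ext h.symm))⟩
    rw [← Nat.card_congr (Equiv.ofBijective _ hb), Nat.card_eq_fintype_card, Fintype.card_bool]
  have h := φ.ker.index_mul_card
  rw [Subgroup.index_ker, MonoidHom.range_eq_top.2 hs, card_top, hk, S.card_J, Nat.card_prod, P.card_lifts] at h
  omega

theorem oddFix_cent {d : G} (hd : d ∈ S.oddFix) (h : ∀ d' ∈ S.oddFix, d * d' = d' * d) : S.RW d :=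
  S.center d hd.1 fun y hy => by
    obtain ⟨e, he, q, hq, rfl⟩ := P.split_lifts hy
    rw [← mul_assoc, h e he, mul_assoc, mem_centralizer_iff.1 (P.lifts_le hq).2 d hd, ← mul_assoc]

theorem oddFix_span {a b : G} (ha : a ∈ S.oddFix) (hb : b ∈ S.oddFix) (ha' : ¬ S.RW a) (hb' : ¬ S.RW b)
    (hab : ¬ S.RW (a * b)) {x : G} (hx : x ∈ S.oddFix) :
    ∃ c ∈ ({1, a, b, a * b} : Set G), ∃ w, S.RW w ∧ x = c * w := by
  let c : Fin 4 → G := ![1, a, b, a * b]
  let w : Fin 4 → G := ![1, S.z, S.z1, S.z * S.z1]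
  have hw : ∀ i, S.RW (w i) := by
    intro i; fin_cases i
    exacts [Or.inl rfl, Or.inr (Or.inl rfl), Or.inr (Or.inr (Or.inl rfl)), Or.inr (Or.inr (Or.inr rfl))]
  have hcD : ∀ i, c i ∈ S.oddFix := by
    intro i; fin_cases i
    exacts [one_mem _, ha, hb, mul_mem ha hb]
  have hwi : Function.Injective w := by
    have h1 : S.z * S.z1 ≠ 1 := S.zz1_ne
    have h2 : S.z * S.z1 ≠ S.z := S.zz1_ne_z
    have h3 : S.z * S.z1 ≠ S.z1 := S.zz1_ne_z1
    intro i j h
    fin_cases i <;> fin_cases j <;>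
      simp [w, S.z_ne, S.z1_ne, S.z1_ne_z, S.z_ne.symm, S.z1_ne.symm, S.z1_ne_z.symm, h1, h2, h3, h1.symm,
        h2.symm, h3.symm] at h ⊢
  have n_ab : ¬ S.RW (a⁻¹ * b) := fun h => hab (by
    rw [show a * b = a * a * (a⁻¹ * b) by group]; exact (S.rw_sq ha.1).mul h)
  have n_bab : ¬ S.RW (b⁻¹ * (a * b)) := fun h => ha' (by
    rcases S.comm_or a ha.1 b hb.1 with e | e <;> rw [e] at h
    · rwa [inv_mul_cancel_left] at h
    · rw [mul_assoc b a, inv_mul_cancel_left] at h
      have := h.mul (Or.inr (Or.inl rfl) : S.RW S.z)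
      rwa [mul_assoc, S.z_sq, mul_one] at this)
  have n_aab : ¬ S.RW (a⁻¹ * (a * b)) := by rw [inv_mul_cancel_left]; exact hb'
  have flip' : ∀ {u v : G}, ¬ S.RW (u⁻¹ * v) → ¬ S.RW (v⁻¹ * u) := fun h h' => h (by
    have := h'.inv; rwa [mul_inv_rev, inv_inv] at this)
  have nn : ∀ {u : G}, ¬ S.RW u → ¬ S.RW u⁻¹ := fun h h' => h (by simpa using h'.inv)
  have hsep : ∀ i k, S.RW ((c k)⁻¹ * c i) → i = k := by
    intro i k h
    fin_cases i <;> fin_cases k <;> simp only [c, Fin.zero_eta, Fin.mk_one, Fin.reduceFinMk, Matrix.cons_val_zero,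
      Matrix.cons_val_one, Matrix.cons_val, inv_one, one_mul, mul_one] at h ⊢ <;>
      first
      | rfl
      | exact absurd h ha'
      | exact absurd h hb'
      | exact absurd h hab
      | exact absurd h (nn ha')
      | exact absurd h (nn hb')
      | exact absurd h (nn hab)
      | exact absurd h n_ab
      | exact absurd h (flip' n_ab)
      | exact absurd h n_bab
      | exact absurd h (flip' n_bab)
      | exact absurd h n_aab
      | exact absurd h (flip' n_aab)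
  let φ : Fin 4 × Fin 4 → S.oddFix := fun p => ⟨c p.1 * w p.2, mul_mem (hcD p.1) (hw p.2).mem_oddFix⟩
  have hφ : Function.Injective φ := by
    rintro ⟨i, j⟩ ⟨k, l⟩ h
    have h' : c i * w j = c k * w l := congrArg Subtype.val h
    have hik : i = k := hsep i k (by
      rw [show (c k)⁻¹ * c i = (c k)⁻¹ * (c i * w j) * (w j)⁻¹ by group, h', inv_mul_cancel_left]
      exact (hw l).mul (hw j).inv)
    subst hik
    exact Prod.ext rfl (hwi (mul_left_cancel h'))
  have hsurj := (hφ.bijective_of_nat_card_le (by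
    rw [P.card_oddFix, Nat.card_prod, Nat.card_eq_fintype_card, Fintype.card_fin])).2
  obtain ⟨⟨i, j⟩, e⟩ := hsurj ⟨x, hx⟩
  refine ⟨c i, ?_, w j, hw j, (congrArg Subtype.val e).symm⟩
  fin_cases i <;> simp [c]

theorem exists_root_z : ∃ e ∈ S.oddFix, e * e = S.z := by
  by_contra hn
  push Not at hn
  have hi : ∀ x ∈ S.oddFix, x * x = 1 := fun x hx => (S.sq_or x hx.1).resolve_right (hn x hx)
  have hW : ∀ x ∈ S.oddFix, S.RW x := fun x hx => P.oddFix_cent hx fun y hy => by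
    calc x * y = (x * y)⁻¹ := (inv_eq_of_mul_eq_one_right (hi _ (mul_mem hx hy))).symm
      _ = y * x := by rw [mul_inv_rev, inv_eq_of_mul_eq_one_right (hi y hy), inv_eq_of_mul_eq_one_right (hi x hx)]
  let φ : Fin 4 → G := ![1, S.z, S.z1, S.z * S.z1]
  have hsub : (S.oddFix : Set G) ⊆ Set.range φ := fun x hx => by
    rcases hW x hx with h | h | h | h
    exacts [⟨0, h.symm⟩, ⟨1, h.symm⟩, ⟨2, h.symm⟩, ⟨3, h.symm⟩]
  have h := (Set.ncard_le_ncard hsub (Set.finite_range φ))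
  rw [← Nat.card_coe_set_eq] at h
  have hr : (Set.range φ).ncard ≤ 4 := by
    rw [← Nat.card_coe_set_eq]
    exact (Finite.card_range_le φ).trans (by simp)
  have := P.card_oddFix
  change Nat.card S.oddFix ≤ _ at h
  omega

/-- The data for the reducible case. -/
def redW (h1 : S.Iso) (h2 : S.flip.Iso) : RedW G where
  z := S.z
  z1 := S.z1
  J := S.J
  D := S.oddFix
  Q := P.lifts
  z_sq := S.z_sq
  z_ne := S.z_ne
  z1_sq := S.z1_sq
  J_le := S.J_le_cent
  J_le_one := S.J_le_cent_one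
  J_normal := S.J_normal
  J_sq := S.sq_or
  J_comm := S.comm_or
  z1_conj := S.z1_conj
  D_le := inf_le_left
  z_mem := Setup.RW.mem_oddFix (S := S) (Or.inr (Or.inl rfl))
  z1_mem := Setup.RW.mem_oddFix (S := S) (Or.inr (Or.inr (Or.inl rfl)))
  D_normal := fun _ hg _ hx => S.oddFix_normal hg hx
  D_four := P.exists_root_z
  D_cent := fun _ hd h => P.oddFix_cent hd h
  D_span := fun _ ha _ hb h1 h2 h3 _ hx => P.oddFix_span ha hb h1 h2 h3 hx
  Q_le := P.lifts_le
  z_memQ := P.z_mem_lifts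
  Q_normal := fun _ hg _ hx => P.lifts_normal hg hx
  split := fun _ hx => P.split_lifts hx
  vec := P.vec
  vec_mul := fun x hx y hy => P.vec_mul x (P.lifts_le hx) y (P.lifts_le hy)
  vec_surj := P.lifts_surj
  vec_zero := fun _ hx => P.lifts_vec_zero hx
  sq_iff := fun x hx => P.sq_iff x (P.lifts_le hx)
  comm_iff := fun x hx y hy => P.comm_iff x (P.lifts_le hx) y (P.lifts_le hy)
  act := P.act
  act_vec := fun g hg x hx => P.act_vec g hg x (P.lifts_le hx)
  act_one := P.act_one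
  odd_cent := fun g hg ho => mem_centralizer_iff.2 fun _ hd =>
    (mem_centralizer_iff.1 hd.2 g ⟨hg, ho⟩).symm
  rot := P.rot
  nz1 := fun g e => S.not_conj (isConj_iff.2 ⟨g, e⟩)
  nz2 := fun g e => S.not_conj' (isConj_iff.2 ⟨g, e⟩)
  iso1 := h1
  iso2 := h2

end RedPre

/-- In the reducible case `z` is isolated. -/
theorem Setup.isolated_of_red (S : Setup G F) {Q : Type*} [Group Q]
    (π : centralizer ({S.z1} : Set G) →* Q) (hπs : Function.Surjective π)
    (hπ : ∀ x, π x = 1 ↔ (x : G) = 1 ∨ (x : G) = S.z1) (R : RedData Q)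
    (hz : ∀ h : S.z ∈ centralizer ({S.z1} : Set G), π ⟨S.z, h⟩ = R.z)
    (hJ : ∀ q, q ∈ R.J ↔ ∃ x : centralizer ({S.z1} : Set G), (x : G) ∈ S.J ∧ π x = q)
    (h1 : S.Iso) (h2 : S.flip.Iso) : IsIsolatedInvolution S.z := by
  obtain ⟨P⟩ := exists_redPre S π hπs hπ R hz hJ fun g e => S.not_conj' (isConj_iff.2 ⟨g, e⟩)
  exact ⟨orderOf_eq_prime (by rw [pow_two, S.z_sq]) S.z_ne,
    fun g hg => (P.redW h1 h2).isolated g hg.symm⟩

end CfsgLib.Recog.Fi22Cent
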