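import Cfsg.Agent.Lib.Recog.Fi22Cent.BranchBoth
import Cfsg.Agent.Lib.Recog.Fi22Cent.Loc
import Cfsg.Agent.Lib.Recog.Fi22Cent.LocMixed
import Cfsg.Agent.Lib.Recog.Fi22Cent.RedSetup

/-!
Isolation of `z` and the mixed case, from the coordinates or the reducible data.
-/

set_option autoImplicit false
set_option linter.unusedSectionVars false

namespace CfsgLib.Recog.Fi22Cent

open Subgroup Cfsg

variable {G : Type*} [Group G] [Finite G] {F : Type*} [Field F] [Fintype F]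

namespace Setup

variable (S : Setup G F)

/-- Isolation in both centralizers gives isolation. -/
theorem isolated_of_iso (h : S.Iso) (h' : S.flip.Iso) : IsIsolatedInvolution S.z := by
  obtain ⟨T, hT, hTJ, hT0, -, -⟩ := S.barSetup
  have hmemJ : ∀ {A : Subgroup G} (q : S.Bar),
      q ∈ (A.subgroupOf (centralizer ({S.z1} : Set G))).map S.proj ↔
        ∃ x : centralizer ({S.z1} : Set G), (x : G) ∈ A ∧ S.proj x = q := fun q =>
    ⟨fun ⟨x, hx, e⟩ => ⟨x, mem_subgroupOf.1 hx, e⟩, fun ⟨x, hx, e⟩ => ⟨x, mem_subgroupOf.2 hx, e⟩⟩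
  rcases T.dichotomy' with ⟨N, hNz, hNJ, hN0⟩ | ⟨R, hRz, hRJ⟩
  · obtain ⟨A⟩ := exists_fdata S S.proj S.proj_eq_one N (fun _ => by rw [hNz, hT])
      (fun q => by rw [hNJ, hTJ]; exact hmemJ q) (fun q => by rw [hN0, hT0]; exact hmemJ q)
    exact A.iso_iso h h' S.not_conj S.not_conj' S.not_conj_pair
  · exact S.isolated_of_red S.proj (QuotientGroup.mk'_surjective _) S.proj_eq_one R
      (fun _ => by rw [hRz, hT]) (fun q => by rw [hRJ, hTJ]; exact hmemJ q) h h'

/-- A conjugation carrying `z` into `C(z) ∩ C(z₁)` fixes `z₁`. -/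
theorem mixed_fix (hs : ¬ S.Swap) (h1 : ¬ S.Iso) (h2 : S.flip.Iso) :
    ∀ g, g * S.z * g⁻¹ ∈ centralizer ({S.z} : Set G) ⊓ centralizer ({S.z1} : Set G) →
      g * S.z1 * g⁻¹ = S.z1 := fun g hg => by
  obtain ⟨A, -⟩ := S.exists_lifts h1
  exact A.mixed hs h2 S.not_conj S.not_conj' (S.not_conj_pair hs) S.not_two18 hg

end Setup

end CfsgLib.Recog.Fi22Cent
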