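import Cfsg.Agent.Lib.Recog.Fi22Cent.KindsModel
import Cfsg.Agent.Lib.PLocal.U6JCover

/-!
The centralizers of involutions of `PSU₆(2)` and of their lifts to a double cover: an involution is a
transvection or has a centralizer of order divisible by nine, and `2¹²` always divides it.
-/

set_option autoImplicit false

namespace CfsgLib.Recog.Fi22Cent

open CfsgLib.Trans3 CfsgLib.Trans3.Fi CfsgLib.PLocal.U6J

section Simple

variable {X : Type*} [Group X] [Finite X] {D : Set X} (hU : IsU6 X)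
  (hD : Cfsg.IsThreeTranspositionGroup D)
include hU hD

theorem card_centralizer_conj (g v : X) :
    Nat.card (Subgroup.centralizer ({g * v * g⁻¹} : Set X)) = Nat.card (Subgroup.centralizer ({v} : Set X)) := by
  refine (Nat.card_congr ((MulAut.conj g).toEquiv.subtypeEquiv fun c => ?_)).symm
  rw [Subgroup.mem_centralizer_singleton_iff, Subgroup.mem_centralizer_singleton_iff]
  show c * v = v * c ↔ g * c * g⁻¹ * (g * v * g⁻¹) = g * v * g⁻¹ * (g * c * g⁻¹)
  constructor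
  · intro h
    calc g * c * g⁻¹ * (g * v * g⁻¹) = g * (c * v) * g⁻¹ := by group
      _ = _ := by rw [h]; group
  · intro h
    calc c * v = g⁻¹ * (g * c * g⁻¹ * (g * v * g⁻¹)) * g := by group
      _ = _ := by rw [h]; group

/-- The stabiliser of a clique has order divisible by `2¹⁵`. -/
theorem fix_card {E : Set X} (hE : Clique D E) :
    2 ^ 15 ∣ Nat.card (Subgroup.normalizer (Subgroup.closure E : Set X)) := by
  haveI : Fact (Nat.Prime 2) := ⟨Nat.prime_two⟩
  have hW : IsPGroup 2 (Subgroup.closure E) := IsPGroup.of_card (n := 9) (by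
    rw [u6j_span_card hU hD hE]; norm_num)
  obtain ⟨Q, hQ⟩ := hW.exists_le_sylow
  have hle : (Q : Subgroup X) ≤ Subgroup.normalizer (Subgroup.closure E : Set X) := by
    intro q hq
    have hconj : (Subgroup.closure E).map (MulAut.conj q).toMonoidHom ≤ (Q : Subgroup X) := by
      rintro _ ⟨w, hw, rfl⟩
      exact mul_mem (mul_mem hq (hQ hw)) (inv_mem hq)
    have he := u6j_unique hU hD hE (hE.conj hD q) Q.isPGroup' hQ (by rw [closure_conj hU hD]; exact hconj)
    refine (u6j_fix_iff hU hD hE).1 fun e he' => ?_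
    rw [he]
    exact ⟨e, he', rfl⟩
  refine dvd_trans ?_ (Subgroup.card_dvd_of_le hle)
  exact Q.pow_dvd_card_of_pow_dvd_card (by rw [u6_card hU]; norm_num)

/-- An orbit of the stabiliser of a clique bounds the index of a centralizer. -/
theorem two_part {E : Set X} (hE : Clique D E) {w : X} {S : Set X} (hw : w ∈ S)
    (hinv : ∀ g ∈ setFix E, ∀ v ∈ S, g * v * g⁻¹ ∈ S)
    (htr : ∀ v ∈ S, ∃ g ∈ setFix E, g * w * g⁻¹ = v) (hn : ¬ 2 ^ 4 ∣ S.ncard) :
    2 ^ 12 ∣ Nat.card (Subgroup.centralizer ({w} : Set X)) := by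
  obtain ⟨N, eN⟩ : ∃ N, N = Subgroup.normalizer (Subgroup.closure E : Set X) := ⟨_, rfl⟩
  letI : MulAction N X := MulAction.compHom X ((MulAut.conj : X →* MulAut X).comp N.subtype)
  have horb : MulAction.orbit N w = S := by
    ext v
    constructor
    · rintro ⟨g, rfl⟩
      exact hinv g ((u6j_fix_iff hU hD hE).2 (eN ▸ g.2)) w hw
    · intro hv
      obtain ⟨g, hg, e⟩ := htr v hv
      exact ⟨⟨g, eN ▸ (u6j_fix_iff hU hD hE).1 hg⟩, e⟩
  have h := Nat.card_congr (MulAction.orbitProdStabilizerEquivGroup N w)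
  rw [Nat.card_prod, Nat.card_coe_set_eq, horb] at h
  have h15 : 2 ^ 15 ∣ S.ncard * Nat.card (MulAction.stabilizer N w) := by
    rw [h, eN]; exact fix_card hU hD hE
  have hs : 2 ^ 12 ∣ Nat.card (MulAction.stabilizer N w) := by
    obtain ⟨i, a, ha, e⟩ := Nat.exists_eq_pow_mul_and_not_dvd
      (show S.ncard ≠ 0 from fun e => hn (e ▸ dvd_zero _)) 2 (by norm_num)
    have hi : i ≤ 3 := by
      by_contra hlt
      exact hn (e ▸ (Nat.pow_dvd_pow 2 (by omega)).trans (dvd_mul_right _ _))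
    have hco : Nat.Coprime (2 ^ (15 - i)) a :=
      Nat.Coprime.pow_left _ ((Nat.prime_two.coprime_iff_not_dvd).2 ha)
    rw [e, mul_assoc, show 2 ^ 15 = 2 ^ i * 2 ^ (15 - i) by rw [← pow_add]; congr 1; omega] at h15
    exact (Nat.pow_dvd_pow 2 (by omega)).trans
      (hco.dvd_of_dvd_mul_left (Nat.dvd_of_mul_dvd_mul_left (by positivity) h15))
  refine hs.trans ?_
  have hle : (MulAction.stabilizer N w).map N.subtype ≤ Subgroup.centralizer ({w} : Set X) := by
    rintro _ ⟨g, hg, rfl⟩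
    exact Subgroup.mem_centralizer_singleton_iff.2 (mul_inv_eq_iff_eq_mul.1 hg)
  rw [← Subgroup.card_map_of_injective (K := MulAction.stabilizer N w) (Subgroup.subtype_injective N)]
  exact Subgroup.card_dvd_of_le hle

/-- Two distinct commuting members are centralized by a group of order divisible by nine. -/
theorem nine_pair {a b : X} (ha : a ∈ D) (hb : b ∈ D) (hab : Commute a b) (hne : b ≠ a) :
    9 ∣ Nat.card (Subgroup.centralizer ({a * b} : Set X)) := by
  classical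
  obtain ⟨Cp, eCp⟩ : ∃ Cp, Cp = {e : X | e ∈ D ∧ e ≠ a ∧ Commute a e} := ⟨_, rfl⟩
  have h180 : Cp.ncard = 180 := eCp ▸ u6_card_perp hU hD ha
  obtain ⟨F, _, _, hF, f, hf, hk, R, hR⟩ := u6j_frame hU hD
  obtain ⟨-, tr2, -⟩ := u6j_trans hU hD hR
  have sq : ∀ {e}, e ∈ D → e * e = 1 := fun he => Trans3.sq_one hD.1 he
  have uniq : ∀ {p q p' q' : X}, p ∈ Ec hF R f → q ∈ Ec hF R f → p' ∈ Ec hF R f → q' ∈ Ec hF R f →
      p ≠ q → p' ≠ q' → p * q = p' * q' → (p = p' ∧ q = q') ∨ (p = q' ∧ q = p') := by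
    intro p q p' q' hp hq hp' hq' h1 h2 e
    have cpq : p * q = q * p := (hR.comm _ hp _ hq).eq
    by_cases a1 : p = p'
    · exact Or.inl ⟨a1, mul_left_cancel (a1 ▸ e)⟩
    by_cases a2 : p = q'
    · refine Or.inr ⟨a2, mul_left_cancel (a := p) ?_⟩
      rw [e, ← a2]; exact ((hR.comm _ hp' _ hp).eq)
    exfalso
    have a3 : q ≠ p' := fun h => a2 (mul_left_cancel (a := q) (by rw [← cpq, e, h]))
    have a4 : q ≠ q' := fun h => a1 (mul_right_cancel (b := q) (by rw [e, h]))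
    refine (u6Facts hU hD).four [p, q, p', q'] (by simp [h1, h2, a1, a2, a3, a4]) rfl
      (fun u hu => hR.sub (by simp at hu; rcases hu with rfl | rfl | rfl | rfl <;> assumption))
      (fun u hu v hv => hR.comm u (by simp at hu; rcases hu with rfl | rfl | rfl | rfl <;> assumption)
        v (by simp at hv; rcases hv with rfl | rfl | rfl | rfl <;> assumption)) ?_
    simp only [List.prod_cons, List.prod_nil, mul_one]
    rw [← mul_assoc, e, (hR.comm _ hq' _ hp').mul_mul_mul_comm p' q', sq (hR.sub hp'), sq (hR.sub hq'),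
      one_mul]
  -- every pair is conjugate to this one, in one of two ways
  have two : ∀ e ∈ Cp, ∃ g : X, (g * a * g⁻¹ = a ∧ g * b * g⁻¹ = e) ∨ (g * a * g⁻¹ = e ∧ g * b * g⁻¹ = a) := by
    intro e he
    rw [eCp] at he
    obtain ⟨g, hg1, hg2⟩ := pair_into hF R f hf hk hD ha hb hab
    obtain ⟨k, hk1, hk2⟩ := pair_into hF R f hf hk hD ha he.1 he.2.2
    have inj : ∀ {g u v : X}, u ≠ v → g * u * g⁻¹ ≠ g * v * g⁻¹ := fun h e =>
      h (mul_left_cancel (mul_right_cancel e))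
    obtain ⟨c, hc, ec⟩ := tr2 _ ⟨_, hg1, _, hg2, inj (Ne.symm hne), rfl⟩ _
      ⟨_, hk1, _, hk2, inj (Ne.symm he.2.1), rfl⟩
    have hm : ∀ {u}, u ∈ Ec hF R f → c * u * c⁻¹ ∈ Ec hF R f := fun hu => hc _ hu
    rcases uniq (hm hg1) (hm hg2) hk1 hk2 (inj (inj (Ne.symm hne))) (inj (Ne.symm he.2.1))
      (by rw [← ec]; group) with ⟨e1, e2⟩ | ⟨e1, e2⟩
    · exact ⟨k⁻¹ * c * g, Or.inl ⟨by rw [show k⁻¹ * c * g * a * (k⁻¹ * c * g)⁻¹ =
        k⁻¹ * (c * (g * a * g⁻¹) * c⁻¹) * k by group, e1]; group,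
        by rw [show k⁻¹ * c * g * b * (k⁻¹ * c * g)⁻¹ = k⁻¹ * (c * (g * b * g⁻¹) * c⁻¹) * k by group, e2]; group⟩⟩
    · exact ⟨k⁻¹ * c * g, Or.inr ⟨by rw [show k⁻¹ * c * g * a * (k⁻¹ * c * g)⁻¹ =
        k⁻¹ * (c * (g * a * g⁻¹) * c⁻¹) * k by group, e1]; group,
        by rw [show k⁻¹ * c * g * b * (k⁻¹ * c * g)⁻¹ = k⁻¹ * (c * (g * b * g⁻¹) * c⁻¹) * k by group, e2]; group⟩⟩
  obtain ⟨Ca, eCa⟩ : ∃ Ca, Ca = Subgroup.centralizer ({a} : Set X) := ⟨_, rfl⟩
  letI : MulAction Ca X := MulAction.compHom X ((MulAut.conj : X →* MulAut X).comp Ca.subtype)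
  obtain ⟨O, eO⟩ : ∃ O : Set X, O = MulAction.orbit Ca b := ⟨_, rfl⟩
  have hCp : ∀ c ∈ Ca, ∀ e ∈ Cp, c * e * c⁻¹ ∈ Cp := by
    intro c hc e he
    rw [eCa, Subgroup.mem_centralizer_singleton_iff] at hc
    rw [eCp] at he ⊢
    have hca : c * a * c⁻¹ = a := by rw [hc, mul_inv_cancel_right]
    refine ⟨hD.2.1 c e he.1, fun h => he.2.1 ?_, ?_⟩
    · have h' := h.trans hca.symm
      exact mul_left_cancel (mul_right_cancel h')
    · have h' := (commute_conj_iff c a e).2 he.2.2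
      rwa [hca] at h'
  have mO : ∀ {g : X}, g * a * g⁻¹ = a → g * b * g⁻¹ ∈ O := fun {g} hg => eO ▸
    ⟨⟨g, eCa ▸ Subgroup.mem_centralizer_singleton_iff.2 (mul_inv_eq_iff_eq_mul.1 hg)⟩, rfl⟩
  have hbC : b ∈ Cp := by rw [eCp]; exact ⟨hb, hne, hab⟩
  have hOC : O ⊆ Cp := by
    rw [eO]
    rintro _ ⟨c, rfl⟩
    exact hCp c c.2 b hbC
  have h27 : ¬ 27 ∣ O.ncard := by
    by_cases hall : ∀ e ∈ Cp, e ∈ O
    · rw [Set.Subset.antisymm hOC hall, h180]; norm_num
    push Not at hall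
    obtain ⟨e₀, he₀, hne₀⟩ := hall
    obtain ⟨g₀, hg₀⟩ := two e₀ he₀
    have hg₀ := hg₀.resolve_left fun h => hne₀ (h.2 ▸ mO h.1)
    obtain ⟨O', eO'⟩ : ∃ O' : Set X, O' = MulAction.orbit Ca e₀ := ⟨_, rfl⟩
    have hsplit : Cp = O ∪ O' := by
      refine Set.Subset.antisymm (fun e he => ?_) (Set.union_subset hOC ?_)
      · obtain ⟨g, hg | hg⟩ := two e he
        · exact Or.inl (hg.2 ▸ mO hg.1)
        · refine Or.inr (eO' ▸ ⟨⟨g * g₀⁻¹, eCa ▸ Subgroup.mem_centralizer_singleton_iff.2 ?_⟩, ?_⟩)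
          · rw [← mul_inv_eq_iff_eq_mul, show g * g₀⁻¹ * a * (g * g₀⁻¹)⁻¹ = g * (g₀⁻¹ * a * g₀) * g⁻¹ by group,
              show g₀⁻¹ * a * g₀ = b by rw [← hg₀.2]; group, hg.2]
          · show g * g₀⁻¹ * e₀ * (g * g₀⁻¹)⁻¹ = e
            rw [show g * g₀⁻¹ * e₀ * (g * g₀⁻¹)⁻¹ = g * (g₀⁻¹ * e₀ * g₀) * g⁻¹ by group,
              show g₀⁻¹ * e₀ * g₀ = a by rw [← hg₀.1]; group, hg.1]
      · rw [eO']; rintro _ ⟨c, rfl⟩; exact hCp c c.2 e₀ he₀
    have hdis : Disjoint O O' := Set.disjoint_left.2 fun e h1 h2 => hne₀ (by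
      rw [eO] at h1 ⊢; rw [eO'] at h2
      rw [← MulAction.orbit_eq_iff.2 h1, MulAction.orbit_eq_iff.2 h2]
      exact MulAction.mem_orbit_self _)
    have heq : O.ncard = O'.ncard := by
      have hb' : Nat.card (MulAction.stabilizer Ca b) = Nat.card (MulAction.stabilizer Ca e₀) := by
        have mem : ∀ {c : Ca} {e : X}, c ∈ MulAction.stabilizer Ca e ↔ (c : X) * e = e * c := fun {c e} =>
          mul_inv_eq_iff_eq_mul
        have hca : ∀ c : Ca, (c : X) * a = a * c := fun c =>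
          Subgroup.mem_centralizer_singleton_iff.1 (eCa ▸ c.2)
        refine Nat.card_congr
          { toFun := fun c => ⟨⟨g₀ * (c.1 : X) * g₀⁻¹, ?_⟩, ?_⟩
            invFun := fun c => ⟨⟨g₀⁻¹ * (c.1 : X) * g₀, ?_⟩, ?_⟩
            left_inv := fun c => Subtype.ext (Subtype.ext (by group))
            right_inv := fun c => Subtype.ext (Subtype.ext (by group)) }
        · refine (SetLike.ext_iff.1 eCa _).2 (Subgroup.mem_centralizer_singleton_iff.2 ?_)
          rw [← hg₀.2]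
          calc g₀ * (c.1 : X) * g₀⁻¹ * (g₀ * b * g₀⁻¹) = g₀ * ((c.1 : X) * b) * g₀⁻¹ := by group
            _ = _ := by rw [mem.1 c.2]; group
        · refine mem.2 ?_
          show g₀ * (c.1 : X) * g₀⁻¹ * e₀ = e₀ * (g₀ * (c.1 : X) * g₀⁻¹)
          rw [← hg₀.1]
          calc g₀ * (c.1 : X) * g₀⁻¹ * (g₀ * a * g₀⁻¹) = g₀ * ((c.1 : X) * a) * g₀⁻¹ := by group
            _ = _ := by rw [hca c.1]; group
        · refine (SetLike.ext_iff.1 eCa _).2 (Subgroup.mem_centralizer_singleton_iff.2 ?_)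
          rw [show a = g₀⁻¹ * e₀ * g₀ by rw [← hg₀.1]; group]
          calc g₀⁻¹ * (c.1 : X) * g₀ * (g₀⁻¹ * e₀ * g₀) = g₀⁻¹ * ((c.1 : X) * e₀) * g₀ := by group
            _ = _ := by rw [mem.1 c.2]; group
        · refine mem.2 ?_
          show g₀⁻¹ * (c.1 : X) * g₀ * b = b * (g₀⁻¹ * (c.1 : X) * g₀)
          rw [show b = g₀⁻¹ * a * g₀ by rw [← hg₀.2]; group]
          calc g₀⁻¹ * (c.1 : X) * g₀ * (g₀⁻¹ * a * g₀) = g₀⁻¹ * ((c.1 : X) * a) * g₀ := by group
            _ = _ := by rw [hca c.1]; group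
      have h1 := Nat.card_congr (MulAction.orbitProdStabilizerEquivGroup Ca b)
      have h2 := Nat.card_congr (MulAction.orbitProdStabilizerEquivGroup Ca e₀)
      rw [Nat.card_prod, Nat.card_coe_set_eq, ← eO, hb'] at h1
      rw [Nat.card_prod, Nat.card_coe_set_eq, ← eO'] at h2
      exact Nat.eq_of_mul_eq_mul_right Nat.card_pos (h1.trans h2.symm)
    have h := Set.ncard_union_eq hdis (Set.toFinite _) (Set.toFinite _)
    rw [← hsplit, h180, ← heq] at h
    omega
  have hC : Nat.card Ca = 13271040 := by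
    letI : MulAction (⊤ : Subgroup X) X :=
      MulAction.compHom X ((MulAut.conj : X →* MulAut X).comp (⊤ : Subgroup X).subtype)
    have horb : MulAction.orbit (⊤ : Subgroup X) a = D := by
      ext e
      constructor
      · rintro ⟨g, rfl⟩; exact hD.2.1 g a ha
      · intro he
        obtain ⟨g, hg⟩ := (u6Facts hU hD).conj a ha e he
        exact ⟨⟨g, Subgroup.mem_top g⟩, hg⟩
    have h := Nat.card_congr (MulAction.orbitProdStabilizerEquivGroup (⊤ : Subgroup X) a)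
    rw [Nat.card_prod, Nat.card_coe_set_eq, horb, u6_card_D hU hD, Subgroup.card_top, u6_card hU] at h
    have he : (MulAction.stabilizer (⊤ : Subgroup X) a).map (⊤ : Subgroup X).subtype = Ca := by
      ext c
      rw [eCa, Subgroup.mem_centralizer_singleton_iff, Subgroup.mem_map]
      constructor
      · rintro ⟨d, hd, rfl⟩; exact mul_inv_eq_iff_eq_mul.1 hd
      · exact fun hc => ⟨⟨c, Subgroup.mem_top c⟩, mul_inv_eq_iff_eq_mul.2 hc, rfl⟩
    rw [← he, Subgroup.card_map_of_injective (Subgroup.subtype_injective _)]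
    omega
  have h := Nat.card_congr (MulAction.orbitProdStabilizerEquivGroup Ca b)
  rw [Nat.card_prod, Nat.card_coe_set_eq, ← eO, hC] at h
  have h9 : 9 ∣ Nat.card (MulAction.stabilizer Ca b) := by
    haveI : Fact (Nat.Prime 3) := ⟨Nat.prime_three⟩
    obtain ⟨i, m, hm, e⟩ := Nat.exists_eq_pow_mul_and_not_dvd
      (show O.ncard ≠ 0 from fun e => by rw [e, zero_mul] at h; norm_num at h) 3 (by norm_num)
    have hi : i ≤ 2 := by
      by_contra hlt
      exact h27 (e ▸ (Nat.pow_dvd_pow 3 (show 3 ≤ i by omega)).trans (dvd_mul_right _ _))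
    have h81 : 3 ^ i * 3 ^ (4 - i) ∣ 3 ^ i * (m * Nat.card (MulAction.stabilizer Ca b)) := by
      rw [← pow_add, ← mul_assoc, ← e, h, show i + (4 - i) = 4 by omega]; norm_num
    exact ((Nat.pow_dvd_pow 3 (show 2 ≤ 4 - i by omega)).trans
      ((Nat.Coprime.pow_left _ ((Nat.prime_three.coprime_iff_not_dvd).2 hm)).dvd_of_dvd_mul_left
        (Nat.dvd_of_mul_dvd_mul_left (by positivity) h81)))
  refine h9.trans ?_
  rw [← Subgroup.card_map_of_injective (K := MulAction.stabilizer Ca b) (Subgroup.subtype_injective Ca)]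
  refine Subgroup.card_dvd_of_le ?_
  rintro _ ⟨c, hc, rfl⟩
  have h1 : (c : X) * b = b * c := mul_inv_eq_iff_eq_mul.1 hc
  have h2 : (c : X) * a = a * c := Subgroup.mem_centralizer_singleton_iff.1 (eCa ▸ c.2)
  refine Subgroup.mem_centralizer_singleton_iff.2 ?_
  show (c : X) * (a * b) = a * b * c
  rw [← mul_assoc, h2, mul_assoc, h1, ← mul_assoc]

/-- **The involutions of `PSU₆(2)`.** -/
theorem u6_kinds {x : X} (hx : x * x = 1) (hx1 : x ≠ 1) :
    (x ∈ D ∨ 9 ∣ Nat.card (Subgroup.centralizer ({x} : Set X))) ∧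
      2 ^ 12 ∣ Nat.card (Subgroup.centralizer ({x} : Set X)) := by
  obtain ⟨F, _, _, hF, f, hf, hk, R, hR⟩ := u6j_frame hU hD
  obtain ⟨g, hg⟩ := u6j_invol_mem hU hD hR hx
  obtain ⟨tr1, tr2, tr3⟩ := u6j_trans hU hD hR
  obtain ⟨hPc, hPp⟩ := u6j_pairs hU hD hR
  rw [← card_centralizer_conj hU hD g x]
  have hinvE : ∀ k ∈ setFix (Ec hF R f), ∀ v ∈ Ec hF R f, k * v * k⁻¹ ∈ Ec hF R f := fun k hk v hv => hk v hv
  have hinvP : ∀ k ∈ setFix (Ec hF R f), ∀ v ∈ pairSet (Ec hF R f), k * v * k⁻¹ ∈ pairSet (Ec hF R f) := by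
    rintro k hk _ ⟨p, hp, q, hq, hne, rfl⟩
    exact ⟨_, hk p hp, _, hk q hq, fun e => hne (mul_left_cancel (mul_right_cancel e)), by group⟩
  have hw1 : g * x * g⁻¹ ≠ 1 := fun e => hx1 (conj_eq_one_iff.1 e)
  by_cases hE' : g * x * g⁻¹ ∈ Ec hF R f
  · refine ⟨Or.inl ?_, two_part hU hD hR hE' hinvE (fun v hv => tr1 _ hE' v hv) ?_⟩
    · have h := hD.2.1 g⁻¹ _ (hR.sub hE')
      rwa [show g⁻¹ * (g * x * g⁻¹) * g⁻¹⁻¹ = x by group] at h
    · rw [hR.card]; norm_num
  by_cases hP' : g * x * g⁻¹ ∈ pairSet (Ec hF R f)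
  · refine ⟨Or.inr ?_, two_part hU hD hR hP' hinvP (fun v hv => tr2 _ hP' v hv) ?_⟩
    · obtain ⟨p, hp, q, hq, hne, e⟩ := hP'
      rw [e]
      exact nine_pair hU hD (hR.sub hp) (hR.sub hq) (hR.comm p hp q hq) hne.symm
    · rw [hPc]; norm_num
  refine ⟨Or.inr (nine_triple hF R f hf hk hD hg ⟨hw1, hE', hP'⟩), two_part hU hD hR
    (S := {v | v ∈ Subgroup.closure (Ec hF R f) ∧ v ≠ 1 ∧ v ∉ Ec hF R f ∧ v ∉ pairSet (Ec hF R f)})
    ⟨hg, hw1, hE', hP'⟩ (fun k hk v hv => ?_) (fun v hv => tr3 _ hg v hv.1 ⟨hw1, hE', hP'⟩ hv.2) ?_⟩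
  · have hk' := (u6j_fix_iff hU hD hR).1 hk
    have hki : k⁻¹ ∈ setFix (Ec hF R f) := (u6j_fix_iff hU hD hR).2 (inv_mem hk')
    refine ⟨(Subgroup.mem_normalizer_iff.1 hk' v).1 hv.1, fun e => hv.2.1 (conj_eq_one_iff.1 e),
      fun e => hv.2.2.1 ?_, fun e => hv.2.2.2 ?_⟩
    · simpa [mul_assoc] using hinvE _ hki _ e
    · simpa [mul_assoc] using hinvP _ hki _ e
  · have h : {v : X | v ∈ Subgroup.closure (Ec hF R f) ∧ v ≠ 1 ∧ v ∉ Ec hF R f ∧
        v ∉ pairSet (Ec hF R f)} =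
        (Subgroup.closure (Ec hF R f) : Set X) \ insert 1 (Ec hF R f ∪ pairSet (Ec hF R f)) := by
      ext v; simp
    have hsub : insert 1 (Ec hF R f ∪ pairSet (Ec hF R f)) ⊆ (Subgroup.closure (Ec hF R f) : Set X) := by
      rintro v (rfl | hv | hv)
      exacts [one_mem _, Subgroup.subset_closure hv, (hPp v hv).2.2]
    have n1 : (1 : X) ∉ Ec hF R f ∪ pairSet (Ec hF R f) := fun h => h.elim
      (fun h => invol_ne_one (hD.1.1 _ (hR.sub h)) rfl) fun h => (hPp _ h).2.1 rfl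
    rw [h, Set.ncard_sdiff hsub, Set.ncard_insert_of_notMem n1 (Set.toFinite _),
      Set.ncard_union_eq (Set.disjoint_left.2 fun v h1 h2 => (hPp v h2).1 h1) (Set.toFinite _) (Set.toFinite _),
      hR.card, hPc, ← Nat.card_coe_set_eq,
      show Nat.card ↥(Subgroup.closure (Ec hF R f) : Set X) = 512 from u6j_span_card hU hD hR]
    norm_num

end Simple

section Cover

variable {C X : Type*} [Group C] [Finite C] [Group X] [Finite X] {π : C →* X} {z : C}

/-- The centralizer of a lift: the order of the centralizer below divides it, twice that order when the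
lifts are told apart by a sign. -/
theorem lift_centralizer (hC : DCov π z) (t : C) :
    Nat.card (Subgroup.centralizer ({π t} : Set X)) ∣ Nat.card (Subgroup.centralizer ({t} : Set C)) ∧
    ∀ χ : C →* ℤˣ, χ z = -1 →
      2 * Nat.card (Subgroup.centralizer ({π t} : Set X)) ∣ Nat.card (Subgroup.centralizer ({t} : Set C)) := by
  classical
  obtain ⟨B, eB⟩ : ∃ B, B = (Subgroup.centralizer ({π t} : Set X)).comap π := ⟨_, rfl⟩
  have hcard : Nat.card B = 2 * Nat.card (Subgroup.centralizer ({π t} : Set X)) :=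
    eB ▸ dcov_card_comap hC _
  letI : MulAction B C := MulAction.compHom C ((MulAut.conj : C →* MulAut C).comp B.subtype)
  have horb : MulAction.orbit B t ⊆ {t, t * z} := by
    rintro _ ⟨c, rfl⟩
    have hc := c.2
    simp only [eB, Subgroup.mem_comap, Subgroup.mem_centralizer_singleton_iff] at hc
    have e : π ((c : C) * t * (c : C)⁻¹) = π t := by
      rw [map_mul, map_mul, map_inv, hc, mul_inv_cancel_right]
    exact (dcov_eq hC e).imp id id
  have hle : (MulAction.stabilizer B t).map B.subtype ≤ Subgroup.centralizer ({t} : Set C) := by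
    rintro _ ⟨c, hc, rfl⟩
    exact Subgroup.mem_centralizer_singleton_iff.2 (mul_inv_eq_iff_eq_mul.1 hc)
  have hdvd := Subgroup.card_dvd_of_le hle
  rw [Subgroup.card_map_of_injective (Subgroup.subtype_injective B)] at hdvd
  have h := Nat.card_congr (MulAction.orbitProdStabilizerEquivGroup B t)
  rw [Nat.card_prod, Nat.card_coe_set_eq, hcard] at h
  have hn : (MulAction.orbit B t).ncard = 1 ∨ (MulAction.orbit B t).ncard = 2 := by
    have h1 := Set.ncard_le_ncard horb (Set.toFinite _)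
    have h2 : ({t, t * z} : Set C).ncard ≤ 2 :=
      (Set.ncard_insert_le _ _).trans (by rw [Set.ncard_singleton])
    have h3 : 0 < (MulAction.orbit B t).ncard :=
      (Set.ncard_pos (Set.toFinite _)).2 ⟨t, MulAction.mem_orbit_self _⟩
    omega
  refine ⟨?_, fun χ hχ => ?_⟩
  · rcases hn with hn | hn <;> rw [hn] at h
    · rw [one_mul] at h
      exact (dvd_mul_left _ 2).trans (h ▸ hdvd)
    · rw [Nat.eq_of_mul_eq_mul_left (by norm_num) h] at hdvd
      exact hdvd
  · have h1 : MulAction.orbit B t = {t} := by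
      refine Set.Subset.antisymm (fun u hu => ?_) (Set.singleton_subset_iff.2 (MulAction.mem_orbit_self _))
      obtain ⟨c, hc⟩ := hu
      rcases horb ⟨c, hc⟩ with e | e
      · exact e
      · exfalso
        have he : (c : C) * t * (c : C)⁻¹ = t * z := hc.trans e
        have h2 := congrArg χ he
        rw [map_mul, map_mul, map_inv, mul_comm (χ c), mul_inv_cancel_right, map_mul, hχ, left_eq_mul] at h2
        exact absurd h2 (by decide)
    rw [h1, Set.ncard_singleton, one_mul] at h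
    rwa [h] at hdvd

end Cover

end CfsgLib.Recog.Fi22Cent
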