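import Cfsg.Agent.Lib.PLocal.U6JSpan

/-!
The product of the three members at a base of the isotropic half is centralized by a group of order
divisible by nine, and two commuting members lie in a clique.
-/

set_option autoImplicit false
set_option linter.unusedSectionVars false

namespace CfsgLib.Recog.Fi22Cent

open Matrix CfsgLib.MaxSub CfsgLib.Classical CfsgLib.Trans3.TvSU CfsgLib.Trans3.Fi CfsgLib.PLocal.U6J

variable {F : Type*} [Field F] [Fintype F] (hF : Fintype.card F = 2 ^ 2) (R : Frame F)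
include hF

/-- An element fixing the lines of the base and the identity in its cube, moving the sum. -/
theorem exists_diag : ∃ (g : ↥(Cfsg.SU 6 F 2)) (a : F), a ≠ 0 ∧ a ≠ 1 ∧ a * a * a = 1 ∧ Good R g ∧
    act g (R.v 0) = a • R.v 0 ∧ act g (R.v 1) = a⁻¹ • R.v 1 ∧ act g (R.v 2) = R.v 2 := by
  classical
  obtain ⟨a, ha0, ha1⟩ : ∃ a : F, a ≠ 0 ∧ a ≠ 1 := by
    by_contra! h
    have hle : (Finset.univ : Finset F).card ≤ ({0, 1} : Finset F).card := Finset.card_le_card fun x _ => by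
      by_cases h0 : x = 0
      · simp [h0]
      · simp [h x h0]
    rw [Finset.card_univ, hF] at hle
    have h2 := (Finset.card_le_two (a := (0 : F)) (b := 1))
    omega
  have ha3 : a * a * a = 1 := by
    have h := FiniteField.pow_card_sub_one_eq_one a ha0
    rw [hF] at h
    norm_num [pow_succ] at h
    exact h
  have move : ∀ (i j : Fin 3) (c : F), i ≠ j → ∃ g : ↥(Cfsg.SU 6 F 2), Good R g ∧
      ∀ x ∈ R.S, act g x = x + hh x (R.w i) • (c • R.v j) := fun i j c hij =>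
    exists_move hF R i (Submodule.smul_mem _ _ (v_mem hF R j))
      (by rw [hh_smul_left hF, R.vw, if_neg (Ne.symm hij), mul_zero])
  have weyl : ∀ c : F, c ≠ 0 → ∃ g : ↥(Cfsg.SU 6 F 2), Good R g ∧ act g (R.v 0) = c⁻¹ • R.v 1 ∧
      act g (R.v 1) = c • R.v 0 ∧ act g (R.v 2) = R.v 2 := by
    intro c hc
    obtain ⟨g, hg, eg⟩ := move 1 0 c (by decide)
    obtain ⟨k, hk, ek⟩ := move 0 1 c⁻¹ (by decide)
    have m0 := v_mem hF R 0
    have m1 := v_mem hF R 1
    have m2 := v_mem hF R 2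
    have g0 : act g (R.v 0) = R.v 0 := by
      rw [eg _ m0, R.vw, if_neg (by decide), zero_smul, add_zero]
    have g1 : act g (R.v 1) = R.v 1 + c • R.v 0 := by
      rw [eg _ m1, R.vw, if_pos rfl, one_smul]
    have g2 : act g (R.v 2) = R.v 2 := by
      rw [eg _ m2, R.vw, if_neg (by decide), zero_smul, add_zero]
    have k0 : act k (R.v 0) = R.v 0 + c⁻¹ • R.v 1 := by
      rw [ek _ m0, R.vw, if_pos rfl, one_smul]
    have k1 : act k (R.v 1) = R.v 1 := by
      rw [ek _ m1, R.vw, if_neg (by decide), zero_smul, add_zero]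
    have k2 : act k (R.v 2) = R.v 2 := by
      rw [ek _ m2, R.vw, if_neg (by decide), zero_smul, add_zero]
    refine ⟨g * k * g, good_mul hF R (good_mul hF R hg hk) hg, ?_, ?_, ?_⟩
    · rw [act_mul, act_mul, g0, k0, act_add hF, act_smul hF, g0, g1, smul_add, smul_smul,
        inv_mul_cancel₀ hc, one_smul]
      rw [show R.v 0 + (c⁻¹ • R.v 1 + R.v 0) = c⁻¹ • R.v 1 + (R.v 0 + R.v 0) by abel, vec_add_self hF,
        add_zero]
    · rw [act_mul, act_mul, g1, act_add hF, act_smul hF, k1, k0, smul_add, smul_smul, mul_inv_cancel₀ hc,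
        one_smul, show R.v 1 + (c • R.v 0 + R.v 1) = c • R.v 0 + (R.v 1 + R.v 1) by abel, vec_add_self hF,
        add_zero, act_smul hF, g0]
    · rw [act_mul, act_mul, g2, k2, g2]
  obtain ⟨p, hp, p0, p1, p2⟩ := weyl a ha0
  obtain ⟨q, hq, q0, q1, q2⟩ := weyl 1 one_ne_zero
  refine ⟨p * q, a, ha0, ha1, ha3, good_mul hF R hp hq, ?_, ?_, ?_⟩
  · rw [act_mul, q0, inv_one, one_smul, p1]
  · rw [act_mul, q1, one_smul, p0]
  · rw [act_mul, q2, p2]

variable {Y : Type*} [Group Y] [Finite Y] {D : Set Y} (f : ↥(Cfsg.SU 6 F 2) →* Y)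
  (hf : Function.Surjective f) (hk : f.ker = Subgroup.center ↥(Cfsg.SU 6 F 2))
  (hD : Cfsg.IsThreeTranspositionGroup D)
include hf hk hD

/-- A group of order divisible by nine centralizes the product at the base. -/
theorem nine_base : 9 ∣ Nat.card (Subgroup.centralizer
    ({pt hF f (R.v 0) * pt hF f (R.v 1) * pt hF f (R.v 2)} : Set Y)) := by
  classical
  obtain ⟨d, a, ha0, ha1, ha3, hd, d0, d1, d2⟩ := exists_diag hF R
  have hS := v_mem hF R
  have hiso : ∀ {x}, x ∈ R.S → hh x x = 0 := fun hx => S_iso hF R hx hx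
  have ne20 : ∀ b : F, R.v 2 ≠ b • R.v 1 := fun b e => by
    have h := congrArg (fun x => hh x (R.w 2)) e
    simp [hh_smul_left hF, R.vw] at h
  have hli : ∀ b c : F, R.v 0 ≠ b • R.v 1 + c • R.v 2 := fun b c e => by
    have h := congrArg (fun x => hh x (R.w 0)) e
    simp [hh_add_left hF, hh_smul_left hF, R.vw] at h
  have hv1 : R.v 1 ≠ 0 := fun e => by
    have h := congrArg (fun x => hh x (R.w 1)) e
    simp [hh_zero_left hF, R.vw] at h
  obtain ⟨g, -, ⟨x, hx, g0⟩, ⟨y, hy, g1⟩, w, hw, g2⟩ :=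
    stage_three hF R (hS 1) hv1 (hS 2) (hS 0) ne20 hli
  obtain ⟨e0, he0⟩ : ∃ e, e = pt hF f (R.v 0) := ⟨_, rfl⟩
  obtain ⟨e1, he1⟩ : ∃ e, e = pt hF f (R.v 1) := ⟨_, rfl⟩
  obtain ⟨e2, he2⟩ : ∃ e, e = pt hF f (R.v 2) := ⟨_, rfl⟩
  rw [← he0, ← he1, ← he2]
  have fd : ∀ {v u : Fin 6 → F} {b : F}, v ∈ R.S → u ∈ R.S → b ≠ 0 → ∀ k : ↥(Cfsg.SU 6 F 2),
      act k v = b • u → f k * pt hF f v * (f k)⁻¹ = pt hF f u := fun hv hu hb k e =>
    conj_pt_smul hF R f hf hk hD hv hu hb e
  have c0 : f d * e0 * (f d)⁻¹ = e0 := he0 ▸ fd (hS 0) (hS 0) ha0 d d0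
  have c1 : f d * e1 * (f d)⁻¹ = e1 := he1 ▸ fd (hS 1) (hS 1) (inv_ne_zero ha0) d d1
  have c2 : f d * e2 * (f d)⁻¹ = e2 := he2 ▸ fd (hS 2) (hS 2) one_ne_zero d (by rw [d2, one_smul])
  have s0 : f g * e0 * (f g)⁻¹ = e1 := by rw [he0, he1]; exact fd (hS 0) (hS 1) hx g g0
  have s1 : f g * e1 * (f g)⁻¹ = e2 := by rw [he1, he2]; exact fd (hS 1) (hS 2) hy g g1
  have s2 : f g * e2 * (f g)⁻¹ = e0 := by rw [he2, he0]; exact fd (hS 2) (hS 0) hw g g2
  obtain ⟨hc01, hc02, hc12⟩ : Commute e0 e1 ∧ Commute e0 e2 ∧ Commute e1 e2 := by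
    have hm : ∀ i, pt hF f (R.v i) ∈ Ec hF R f := fun i => ⟨_, ⟨hS i, fun e => by
      have h := congrArg (fun x => hh x (R.w i)) e
      simp [hh_zero_left hF, R.vw] at h⟩, rfl⟩
    rw [he0, he1, he2]
    exact ⟨Ec_comm hF R f hf hk hD _ (hm 0) _ (hm 1), Ec_comm hF R f hf hk hD _ (hm 0) _ (hm 2),
      Ec_comm hF R f hf hk hD _ (hm 1) _ (hm 2)⟩
  obtain ⟨H, eH⟩ : ∃ H, H = Subgroup.closure ({f d, f g} : Set Y) := ⟨_, rfl⟩
  have hdH : f d ∈ H := eH ▸ Subgroup.subset_closure (by simp)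
  have hgH : f g ∈ H := eH ▸ Subgroup.subset_closure (by simp)
  have hle : H ≤ Subgroup.centralizer ({e0 * e1 * e2} : Set Y) := by
    rw [eH, Subgroup.closure_le]
    intro u hu
    rw [SetLike.mem_coe, Subgroup.mem_centralizer_singleton_iff, ← mul_inv_eq_iff_eq_mul]
    rcases hu with rfl | rfl
    · rw [show f d * (e0 * e1 * e2) * (f d)⁻¹ =
        (f d * e0 * (f d)⁻¹) * (f d * e1 * (f d)⁻¹) * (f d * e2 * (f d)⁻¹) by group, c0, c1, c2]
    · rw [show f g * (e0 * e1 * e2) * (f g)⁻¹ =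
        (f g * e0 * (f g)⁻¹) * (f g * e1 * (f g)⁻¹) * (f g * e2 * (f g)⁻¹) by group, s0, s1, s2]
      calc e1 * e2 * e0 = e1 * (e0 * e2) := by rw [mul_assoc, hc02.eq]
        _ = _ := by rw [← mul_assoc, hc01.eq]
  refine dvd_trans ?_ (Subgroup.card_dvd_of_le hle)
  -- three points in the orbit
  letI : MulAction H Y := MulAction.compHom Y ((MulAut.conj : Y →* MulAut Y).comp H.subtype)
  have smul_def : ∀ (h : H) (u : Y), h • u = (h : Y) * u * (h : Y)⁻¹ := fun _ _ => rfl
  have horb : MulAction.orbit H e0 = {e0, e1, e2} := by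
    apply Set.Subset.antisymm
    · rintro _ ⟨h, rfl⟩
      have key : ∀ u ∈ H, ∀ v ∈ ({e0, e1, e2} : Set Y), u * v * u⁻¹ ∈ ({e0, e1, e2} : Set Y) := by
        intro u hu
        rw [eH] at hu
        induction hu using Subgroup.closure_induction_left with
        | one => intro v hv; simpa using hv
        | mul_left a ha b _ ih =>
          intro v hv
          have hb := ih v hv
          rw [show a * b * v * (a * b)⁻¹ = a * (b * v * b⁻¹) * a⁻¹ by group]
          generalize b * v * b⁻¹ = u at hb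
          rcases ha with rfl | rfl <;> rcases hb with rfl | rfl | rfl <;>
            simp [c0, c1, c2, s0, s1, s2]
        | inv_mul_cancel a ha b _ ih =>
          intro v hv
          have hb := ih v hv
          rw [show a⁻¹ * b * v * (a⁻¹ * b)⁻¹ = a⁻¹ * (b * v * b⁻¹) * a by group]
          generalize b * v * b⁻¹ = u at hb
          have inv : ∀ {p q : Y}, a * p * a⁻¹ = q → a⁻¹ * q * a = p := fun e => by rw [← e]; group
          rcases ha with rfl | rfl <;> rcases hb with rfl | rfl | rfl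
          all_goals first
            | (rw [inv c0]; simp) | (rw [inv c1]; simp) | (rw [inv c2]; simp)
            | (rw [inv s0]; simp) | (rw [inv s1]; simp) | (rw [inv s2]; simp)
      exact key h h.2 e0 (Or.inl rfl)
    · intro u hu
      rcases hu with rfl | rfl | rfl
      · exact MulAction.mem_orbit_self _
      · exact ⟨⟨f g, hgH⟩, s0⟩
      · exact ⟨⟨f g * f g, mul_mem hgH hgH⟩, by
          show f g * f g * e0 * (f g * f g)⁻¹ = _
          rw [show f g * f g * e0 * (f g * f g)⁻¹ = f g * (f g * e0 * (f g)⁻¹) * (f g)⁻¹ by group, s0, s1]⟩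
  have hne : e0 ≠ e1 ∧ e0 ≠ e2 ∧ e1 ≠ e2 := by
    have key : ∀ i j : Fin 3, i ≠ j → pt hF f (R.v i) ≠ pt hF f (R.v j) := fun i j hij e => by
      obtain ⟨b, -, hb⟩ := pt_eq hF f hk (fun e0 => by
        have h := congrArg (fun x => hh x (R.w i)) e0
        simp [hh_zero_left hF, R.vw] at h) (hiso (hS i)) (hiso (hS j)) e
      have h := congrArg (fun x => hh x (R.w i)) hb
      simp [hh_smul_left hF, R.vw, hij, Ne.symm hij] at h
    rw [he0, he1, he2]
    exact ⟨key 0 1 (by decide), key 0 2 (by decide), key 1 2 (by decide)⟩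
  have h3 : Nat.card (MulAction.orbit H e0) = 3 := by
    rw [Nat.card_coe_set_eq, horb]
    exact Set.ncard_eq_three.2 ⟨_, _, _, hne.1, hne.2.1, hne.2.2, rfl⟩
  have h := Nat.card_congr (MulAction.orbitProdStabilizerEquivGroup H e0)
  rw [Nat.card_prod, h3] at h
  -- three divides the order of the diagonal element
  have hmov : f d * pt hF f (R.v 0 + R.v 1 + R.v 2) * (f d)⁻¹ ≠ pt hF f (R.v 0 + R.v 1 + R.v 2) := by
    intro e
    rw [conj_pt hF f d (hiso (add_mem (add_mem (hS 0) (hS 1)) (hS 2))), act_add hF, act_add hF, d0, d1,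
      d2] at e
    obtain ⟨b, -, hb⟩ := pt_eq hF f hk (fun e0 => by
      have h := congrArg (fun x => hh x (R.w 2)) e0
      simp [hh_zero_left hF, hh_add_left hF, hh_smul_left hF, R.vw] at h)
      (hiso (add_mem (add_mem (Submodule.smul_mem _ _ (hS 0)) (Submodule.smul_mem _ _ (hS 1))) (hS 2)))
      (hiso (add_mem (add_mem (hS 0) (hS 1)) (hS 2))) e
    have h0 := congrArg (fun x => hh x (R.w 0)) hb
    have h2 := congrArg (fun x => hh x (R.w 2)) hb
    simp [hh_add_left hF, hh_smul_left hF, R.vw] at h0 h2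
    exact ha1 (h0.trans h2.symm)
  have hord : 3 ∣ orderOf (f d) := by
    by_contra h'
    obtain ⟨m, hm⟩ := exists_pow_eq_self_of_coprime (n := 3) (x := f d)
      ((Nat.prime_three.coprime_iff_not_dvd).2 h')
    refine hmov ?_
    rw [← hm]
    have hfix : ∀ m : ℕ, (f d ^ 3) ^ m * pt hF f (R.v 0 + R.v 1 + R.v 2) * ((f d ^ 3) ^ m)⁻¹ =
        pt hF f (R.v 0 + R.v 1 + R.v 2) := by
      intro m
      induction m with
      | zero => simp
      | succ m ih =>
        rw [pow_succ', show f d ^ 3 * (f d ^ 3) ^ m * pt hF f (R.v 0 + R.v 1 + R.v 2) *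
          (f d ^ 3 * (f d ^ 3) ^ m)⁻¹ = f d ^ 3 * ((f d ^ 3) ^ m * pt hF f (R.v 0 + R.v 1 + R.v 2) *
          ((f d ^ 3) ^ m)⁻¹) * (f d ^ 3)⁻¹ by group, ih, ← map_pow,
          conj_pt hF f _ (hiso (add_mem (add_mem (hS 0) (hS 1)) (hS 2)))]
        congr 1
        rw [show d ^ 3 = d * d * d by rw [pow_succ, pow_two]]
        simp only [act_mul, act_add hF, act_smul hF, d0, d1, d2, smul_smul]
        rw [show a * (a * a) = 1 by rw [← mul_assoc, ha3],
          show a⁻¹ * (a⁻¹ * a⁻¹) = 1 by rw [← _root_.mul_inv, ← _root_.mul_inv, ← mul_assoc, ha3,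
            inv_one], one_smul, one_smul]
    exact hfix m
  have hstab : 3 ∣ Nat.card (MulAction.stabilizer H e0) := by
    have ho : orderOf (⟨⟨f d, hdH⟩, c0⟩ : MulAction.stabilizer H e0) = orderOf (f d) := by
      rw [← orderOf_injective ((H.subtype).comp (MulAction.stabilizer H e0).subtype)
        (Subtype.val_injective.comp Subtype.val_injective)]
      rfl
    exact (ho ▸ hord).trans (orderOf_dvd_natCard _)
  rw [← h, show (9 : ℕ) = 3 * 3 from rfl]
  exact Nat.mul_dvd_mul_left 3 hstab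

/-- The products of three members outside the other kinds. -/
theorem nine_triple {u : Y} (hu : u ∈ Subgroup.closure (Ec hF R f))
    (hu' : u ≠ 1 ∧ u ∉ Ec hF R f ∧ u ∉ pairSet (Ec hF R f)) :
    9 ∣ Nat.card (Subgroup.centralizer ({u} : Set Y)) := by
  obtain ⟨p, q, r, hp, hp0, hq, hr, hli, hli', rfl⟩ :=
    ((kinds hF R f hf hk hD hu hu'.1).resolve_left hu'.2.1).resolve_left hu'.2.2
  obtain ⟨g, -, ⟨x, hx, eg⟩, ⟨y, hy, eg'⟩, w, hw, eg''⟩ := stage_three hF R hp hp0 hq hr hli hli'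
  refine (nine_base hF R f hf hk hD).trans (dvd_of_eq ?_)
  have e : pt hF f p * pt hF f q * pt hF f r =
      f g * (pt hF f (R.v 0) * pt hF f (R.v 1) * pt hF f (R.v 2)) * (f g)⁻¹ := by
    rw [← conj_pt_smul hF R f hf hk hD (v_mem hF R 0) hp hx eg,
      ← conj_pt_smul hF R f hf hk hD (v_mem hF R 1) hq hy eg',
      ← conj_pt_smul hF R f hf hk hD (v_mem hF R 2) hr hw eg'']
    group
  have hcc : ∀ v : Y, (Subgroup.centralizer ({v} : Set Y)).map (MulAut.conj (f g)).toMonoidHom =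
      Subgroup.centralizer ({f g * v * (f g)⁻¹} : Set Y) := by
    intro v
    ext c
    simp only [Subgroup.mem_map, Subgroup.mem_centralizer_singleton_iff, MulEquiv.coe_toMonoidHom,
      MulAut.conj_apply]
    constructor
    · rintro ⟨b, hb, rfl⟩
      calc f g * b * (f g)⁻¹ * (f g * v * (f g)⁻¹) = f g * (b * v) * (f g)⁻¹ := by group
        _ = _ := by rw [hb]; group
    · intro hc
      refine ⟨(f g)⁻¹ * c * f g, ?_, by group⟩
      calc (f g)⁻¹ * c * f g * v = (f g)⁻¹ * (c * (f g * v * (f g)⁻¹)) * f g := by group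
        _ = _ := by rw [hc]; group
  rw [e, ← hcc, Subgroup.card_map_of_injective (MulAut.conj (f g)).injective]

/-- Commuting members lie in a conjugate of the clique. -/
theorem pair_into {a b : Y} (ha : a ∈ D) (hb : b ∈ D) (hc : Commute a b) :
    ∃ g : Y, g * a * g⁻¹ ∈ Ec hF R f ∧ g * b * g⁻¹ ∈ Ec hF R f := by
  have hsq : ∀ u ∈ ({a, b} : Set Y), u * u = 1 := by
    rintro u (rfl | rfl)
    exacts [Trans3.sq_one hD.1 ha, Trans3.sq_one hD.1 hb]
  obtain ⟨g, hg⟩ := conj_into hF R f hf hk hD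
    (Trans3.isPGroup_two_closure_of_commute (E := ({a, b} : Set Y)) (by
      rintro u (rfl | rfl) v (rfl | rfl)
      exacts [Commute.refl _, hc, hc.symm, Commute.refl _]) hsq)
  exact ⟨g, mem_Ec_of_mem hF R f hf hk hD (hD.2.1 g a ha) (hg a (Subgroup.subset_closure (by simp))),
    mem_Ec_of_mem hF R f hf hk hD (hD.2.1 g b hb) (hg b (Subgroup.subset_closure (by simp)))⟩

end CfsgLib.Recog.Fi22Cent
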