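import Cfsg.Agent.Lib.Recog.U6Cent.NatCoord
import Cfsg.Agent.Lib.Recog.U6Cent.NatOutGeom

/-!
Involutory linear isometries of the four-dimensional Hermitian space over four elements: each is a transvection
or a product of two orthogonal transvections, with normal forms.
-/

set_option autoImplicit false

set_option linter.unusedSectionVars false

namespace CfsgLib.Recog.Fi22Cent

open Cfsg CfsgLib.Recog.U6Cent
open scoped Matrix

variable {F : Type*} [Field F] [Fintype F]

/-- The isotropic vector `(1,1,0,0)`. -/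
def va : Fin 4 → F := ![1, 1, 0, 0]

/-- The isotropic vector `(0,0,1,1)`. -/
def vb : Fin 4 → F := ![0, 0, 1, 1]

/-- The first basis vector. -/
def ve0 : Fin 4 → F := ![1, 0, 0, 0]

/-- The third basis vector. -/
def ve2 : Fin 4 → F := ![0, 0, 1, 0]

/-- The fourth basis vector. -/
def ve3 : Fin 4 → F := ![0, 0, 0, 1]

/-- A linear isometry. -/
structure IsIsom (f : (Fin 4 → F) → Fin 4 → F) : Prop where
  add : ∀ x y, f (x + y) = f x + f y
  smul : ∀ (k : F) x, f (k • x) = k • f x
  herm : ∀ x y, hermForm 4 F 2 (f x) (f y) = hermForm 4 F 2 x y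

variable (hF : Fintype.card F = 4)
include hF

theorem herm_va (x : Fin 4 → F) : hermForm 4 F 2 x va = x 0 + x 1 := by
  simp [hermForm, va, Fin.sum_univ_four]

theorem herm_vb (x : Fin 4 → F) : hermForm 4 F 2 x vb = x 2 + x 3 := by
  simp [hermForm, vb, Fin.sum_univ_four]

theorem herm_ve2 (x : Fin 4 → F) : hermForm 4 F 2 x ve2 = x 2 := by
  simp [hermForm, ve2, Fin.sum_univ_four]

theorem herm_ve3 (x : Fin 4 → F) : hermForm 4 F 2 x ve3 = x 3 := by
  simp [hermForm, ve3, Fin.sum_univ_four]

theorem va_iso : hermForm 4 F 2 (va : Fin 4 → F) va = 0 := by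
  rw [herm_va hF]; simp [va, f4_add_self hF]

theorem va_ne : (va : Fin 4 → F) ≠ 0 := fun h => by simpa [va] using congrFun h 0

theorem vb_iso : hermForm 4 F 2 (vb : Fin 4 → F) vb = 0 := by
  rw [herm_vb hF]; simp [vb, f4_add_self hF]

theorem isom_transvec {l : Fin 4 → F} (hl : hermForm 4 F 2 l l = 0) : IsIsom (transvec l) where
  add x y := by unfold transvec; rw [herm_add_left hF, add_smul]; abel
  smul k x := by unfold transvec; rw [herm_smul_left hF, smul_add, smul_smul]
  herm x y := by
    unfold transvec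
    rw [herm_add_left hF, herm_add_right hF, herm_add_right hF, herm_smul_left hF, herm_smul_left hF,
      herm_smul_right hF, herm_smul_right hF, hl, herm_swap hF y l]
    linear_combination (hermForm 4 F 2 x l * hermForm 4 F 2 y l ^ 2) * f4_char hF

theorem transvec_invol {l : Fin 4 → F} (hl : hermForm 4 F 2 l l = 0) (x : Fin 4 → F) :
    transvec l (transvec l x) = x := by
  unfold transvec
  rw [herm_add_left hF, herm_smul_left hF, hl, mul_zero, add_zero, add_assoc, vadd_self hF, add_zero]

omit [Fintype F] hF in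
theorem isom_comp {f g : (Fin 4 → F) → Fin 4 → F} (hf : IsIsom f) (hg : IsIsom g) :
    IsIsom (f ∘ g) :=
  ⟨fun x y => by simp [hg.add, hf.add], fun k x => by simp [hg.smul, hf.smul],
    fun x y => by simp [hf.herm, hg.herm]⟩

omit [Fintype F] hF in
theorem isom_su (M : SU 4 F 2) : IsIsom (fun x => slToMat 4 F M *ᵥ x) :=
  ⟨fun x y => Matrix.mulVec_add _ x y, fun k x => Matrix.mulVec_smul _ k x, M.2⟩

/-- An isometry fixing the hyperplane orthogonal to `(1,1,0,0)` is the identity or the transvection. -/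
theorem isom_fix_perp {f : (Fin 4 → F) → Fin 4 → F} (hf : IsIsom f) (ha : f va = va) (h2 : f ve2 = ve2)
    (h3 : f ve3 = ve3) : (∀ x, f x = x) ∨ ∀ x, f x = transvec va x := by
  set w := f ve0 + ve0 with hw
  have e0 : f ve0 = ve0 + w := by rw [hw, add_comm, add_assoc, vadd_self hF, add_zero]
  have hdec : ∀ x, f x = x + (x 0 + x 1) • w := by
    intro x
    have hx : x = (x 0 + x 1) • ve0 + x 1 • va + x 2 • ve2 + x 3 • ve3 := by
      funext i
      fin_cases i <;> simp [ve0, va, ve2, ve3, add_assoc, f4_add_self hF]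
    conv_lhs => rw [hx]
    rw [hf.add, hf.add, hf.add, hf.smul, hf.smul, hf.smul, hf.smul, ha, h2, h3, e0]
    conv_rhs => arg 1; rw [hx]
    rw [smul_add]
    abel
  have ka := hf.herm ve0 va
  have k2 := hf.herm ve0 ve2
  have k3 := hf.herm ve0 ve3
  rw [ha, e0, herm_va hF, herm_va hF] at ka
  rw [h2, e0, herm_ve2 hF, herm_ve2 hF] at k2
  rw [h3, e0, herm_ve3 hF, herm_ve3 hF] at k3
  simp [ve0] at ka k2 k3
  have w1 : w 1 = w 0 := f4_eq_of_add_zero hF (by linear_combination ka)
  have hw' : w = w 0 • va := by funext i; fin_cases i <;> simp [va, w1, k2, k3]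
  have k0 := hf.herm ve0 ve0
  rw [e0, hw'] at k0
  simp [hermForm, va, ve0, Fin.sum_univ_four] at k0
  have hc : w 0 ^ 2 = w 0 := f4_eq_of_add_zero hF (by
    linear_combination k0 - (w 0 + w 0 ^ 2 + w 0 ^ 3) * f4_char hF)
  rcases f4_bool hc with h | h <;> rw [h] at hw'
  · exact Or.inl fun x => by rw [hdec, hw', zero_smul, smul_zero, add_zero]
  · exact Or.inr fun x => by rw [hdec, hw', one_smul, transvec, herm_va hF]

/-- An isometry fixing `(1,1,0,0)` and `(0,0,1,1)` that commutes with `diag(ω,ω,ω²,ω²)`. -/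
theorem isom_plane {f : (Fin 4 → F) → Fin 4 → F} (hf : IsIsom f) (ha : f va = va) (hb : f vb = vb)
    {ω : F} (h1 : ω ≠ 1) (h0 : ω ≠ 0)
    (hD : ∀ x, f (fun i => ![ω, ω, ω ^ 2, ω ^ 2] i * x i) = fun i => ![ω, ω, ω ^ 2, ω ^ 2] i * f x i) :
    (∀ x, f x = x) ∨ (∀ x, f x = transvec va x) ∨ (∀ x, f x = transvec vb x) ∨
      ∀ x, f x = transvec va (transvec vb x) := by
  have hne : ω ≠ ω ^ 2 := fun e => h1 (mul_left_cancel₀ h0 (by rw [mul_one, ← pow_two, ← e]))
  set w := f ve0 + ve0 with hw
  set u := f ve2 + ve2 with hu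
  have e0 : f ve0 = ve0 + w := by rw [hw, add_comm, add_assoc, vadd_self hF, add_zero]
  have e2 : f ve2 = ve2 + u := by rw [hu, add_comm, add_assoc, vadd_self hF, add_zero]
  have hdec : ∀ x, f x = x + ((x 0 + x 1) • w + (x 2 + x 3) • u) := by
    intro x
    have hx : x = (x 0 + x 1) • ve0 + x 1 • va + (x 2 + x 3) • ve2 + x 3 • vb := by
      funext i
      fin_cases i <;> simp [ve0, va, ve2, vb, add_assoc, f4_add_self hF]
    conv_lhs => rw [hx]
    rw [hf.add, hf.add, hf.add, hf.smul, hf.smul, hf.smul, hf.smul, ha, hb, e0, e2]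
    conv_rhs => arg 1; rw [hx]
    simp only [smul_add]
    abel
  have d0 : (fun i => ![ω, ω, ω ^ 2, ω ^ 2] i * ve0 i) = ω • (ve0 : Fin 4 → F) := by
    funext i; fin_cases i <;> simp [ve0]
  have d2 : (fun i => ![ω, ω, ω ^ 2, ω ^ 2] i * ve2 i) = ω ^ 2 • (ve2 : Fin 4 → F) := by
    funext i; fin_cases i <;> simp [ve2]
  have p0 := hD ve0
  have p2 := hD ve2
  rw [d0, hf.smul, e0] at p0
  rw [d2, hf.smul, e2] at p2
  have cancel : ∀ a : F, ω * a = ω ^ 2 * a → a = 0 := fun a h => by
    by_contra ha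
    exact hne (mul_right_cancel₀ ha h)
  have w2 : w 2 = 0 := cancel _ (by
    simpa only [Pi.smul_apply, Pi.add_apply, smul_eq_mul, ve0, Matrix.cons_val, zero_add] using congrFun p0 2)
  have w3 : w 3 = 0 := cancel _ (by
    simpa only [Pi.smul_apply, Pi.add_apply, smul_eq_mul, ve0, Matrix.cons_val, zero_add] using congrFun p0 3)
  have u0 : u 0 = 0 :=
    cancel _ (by
    simpa only [Pi.smul_apply, Pi.add_apply, smul_eq_mul, ve2, Matrix.cons_val, zero_add] using
      (congrFun p2 0).symm)
  have u1 : u 1 = 0 :=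
    cancel _ (by
    simpa only [Pi.smul_apply, Pi.add_apply, smul_eq_mul, ve2, Matrix.cons_val, zero_add] using
      (congrFun p2 1).symm)
  have ka := hf.herm ve0 va
  have kb := hf.herm ve2 vb
  rw [ha, e0, herm_va hF, herm_va hF] at ka
  rw [hb, e2, herm_vb hF, herm_vb hF] at kb
  simp [ve0, ve2] at ka kb
  have w1 : w 1 = w 0 := f4_eq_of_add_zero hF (by linear_combination ka)
  have u3 : u 3 = u 2 := f4_eq_of_add_zero hF (by linear_combination kb)
  have hw' : w = w 0 • va := by funext i; fin_cases i <;> simp [va, w1, w2, w3]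
  have hu' : u = u 2 • vb := by funext i; fin_cases i <;> simp [vb, u3, u0, u1]
  have k0 := hf.herm ve0 ve0
  have k2 := hf.herm ve2 ve2
  rw [e0, hw'] at k0
  rw [e2, hu'] at k2
  simp [hermForm, va, ve0, Fin.sum_univ_four] at k0
  simp [hermForm, vb, ve2, Fin.sum_univ_four] at k2
  have hc : w 0 ^ 2 = w 0 := f4_eq_of_add_zero hF (by
    linear_combination k0 - (w 0 + w 0 ^ 2 + w 0 ^ 3) * f4_char hF)
  have hd : u 2 ^ 2 = u 2 := f4_eq_of_add_zero hF (by
    linear_combination k2 - (u 2 + u 2 ^ 2 + u 2 ^ 3) * f4_char hF)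
  have hperp : hermForm 4 F 2 (vb : Fin 4 → F) va = 0 := by rw [herm_va hF]; simp [vb]
  rcases f4_bool hc with h | h <;> rw [h] at hw' <;> rcases f4_bool hd with h' | h' <;> rw [h'] at hu'
  · exact Or.inl fun x => by rw [hdec, hw', hu']; simp
  · exact Or.inr (Or.inr (Or.inl fun x => by rw [hdec, hw', hu']; simp [transvec, herm_vb hF]))
  · exact Or.inr (Or.inl fun x => by rw [hdec, hw', hu']; simp [transvec, herm_va hF])
  · refine Or.inr (Or.inr (Or.inr fun x => ?_))
    rw [hdec, hw', hu', one_smul, one_smul, ← herm_va hF, ← herm_vb hF]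
    simp only [transvec, herm_add_left hF, herm_smul_left hF, hperp, mul_zero, add_zero]
    abel

/-- An element of `SU₄(2)` moves an orthogonal pair of isotropic points to the standard pair. -/
theorem exists_pair {l m : Fin 4 → F} (hl : hermForm 4 F 2 l l = 0) (hl0 : l ≠ 0)
    (hm : hermForm 4 F 2 m m = 0) (hlm : hermForm 4 F 2 m l = 0) (hne : ∀ k : F, m ≠ k • l) :
    ∃ M : SU 4 F 2, slToMat 4 F M *ᵥ l = va ∧ ∃ k : F, k ≠ 0 ∧ slToMat 4 F M *ᵥ m = k • vb := by
  obtain ⟨ω, h0, h1, hω, h3⟩ := exists_omega hF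
  obtain ⟨M, hM⟩ := exists_su_map hF hl hl0 (va_iso hF) (va_ne hF)
  set w := slToMat 4 F M *ᵥ m with hw
  have wiso : hermForm 4 F 2 w w = 0 := (M.2 m m).trans hm
  have w1 : w 1 = w 0 := f4_eq_of_add_zero hF (by
    have h : hermForm 4 F 2 w va = 0 := by rw [← hM]; exact (M.2 m l).trans hlm
    rw [herm_va hF] at h
    rw [add_comm, h])
  have hcd : w 2 ≠ 0 ∧ w 3 ≠ 0 := by
    have e : w 2 * w 2 ^ 2 + w 3 * w 3 ^ 2 = 0 := by
      simp [hermForm, Fin.sum_univ_four, w1, f4_add_self hF] at wiso
      exact wiso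
    have hno : ¬ (w 2 = 0 ∧ w 3 = 0) := fun h => hne (w 0) <| by
      apply Matrix.mulVec_injective_of_isUnit (A := slToMat 4 F M)
        ((Matrix.isUnit_iff_isUnit_det _).2 (by
          show IsUnit ((M : Matrix.SpecialLinearGroup (Fin 4) F) : Matrix (Fin 4) (Fin 4) F).det
          rw [Matrix.SpecialLinearGroup.det_coe]; exact isUnit_one))
      show w = slToMat 4 F M *ᵥ (w 0 • l)
      rw [Matrix.mulVec_smul, hM]
      funext i; fin_cases i <;> simp [va, w1, h.1, h.2]
    refine ⟨fun h => hno ⟨h, ?_⟩, fun h => hno ⟨?_, h⟩⟩ <;> rw [h] at e <;> simpa using e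
  obtain ⟨hc, hd⟩ := hcd
  set q : Fin 4 → F := ![ω ^ 2 * w 0, ω ^ 2 * w 0, w 2, ω * w 3] with hq
  have qiso : hermForm 4 F 2 q q = 0 := by
    simp [hermForm, Fin.sum_univ_four, hq, f4_add_self hF]
    linear_combination f4_norm hF hc + (ω ^ 3) * f4_norm hF hd + h3 + f4_char hF
  obtain ⟨T, hT⟩ := exists_su_transvec hF qiso
  set e := ω * w 2 * w 3 ^ 2 with he
  have he0 : e ≠ 0 := mul_ne_zero (mul_ne_zero h0 hc) (pow_ne_zero 2 hd)
  obtain ⟨D, hD⟩ := exists_su_diag hF ![1, 1, e, e ^ 2]
    (fun i => by fin_cases i <;> simp [he0])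
    (by simp only [Matrix.cons_val]; linear_combination f4_norm hF he0)
  have hab : hermForm 4 F 2 (va : Fin 4 → F) q = 0 := by
    simp [hermForm, Fin.sum_univ_four, hq, va, f4_add_self hF]
  have hwq : hermForm 4 F 2 w q = ω := by
    simp [hermForm, Fin.sum_univ_four, hq, w1, f4_add_self hF]
    linear_combination f4_norm hF hc + ω ^ 2 * f4_norm hF hd + hω + f4_char hF
  refine ⟨D * (T * M), ?_, e * (ω ^ 2 * w 2), mul_ne_zero he0 (mul_ne_zero (pow_ne_zero 2 h0) hc), ?_⟩
  · rw [mulVec_mul_su hF, mulVec_mul_su hF, hM, hT, transvec, hab, zero_smul, add_zero]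
    funext i; rw [hD]; fin_cases i <;> simp [va]
  · rw [mulVec_mul_su hF, mulVec_mul_su hF, ← hw, hT, transvec, hwq]
    funext i; rw [hD]
    fin_cases i <;> simp [vb, hq, w1, he]
    · linear_combination w 0 * h3 + w 0 * f4_char hF
    · linear_combination w 0 * h3 + w 0 * f4_char hF
    · left; linear_combination (-(w 2)) * hω
    · linear_combination (ω * w 2 * w 3 ^ 2) ^ 2 * w 3 * hω +
        (ω * w 2 * w 3 ^ 2) ^ 2 * w 3 * f4_char hF + ω ^ 3 * w 2 ^ 2 * w 3 * f4_pow hF (w 3)

/-- An involutory isometry other than the identity is a transvection or a product of two. -/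
theorem isom_invol {f : (Fin 4 → F) → Fin 4 → F} (hf : IsIsom f) (hi : ∀ x, f (f x) = x)
    (hne : ∃ x, f x ≠ x) :
    ∃ M : SU 4 F 2, (∀ x, f x = x → hermForm 4 F 2 (slToMat 4 F M *ᵥ x) va = 0) ∧
      ((∀ x, slToMat 4 F M *ᵥ f x = transvec va (slToMat 4 F M *ᵥ x)) ∨
        ∀ x, slToMat 4 F M *ᵥ f x = transvec va (transvec vb (slToMat 4 F M *ᵥ x))) := by
  -- one transvection is split off whenever the isometry is not the identity
  have step : ∀ f : (Fin 4 → F) → Fin 4 → F, IsIsom f → (∀ x, f (f x) = x) → (∃ x, f x ≠ x) →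
      ∃ x l, hermForm 4 F 2 l l = 0 ∧ hermForm 4 F 2 x l = 1 ∧ f l = l ∧ l = x + f x ∧
        (∀ v, transvec l (f (transvec l (f v))) = v) ∧ transvec l (f x) = x := by
    intro f hf hi hne
    have adj : ∀ x y, hermForm 4 F 2 (f x) y = hermForm 4 F 2 x (f y) := fun x y => by
      have h := hf.herm x (f y)
      rwa [hi] at h
    have fixn : ∀ x, f (x + f x) = x + f x := fun x => by rw [hf.add, hi, add_comm]
    have niso : ∀ x, hermForm 4 F 2 (x + f x) (x + f x) = 0 := fun x => by
      rw [herm_add_left hF, adj, fixn, f4_add_self hF]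
    obtain ⟨x, hx⟩ : ∃ x, hermForm 4 F 2 x (x + f x) = 1 := by
      by_contra hall
      push Not at hall
      have hz : ∀ x, hermForm 4 F 2 x (x + f x) = 0 := fun x => (f4_bool (by
        rw [← herm_swap hF, herm_add_left hF, herm_add_right hF, adj])).resolve_right (hall x)
      obtain ⟨y, hy⟩ := hne
      refine hy (v_eq_of_add_zero hF (eq_zero_of_herm hF fun x => ?_)).symm
      refine eq_zero_of_trace hF fun k => ?_
      have h := hz (k • x + y)
      rw [hf.add, add_add_add_comm, herm_add_left hF (k • x) y,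
        herm_add_right hF (k • x) (k • x + f (k • x)), herm_add_right hF y (k • x + f (k • x)), hz (k • x),
        hz y, zero_add, add_zero, herm_add_right hF y, ← adj y, ← herm_add_left hF y (f y) (k • x),
        herm_swap hF (k • x) (y + f y), herm_smul_left hF] at h
      exact h
    refine ⟨x, x + f x, niso x, hx, fixn x, rfl, fun v => ?_, ?_⟩
    · have comm : ∀ u, f (transvec (x + f x) u) = transvec (x + f x) (f u) := fun u => by
        unfold transvec; rw [hf.add, hf.smul, fixn, adj u, fixn]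
      rw [comm, hi, transvec_invol hF (niso x)]
    · have hfx : hermForm 4 F 2 (f x) (x + f x) = 1 := by rw [adj, fixn, hx]
      rw [transvec, hfx, one_smul, add_comm x, vadd_cancel hF]
  obtain ⟨x, l, liso, hxl, fl, hl, hi', hx'⟩ := step f hf hi hne
  have l0 : l ≠ 0 := fun h => by simp [h, herm_zero_right] at hxl
  set f' := fun v => transvec l (f v) with hf'
  have hf'' : IsIsom f' := isom_comp (isom_transvec hF liso) hf
  have back : ∀ v, f v = transvec l (f' v) := fun v => (transvec_invol hF liso (f v)).symm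
  by_cases h' : ∃ v, f' v ≠ v
  · obtain ⟨x₂, m, miso, hxm, fm, hm, hi₂, hx₂⟩ := step f' hf'' hi' h'
    have adj' : ∀ a b, hermForm 4 F 2 (f' a) b = hermForm 4 F 2 a (f' b) := fun a b => by
      have h := hf''.herm a (f' b)
      rwa [show f' (f' b) = b from hi' b] at h
    have fl' : f' l = l := by rw [hf']; simp [transvec, fl, liso]
    have hml : hermForm 4 F 2 m l = 0 := by
      rw [hm, herm_add_left hF, adj', fl', f4_add_self hF]
    have hxm0 : hermForm 4 F 2 m x = 0 := by
      rw [hm, herm_add_left hF, adj', show f' x = x from hx', f4_add_self hF]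
    have hne' : ∀ k : F, m ≠ k • l := fun k e => by
      have h : k * hermForm 4 F 2 l x = 0 := by rw [← herm_smul_left hF, ← e, hxm0]
      rw [herm_swap hF x l, hxl, one_pow, mul_one] at h
      simp [e, h, herm_zero_right] at hxm
    obtain ⟨M, hMl, k, hk, hMm⟩ := exists_pair hF liso l0 miso hml hne'
    have hMx : hermForm 4 F 2 (vb : Fin 4 → F) (slToMat 4 F M *ᵥ x) = 0 := by
      have h : hermForm 4 F 2 (slToMat 4 F M *ᵥ m) (slToMat 4 F M *ᵥ x) = 0 := (M.2 m x).trans hxm0
      rw [hMm, herm_smul_left hF] at h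
      exact (mul_eq_zero.1 h).resolve_left hk
    -- after removing both transvections nothing is left
    set f₂ := fun v => transvec m (f' v) with hf₂
    have hf₂' : IsIsom f₂ := isom_comp (isom_transvec hF miso) hf''
    have adj₂ : ∀ a b, hermForm 4 F 2 (f₂ a) b = hermForm 4 F 2 a (f₂ b) := fun a b => by
      have h := hf₂'.herm a (f₂ b)
      rwa [show f₂ (f₂ b) = b from hi₂ b] at h
    have f₂l : f₂ l = l := by
      rw [hf₂]; simp [transvec, fl', herm_orth_symm hF hml]
    have f₂m : f₂ m = m := by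
      rw [hf₂]; simp [transvec, fm, miso]
    have f₂x : f₂ x = x := by
      show transvec m (f' x) = x
      rw [show f' x = x from hx', transvec, herm_orth_symm hF hxm0, zero_smul, add_zero]
    have hid : ∀ v, f₂ v = v := by
      intro v
      set w := v + f₂ v with hw
      have ho : ∀ b, f₂ b = b → hermForm 4 F 2 (slToMat 4 F M *ᵥ w) (slToMat 4 F M *ᵥ b) = 0 :=
        fun b hb => (M.2 w b).trans (by rw [hw, herm_add_left hF, adj₂, hb, f4_add_self hF])
      set u := slToMat 4 F M *ᵥ w with hu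
      have u1 : u 1 = u 0 := f4_eq_of_add_zero hF (by
        have h := ho l f₂l
        rw [hMl, herm_va hF] at h
        rw [add_comm, h])
      have u3 : u 3 = u 2 := f4_eq_of_add_zero hF (by
        have h := ho m f₂m
        rw [hMm, herm_smul_right hF, herm_vb hF] at h
        rw [add_comm]
        exact (mul_eq_zero.1 h).resolve_left (pow_ne_zero 2 hk))
      have hu' : u = u 0 • va + u 2 • vb := by
        funext i; fin_cases i <;> simp [va, vb, u1, u3]
      have hlx : hermForm 4 F 2 (va : Fin 4 → F) (slToMat 4 F M *ᵥ x) = 1 := by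
        rw [← hMl]
        exact (M.2 l x).trans (by rw [herm_swap hF x l, hxl, one_pow])
      have hmx₂ : hermForm 4 F 2 (vb : Fin 4 → F) (slToMat 4 F M *ᵥ x₂) ≠ 0 := fun h => by
        have h' : hermForm 4 F 2 (slToMat 4 F M *ᵥ m) (slToMat 4 F M *ᵥ x₂) = 0 := by
          rw [hMm, herm_smul_left hF, h, mul_zero]
        rw [show hermForm 4 F 2 (slToMat 4 F M *ᵥ m) (slToMat 4 F M *ᵥ x₂) = _ from M.2 m x₂,
          herm_swap hF x₂ m, hxm, one_pow] at h'
        exact one_ne_zero h'
      have hu0 : u 0 = 0 := by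
        have h := ho x f₂x
        rwa [hu', herm_add_left hF, herm_smul_left hF, herm_smul_left hF, hMx, hlx, mul_one, mul_zero,
          add_zero] at h
      have h := ho x₂ hx₂
      rw [hu', hu0, zero_smul, zero_add, herm_smul_left hF] at h
      have hz : u = 0 := by
        rw [hu', hu0, (mul_eq_zero.1 h).resolve_right hmx₂, zero_smul, zero_smul, add_zero]
      have hw0 : w = 0 := eq_zero_of_herm hF fun b => by
        rw [herm_swap hF w b, ← M.2 w b, ← hu, hz]; simp [hermForm]
      exact (v_eq_of_add_zero hF hw0).symm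
    have hfv : ∀ v, f v = transvec l (transvec m v) := fun v => by
      rw [back, show f' v = transvec m (f₂ v) from (transvec_invol hF miso (f' v)).symm, hid]
    have equiv : ∀ (p v : Fin 4 → F), slToMat 4 F M *ᵥ transvec p v =
        transvec (slToMat 4 F M *ᵥ p) (slToMat 4 F M *ᵥ v) := fun p v => by
      unfold transvec
      rw [Matrix.mulVec_add, Matrix.mulVec_smul, M.2]
    refine ⟨M, fun v hv => ?_, Or.inr fun v => ?_⟩
    · rw [← hMl]
      refine (M.2 v l).trans ?_
      have h := hfv v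
      rw [hv] at h
      have h' := congrArg (fun u => hermForm 4 F 2 u x) h
      simp only [transvec, herm_add_left hF, herm_smul_left hF, hml, mul_zero, add_zero, hxm0,
        herm_swap hF x l, hxl, one_pow, mul_one] at h'
      exact (add_eq_left (a := hermForm 4 F 2 v x)).1 h'.symm
    · rw [hfv, equiv, equiv, hMl, hMm, transvec_smul hF hk]
  · push Not at h'
    obtain ⟨M, hM⟩ := exists_su_map hF liso l0 (va_iso hF) (va_ne hF)
    have hfv : ∀ v, f v = transvec l v := fun v => by rw [back, h']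
    refine ⟨M, fun v hv => ?_, Or.inl fun v => ?_⟩
    · rw [← hM]
      refine (M.2 v l).trans ?_
      have h := hfv v
      rw [hv, transvec] at h
      by_contra hne0
      have h0 := (add_eq_left (a := v)).1 h.symm
      rcases smul_eq_zero.1 h0 with e | e
      · exact hne0 e
      · exact l0 e
    · rw [hfv]
      unfold transvec
      rw [Matrix.mulVec_add, Matrix.mulVec_smul, ← hM, M.2]

end CfsgLib.Recog.Fi22Cent
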