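import Cfsg.Agent.Lib.Recog.Fi22Cent.CoordApi
import Cfsg.Agent.Lib.Recog.Fi22Cent.LocGeom

/-!
The elements of `C(z)` in coordinates: inner and outer parts, lifts, and centralisers in `J`.
-/

set_option autoImplicit false

namespace CfsgLib.Recog.Fi22Cent

open Subgroup Cfsg CfsgLib.Recog.U6Cent
open scoped Matrix

variable {G : Type*} [Group G] {F : Type*} [Field F] [Fintype F]

namespace Setup

variable (S : Setup G F)

theorem z_inv_eq : S.z⁻¹ = S.z := inv_eq_of_mul_eq_one_right S.z_sq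

/-- The inner part has index two in `C(z)`. -/
theorem mul_mem_K {g h : G} (hg : g ∈ centralizer ({S.z} : Set G)) (hh : h ∈ centralizer ({S.z} : Set G))
    (hgK : g ∉ S.K) (hhK : h ∉ S.K) : g * h ∈ S.K := by
  have hi : (S.K.subgroupOf (centralizer ({S.z} : Set G))).index = 2 := by
    have h1 := (S.K.subgroupOf (centralizer ({S.z} : Set G))).index_mul_card
    rw [Nat.card_congr (subgroupOfEquivOfLe S.K_le).toEquiv, S.card_K, S.card_H] at h1
    omega
  have h2 := Subgroup.mul_mem_iff_of_index_two hi (a := ⟨g, hg⟩) (b := ⟨h, hh⟩)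
  simp only [mem_subgroupOf, Subgroup.coe_mul] at h2
  exact h2.2 ⟨fun e => absurd e hgK, fun e => absurd e hhK⟩

/-- An element of `J` of odd order is trivial. -/
theorem odd_mem_J {x : G} (hx : x ∈ S.J) (ho : Odd (orderOf x)) : x = 1 := by
  have h1 : orderOf x ∣ 2 ^ 10 := by
    have h := orderOf_dvd_natCard (⟨x, hx⟩ : S.J)
    rw [← orderOf_submonoid (⟨x, hx⟩ : S.J), S.card_J] at h
    exact h
  exact orderOf_eq_one_iff.1
    (Nat.eq_one_of_dvd_coprimes (Nat.Coprime.pow_right 10 (Nat.coprime_two_right.2 ho)) dvd_rfl h1)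

/-- The centre of `J` is centralised by `K`. -/
theorem K_center {k w : G} (hk : k ∈ S.K) (hw : w = 1 ∨ w = S.z ∨ w = S.z1 ∨ w = S.z * S.z1) :
    k * w = w * k := by
  have h1 : Commute k S.z := S.z_comm (S.K_le hk)
  have h2 : Commute k S.z1 := mem_centralizer_singleton_iff.1 (S.K_cent hk)
  rcases hw with rfl | rfl | rfl | rfl
  exacts [Commute.one_right k, h1, h2, h1.mul_right h2]

theorem center_sq {w : G} (hw : w = 1 ∨ w = S.z ∨ w = S.z1 ∨ w = S.z * S.z1) : w * w = 1 := by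
  rcases hw with rfl | rfl | rfl | rfl
  exacts [one_mul 1, S.z_sq, S.z1_sq, by
    rw [mul_assoc, ← mul_assoc S.z1, ← S.z_z1, mul_assoc S.z, S.z1_sq, mul_one, S.z_sq]]

theorem center_mem {w : G} (hw : w = 1 ∨ w = S.z ∨ w = S.z1 ∨ w = S.z * S.z1) : w ∈ S.J := by
  rcases hw with rfl | rfl | rfl | rfl
  exacts [one_mem _, S.z_mem, S.z1_mem, mul_mem S.z_mem S.z1_mem]

end Setup

namespace FData

variable {S : Setup G F} (A : FData S)
include A

/-- The difference of a vector and its image. -/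
def nv (g : G) (v : Fin 4 → F) : Fin 4 → F := v + A.act g v

theorem act_isom {g : G} (hg : g ∈ S.K) : IsIsom (A.act g) := by
  obtain ⟨M, hM⟩ := A.act_inner g hg
  have := isom_su M
  rwa [← funext hM] at this

/-- An element fixing a whole nonzero line is inner. -/
theorem inner_of_fix {g : G} (hg : g ∈ centralizer ({S.z} : Set G)) {v : Fin 4 → F} (hv : v ≠ 0)
    (h : ∀ k : F, A.act g (k • v) = k • v) : g ∈ S.K := by
  by_contra hn
  obtain ⟨ω, h0, h1, -, -⟩ := exists_omega S.hF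
  have e := A.act_outer g hg hn ω v
  rw [h, show A.act g v = v by simpa using h 1] at e
  have e' : ω = ω ^ 2 := smul_left_injective F hv e
  exact h1 (mul_left_cancel₀ h0 (by rw [mul_one, ← pow_two, ← e']))

/-- Two elements of `J` with the same vector commute with the same elements of `K`. -/
theorem comm_of_vec {e x x' : G} (he : e ∈ S.K) (hx : x ∈ S.J) (hx' : x' ∈ S.J)
    (hv : A.vec x = A.vec x') (h : x * e = e * x) : x' * e = e * x' := by
  have hw : ∀ w, w = 1 ∨ w = S.z ∨ w = S.z1 ∨ w = S.z * S.z1 → x * w * e = e * (x * w) := fun w hw => by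
    rw [mul_assoc, ← S.K_center he hw, ← mul_assoc, h, mul_assoc]
  rcases (A.vec_eq_iff hx hx').1 hv with e' | e' | e' | e'
  · rw [e']; exact h
  · rw [e']; exact hw _ (Or.inr (Or.inl rfl))
  · rw [e']; exact hw _ (Or.inr (Or.inr (Or.inl rfl)))
  · rw [e']; exact hw _ (Or.inr (Or.inr (Or.inr rfl)))

theorem vec_commutator {g x : G} (hg : g ∈ centralizer ({S.z} : Set G)) (hx : x ∈ S.J) :
    g * x * g⁻¹ * x⁻¹ ∈ S.J ∧ A.vec (g * x * g⁻¹ * x⁻¹) = A.nv g (A.vec x) := by
  refine ⟨mul_mem (S.J_normal g hg x hx) (inv_mem hx), ?_⟩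
  rw [A.vec_mul _ (S.J_normal g hg x hx) _ (inv_mem hx), A.vec_inv hx, A.neg_eq, A.act_vec g hg x hx, nv,
    add_comm]

/-- Isotropic differences come from elements of `J` centralising the involution. -/
theorem nv_mem {e : G} (he : e ∈ centralizer ({S.z} : Set G)) (hee : e * e = 1) {v : Fin 4 → F}
    (hv : hermForm 4 F 2 (A.nv e v) (A.nv e v) = 0) :
    ∃ x ∈ S.J, x * e = e * x ∧ A.vec x = A.nv e v := by
  obtain ⟨j, hj, rfl⟩ := A.vec_surj v
  obtain ⟨hx, hxv⟩ := A.vec_commutator he hj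
  refine ⟨_, hx, ?_, hxv⟩
  have hinv : e⁻¹ = e := inv_eq_of_mul_eq_one_right hee
  have hx2 : (e * j * e⁻¹ * j⁻¹) * (e * j * e⁻¹ * j⁻¹) = 1 :=
    (A.sq_iff _ hx).2 (by rw [hxv]; exact hv)
  have h : e * (e * j * e⁻¹ * j⁻¹) * e⁻¹ = (e * j * e⁻¹ * j⁻¹)⁻¹ := by
    simp only [hinv, mul_inv_rev, inv_inv]
    simp only [← mul_assoc, hee, one_mul]
  rw [inv_eq_of_mul_eq_one_right hx2] at h
  exact (mul_inv_eq_iff_eq_mul.1 h).symm

/-- Conjugates of an element with the same action differ by an element of `J`. -/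
theorem diff_mem_J {g h : G} (hg : g ∈ centralizer ({S.z} : Set G)) (hh : h ∈ centralizer ({S.z} : Set G))
    (e : ∀ v, A.act g v = A.act h v) : g⁻¹ * h ∈ S.J := by
  refine (A.act_one _ (mul_mem (inv_mem hg) hh)).1 fun v => ?_
  rw [A.act_mul (inv_mem hg) hh, ← e, A.act_inv hg]

theorem act_conj {k e : G} (hk : k ∈ centralizer ({S.z} : Set G)) (he : e ∈ centralizer ({S.z} : Set G))
    (v : Fin 4 → F) : A.act (k * e * k⁻¹) (A.act k v) = A.act k (A.act e v) := by
  rw [A.act_mul (mul_mem hk he) (inv_mem hk), A.act_inv hk, A.act_mul hk he]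

/-- A diagonal element of `SU₄(2)` lifts to `K`. -/
theorem exists_diag_lift (d : Fin 4 → F) (hd : ∀ i, d i ≠ 0) (hdet : d 0 * d 1 * d 2 * d 3 = 1) :
    ∃ c ∈ S.K, ∀ x, A.act c x = fun i => d i * x i := by
  obtain ⟨M, hM⟩ := exists_su_diag S.hF d hd hdet
  obtain ⟨c, hc, h⟩ := A.act_surj M
  exact ⟨c, hc, fun x => (h x).trans (funext (hM x))⟩

end FData

end CfsgLib.Recog.Fi22Cent
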