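import Cfsg.Agent.Lib.Recog.Fi22Cent.LocFix
import Cfsg.Agent.Lib.Invol.Isolated

/-!
Two commuting involutions `s`, `y` of `C(z)` with `s` isolated in the centraliser of `y`: one of `s`, `y`,
`s y` lies in `{1, z, z₁, z z₁}`.
-/

set_option autoImplicit false
set_option linter.unusedSectionVars false

namespace CfsgLib.Recog.Fi22Cent

open Subgroup Cfsg CfsgLib.Recog.U6Cent
open scoped Matrix

variable {G : Type*} [Group G] {F : Type*} [Field F] [Fintype F]

/-- The local configuration: the images of `z` and `z₁` under a conjugation. -/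
structure Setup.Loc (S : Setup G F) (s y : G) : Prop where
  sH : s ∈ centralizer ({S.z} : Set G)
  yH : y ∈ centralizer ({S.z} : Set G)
  ss : s * s = 1
  yy : y * y = 1
  comm : s * y = y * s
  odd : ∀ x ∈ centralizer ({S.z} : Set G), x * y = y * x → Odd (orderOf (s * (x * s * x⁻¹)))
  fixJ : ∀ x ∈ S.J, x * (s * y) = s * y * x → x * s = s * x
  index : ∀ x ∈ centralizer ({S.z} : Set G), x * s = s * x → x * y * x⁻¹ = y ∨ x * y * x⁻¹ = s * y

namespace Setup.Loc

variable {S : Setup G F} {s y : G} (L : S.Loc s y)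
include L

theorem s_inv : s⁻¹ = s := inv_eq_of_mul_eq_one_right L.ss

theorem sy_sq : s * y * (s * y) = 1 := by
  rw [mul_assoc, ← mul_assoc y, ← L.comm, mul_assoc s y, L.yy, mul_one, L.ss]

theorem conj {k : G} (hk : k ∈ centralizer ({S.z} : Set G)) : S.Loc (k * s * k⁻¹) (k * y * k⁻¹) := by
  set H := centralizer ({S.z} : Set G)
  have back : ∀ x : G, x ∈ H → k⁻¹ * x * k ∈ H := fun x hx => mul_mem (mul_mem (inv_mem hk) hx) hk
  refine ⟨mul_mem (mul_mem hk L.sH) (inv_mem hk), mul_mem (mul_mem hk L.yH) (inv_mem hk), ?_, ?_, ?_, ?_, ?_, ?_⟩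
  · rw [show k * s * k⁻¹ * (k * s * k⁻¹) = k * (s * s) * k⁻¹ by group, L.ss, mul_one, mul_inv_cancel]
  · rw [show k * y * k⁻¹ * (k * y * k⁻¹) = k * (y * y) * k⁻¹ by group, L.yy, mul_one, mul_inv_cancel]
  · rw [show k * s * k⁻¹ * (k * y * k⁻¹) = k * (s * y) * k⁻¹ by group, L.comm]; group
  · intro x hx h
    have h' : k⁻¹ * x * k * y = y * (k⁻¹ * x * k) := by
      calc k⁻¹ * x * k * y = k⁻¹ * (x * (k * y * k⁻¹)) * k := by group
        _ = y * (k⁻¹ * x * k) := by rw [h]; group
    have ho := L.odd _ (back x hx) h'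
    rwa [show k * s * k⁻¹ * (x * (k * s * k⁻¹) * x⁻¹) =
      k * (s * (k⁻¹ * x * k * s * (k⁻¹ * x * k)⁻¹)) * k⁻¹ by group, CfsgLib.Invol.orderOf_conj_eq]
  · intro x hx h
    have hx' : k⁻¹ * x * k ∈ S.J := by simpa using S.J_normal _ (inv_mem hk) x hx
    have h' := L.fixJ _ hx' (by
      calc k⁻¹ * x * k * (s * y) = k⁻¹ * (x * (k * s * k⁻¹ * (k * y * k⁻¹))) * k := by group
        _ = s * y * (k⁻¹ * x * k) := by rw [h]; group)
    calc x * (k * s * k⁻¹) = k * (k⁻¹ * x * k * s) * k⁻¹ := by group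
      _ = k * s * k⁻¹ * x := by rw [h']; group
  · intro x hx h
    have h' : k⁻¹ * x * k * s = s * (k⁻¹ * x * k) := by
      calc k⁻¹ * x * k * s = k⁻¹ * (x * (k * s * k⁻¹)) * k := by group
        _ = s * (k⁻¹ * x * k) := by rw [h]; group
    rcases L.index _ (back x hx) h' with e | e
    · refine Or.inl ?_
      calc x * (k * y * k⁻¹) * x⁻¹ = k * (k⁻¹ * x * k * y * (k⁻¹ * x * k)⁻¹) * k⁻¹ := by group
        _ = k * y * k⁻¹ := by rw [e]
    · refine Or.inr ?_
      calc x * (k * y * k⁻¹) * x⁻¹ = k * (k⁻¹ * x * k * y * (k⁻¹ * x * k)⁻¹) * k⁻¹ := by group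
        _ = k * s * k⁻¹ * (k * y * k⁻¹) := by rw [e]; group

/-- The isolated involution centralises the centraliser of `y` in `J`. -/
theorem fixJy {x : G} (hx : x ∈ S.J) (h : x * y = y * x) : x * s = s * x := by
  have hm : s * (x * s * x⁻¹) ∈ S.J := by
    have := mul_mem (S.J_normal s L.sH x hx) (inv_mem hx)
    rwa [L.s_inv, show s * x * s * x⁻¹ = s * (x * s * x⁻¹) by group] at this
  have h1 := S.odd_mem_J hm (L.odd x (S.J_le_cent hx) h)
  have h2 := eq_inv_of_mul_eq_one_right h1
  rw [L.s_inv] at h2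
  exact mul_inv_eq_iff_eq_mul.1 h2

/-- If `s` lies outside `J` then its centraliser in `J` fixes `y`. -/
theorem J_comm (hs : s ∉ S.J) {x : G} (hx : x ∈ S.J) (h : x * s = s * x) : x * y = y * x := by
  rcases L.index x (S.J_le_cent hx) h with e | e
  · exact mul_inv_eq_iff_eq_mul.1 e
  · refine absurd ?_ hs
    have : s = x * (y * x⁻¹ * y⁻¹) := by
      rw [← mul_assoc, ← mul_assoc, e, mul_inv_cancel_right]
    rw [this]
    exact mul_mem hx (S.J_normal y L.yH _ (inv_mem hx))

/-- Squares of elements centralising `s` centralise `y`. -/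
theorem sq_comm {x : G} (hx : x ∈ centralizer ({S.z} : Set G)) (h : x * s = s * x) :
    x * x * y = y * (x * x) := by
  refine mul_inv_eq_iff_eq_mul.1 ?_
  rw [show x * x * y * (x * x)⁻¹ = x * (x * y * x⁻¹) * x⁻¹ by group]
  rcases L.index x hx h with e | e <;> rw [e]
  · exact e
  · rw [show x * (s * y) * x⁻¹ = x * s * x⁻¹ * (x * y * x⁻¹) by group, e, h, mul_inv_cancel_right,
      ← mul_assoc, L.ss, one_mul]

end Setup.Loc

namespace FData

variable {S : Setup G F} (A : FData S) {s y : G}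
include A

/-- When `s` lies in `J`, the centraliser of `y` centralises `s`. -/
theorem cent_sJ (L : S.Loc s y) (hs : s ∈ S.J) {x : G} (hx : x ∈ centralizer ({S.z} : Set G))
    (h : x * y = y * x) : x * s = s * x := by
  have h1 := S.odd_mem_J (mul_mem hs (S.J_normal x hx s hs)) (L.odd x hx h)
  have h2 := eq_inv_of_mul_eq_one_right h1
  rw [L.s_inv] at h2
  exact mul_inv_eq_iff_eq_mul.1 h2

theorem sJ_false_aux (L : S.Loc s y) (hs : s ∈ S.J) (hu : A.vec s = va) (hy : y ∉ S.J) : False := by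
  obtain ⟨ω, h0, h1, hω, h3⟩ := exists_omega S.hF
  have h4 : ω ^ 4 = ω := f4_pow S.hF ω
  have hne : ω ^ 2 ≠ 1 := fun e => h1 (by
    calc ω = ω ^ 3 / ω ^ 2 := by field_simp
      _ = 1 := by rw [h3, e, div_one])
  have hne' : ω ≠ ω ^ 2 := fun e => h1 (mul_left_cancel₀ h0 (by rw [mul_one, ← pow_two, ← e]))
  have hyva : A.act y va = va := by
    rw [← hu, ← A.act_vec y L.yH s hs, ← L.comm, mul_inv_cancel_right]
  have hfixs : ∀ c ∈ S.K, A.act c va = va → c * c * s = s * (c * c) := by
    intro c hc hcv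
    have hcH := S.K_le hc
    have hv : A.vec (c * s * c⁻¹) = A.vec s := by rw [A.act_vec c hcH s hs, hu, hcv]
    have hd := (A.vec_zero _ (mul_mem (inv_mem hs) (S.J_normal c hcH s hs))).1 (by
      rw [A.vec_mul _ (inv_mem hs) _ (S.J_normal c hcH s hs), A.vec_inv hs, A.neg_eq, hv, A.add_self])
    refine mul_inv_eq_iff_eq_mul.1 ?_
    calc c * c * s * (c * c)⁻¹ = c * s * c⁻¹ * (c * (s⁻¹ * (c * s * c⁻¹)) * c⁻¹) := by group
      _ = s * ((s⁻¹ * (c * s * c⁻¹)) * (s⁻¹ * (c * s * c⁻¹))) := by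
        rw [S.K_center hc hd, mul_inv_cancel_right]; group
      _ = s := by rw [S.center_sq hd, mul_one]
  -- squares of lifts of elements fixing the vector commute with the action of `y`
  have hsq : ∀ c ∈ S.K, A.act c va = va →
      ∀ v, A.act c (A.act c (A.act y v)) = A.act y (A.act c (A.act c v)) := by
    intro c hc hcv v
    have hcH := S.K_le hc
    have hcc := mul_mem hcH hcH
    rcases L.index (c * c) hcc (hfixs c hc hcv) with e | e <;>
      have h' := congrArg (fun g => A.act g (A.act (c * c) v)) e <;>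
      simp only [A.act_conj hcc L.yH] at h'
    · rwa [A.act_mul hcH hcH, A.act_mul hcH hcH] at h'
    · rwa [A.act_mul L.sH L.yH, A.act_J hs, A.act_mul hcH hcH, A.act_mul hcH hcH] at h'
  obtain ⟨c, hc, hcD⟩ := A.exists_diag_lift ![1, 1, ω, ω ^ 2]
    (fun i => by fin_cases i <;> simp [h0]) (by simp only [Matrix.cons_val]; linear_combination h3)
  have hX : ∀ v : Fin 4 → F, A.act c (A.act c v) = fun i => ![1, 1, ω ^ 2, ω] i * v i := fun v => by
    rw [hcD, hcD]; funext i
    fin_cases i <;> simp <;> first | ring1 | linear_combination (v 3) * h4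
  have hcv : A.act c va = va := by rw [hcD]; funext i; fin_cases i <;> simp [va]
  have hcy := hsq c hc hcv
  simp only [hX] at hcy
  have e2 : (fun i => ![1, 1, ω ^ 2, ω] i * ve2 i) = ω ^ 2 • (ve2 : Fin 4 → F) := by
    funext i; fin_cases i <;> simp [ve2]
  have e3 : (fun i => ![1, 1, ω ^ 2, ω] i * ve3 i) = ω • (ve3 : Fin 4 → F) := by
    funext i; fin_cases i <;> simp [ve3]
  have cancel : ∀ {a b x : F}, a * x = b * x → a ≠ b → x = 0 := fun h hab => by
    by_contra hx; exact hab (mul_right_cancel₀ hx h)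
  by_cases hyK : y ∈ S.K
  · have hi : ∀ v, A.act y (A.act y v) = v := fun v => by rw [← A.act_mul L.yH L.yH, L.yy, A.act_id]
    have lin := A.act_isom hyK
    have p2 := hcy ve2
    have p3 := hcy ve3
    rw [e2, lin.smul] at p2
    rw [e3, lin.smul] at p3
    set a := A.act y ve2 with ha
    set b := A.act y ve3 with hb
    have a0 : a 0 = 0 := cancel (by simpa using congrFun p2 0) (Ne.symm hne)
    have a1 : a 1 = 0 := cancel (by simpa using congrFun p2 1) (Ne.symm hne)
    have a3 : a 3 = 0 := cancel (by simpa using congrFun p2 3) hne'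
    have b0 : b 0 = 0 := cancel (by simpa using congrFun p3 0) (Ne.symm h1)
    have b1 : b 1 = 0 := cancel (by simpa using congrFun p3 1) (Ne.symm h1)
    have b2 : b 2 = 0 := cancel (by simpa using congrFun p3 2) (Ne.symm hne')
    have ae : a = a 2 • ve2 := by funext i; fin_cases i <;> simp [ve2, a0, a1, a3]
    have be : b = b 3 • ve3 := by funext i; fin_cases i <;> simp [ve3, b0, b1, b2]
    have one_of : ∀ {k : F}, k * k = 1 → k = 1 := fun {k} hk => f4_eq_of_add_zero S.hF (by
      refine (pow_eq_zero_iff two_ne_zero).1 ?_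
      rw [f4_frob S.hF, pow_two, hk, one_pow, f4_add_self S.hF])
    have ha2 : a 2 = 1 := one_of (by
      have h := hi ve2
      rw [← ha, ae, lin.smul, ← ha, ae, smul_smul] at h
      have h' := congrFun h 2
      simpa [ve2] using h')
    have hb3 : b 3 = 1 := one_of (by
      have h := hi ve3
      rw [← hb, be, lin.smul, ← hb, be, smul_smul] at h
      have h' := congrFun h 3
      simpa [ve3] using h')
    rcases isom_fix_perp S.hF lin hyva (by rw [← ha, ae, ha2, one_smul])
      (by rw [← hb, be, hb3, one_smul]) with h | h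
    · exact hy ((A.act_one y L.yH).1 h)
    -- a transvection centred at the vector of `s`
    obtain ⟨m, hm, hmD⟩ := A.exists_diag_lift ![ω, ω, ω ^ 2, ω ^ 2]
      (fun i => by fin_cases i <;> simp [h0]) (by simp only [Matrix.cons_val]; linear_combination (ω ^ 3 + 1) * h3)
    have hcom : ∀ v, A.act m (A.act y v) = A.act y (A.act m v) := fun v => by
      rw [hmD, hmD, h, h, transvec, transvec, herm_va S.hF, herm_va S.hF]
      funext i; fin_cases i <;> simp [va] <;> ring
    have hva' : ∀ k : F, A.nv y (k • ve0) = k • va := fun k => by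
      rw [nv, h, transvec, herm_va S.hF, ← add_assoc, A.add_self, zero_add]
      simp [ve0]
    have hker : ∀ x, A.act y x = x ↔ x 1 = x 0 := fun x => by
      rw [h, transvec, herm_va S.hF]
      constructor
      · intro e
        have := congrFun e 0
        simp [va] at this
        exact (f4_eq_of_add_zero S.hF this).symm
      · intro e; rw [e, f4_add_self S.hF, zero_smul, add_zero]
    have kset : ∀ v : Fin 4 → F, A.act y v = v → ∀ a : F, A.act c (A.act c (A.act c (A.act c v))) = a • v →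
        ∃ x ∈ S.J, x * y = y * x ∧ A.vec x = (1 + a) • v := by
      intro v hv a hav
      obtain ⟨j, hj, rfl⟩ := A.vec_surj v
      have hcH := S.K_le hc
      have hcs := hfixs c hc hcv
      set e := c * c * (c * c) with he
      have heK : e ∈ S.K := mul_mem (mul_mem hc hc) (mul_mem hc hc)
      have hey : e * y = y * e := L.sq_comm (mul_mem hcH hcH) hcs
      have hej : A.vec (e * j * e⁻¹) = a • A.vec j := by
        rw [A.act_vec e (S.K_le heK) j hj, he, A.act_mul (mul_mem hcH hcH) (mul_mem hcH hcH),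
          A.act_mul hcH hcH, A.act_mul hcH hcH, hav]
      set w := y * j * y⁻¹ * j⁻¹ with hw
      have hwc := (A.vec_zero w (A.vec_commutator L.yH hj).1).1 (by
        rw [(A.vec_commutator L.yH hj).2, nv, hv, A.add_self])
      refine ⟨j⁻¹ * (e * j * e⁻¹), mul_mem (inv_mem hj) (S.J_normal e (S.K_le heK) j hj), ?_, ?_⟩
      · refine (mul_inv_eq_iff_eq_mul.1 ?_).symm
        have hey' : y * e = e * y := hey.symm
        calc y * (j⁻¹ * (e * j * e⁻¹)) * y⁻¹
            = (y * j * y⁻¹)⁻¹ * (y * e * j * (y * e)⁻¹) := by group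
          _ = (w * j)⁻¹ * (e * (w * j) * e⁻¹) := by rw [hey', hw]; group
          _ = (w * j)⁻¹ * (e * w * e⁻¹ * (e * j * e⁻¹)) := by group
          _ = j⁻¹ * (e * j * e⁻¹) := by rw [S.K_center heK hwc, mul_inv_cancel_right]; group
      · rw [A.vec_mul _ (inv_mem hj) _ (S.J_normal e (S.K_le heK) j hj), A.vec_inv hj, A.neg_eq, hej,
          add_smul, one_smul]
    have hfull : ∀ x ∈ S.J, A.act y (A.vec x) = A.vec x → x * y = y * x := by
      intro x hx hxv
      set v := A.vec x with hv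
      have hx1 := (hker v).1 hxv
      obtain ⟨x₀, hx₀, c₀, v₀⟩ := A.nv_mem L.yH L.yy (v := v 0 • ve0) (by
        rw [hva', herm_smul_left S.hF, herm_smul_right S.hF, va_iso S.hF, mul_zero, mul_zero])
      rw [hva'] at v₀
      have hX4 : ∀ v : Fin 4 → F,
          A.act c (A.act c (A.act c (A.act c v))) = fun i => ![1, 1, ω, ω ^ 2] i * v i := fun v => by
        rw [hX, hX]; funext i
        fin_cases i <;> simp
        · linear_combination (v 2) * h4
        · ring
      have hn2 : (1 + ω : F) ≠ 0 := fun e => h1 (f4_eq_of_add_zero S.hF e).symm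
      have hn3 : (1 + ω ^ 2 : F) ≠ 0 := fun e => hne (f4_eq_of_add_zero S.hF e).symm
      obtain ⟨x₂, hx₂, c₂, v₂⟩ := kset ((v 2 / (1 + ω)) • ve2) ((hker _).2 (by simp [ve2])) ω (by
        rw [hX4]; funext i; fin_cases i <;> simp [ve2])
      obtain ⟨x₃, hx₃, c₃, v₃⟩ := kset ((v 3 / (1 + ω ^ 2)) • ve3) ((hker _).2 (by simp [ve3])) (ω ^ 2) (by
        rw [hX4]; funext i; fin_cases i <;> simp [ve3])
      refine A.comm_of_vec hyK (mul_mem (mul_mem hx₀ hx₂) hx₃) hx ?_
        ((Commute.mul_left (Commute.mul_left c₀ c₂) c₃).eq)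
      rw [A.vec_mul _ (mul_mem hx₀ hx₂) _ hx₃, A.vec_mul _ hx₀ _ hx₂, v₀, v₂, v₃, ← hv, smul_smul,
        smul_smul, mul_div_cancel₀ _ hn2, mul_div_cancel₀ _ hn3]
      funext i; fin_cases i <;> simp [va, ve2, ve3, hx1]
    obtain ⟨e, heK, hey, hea⟩ := A.absorb hyK L.yy hm hcom hfull (fun d hd => by
      have ho : ∀ v, (∀ k : F, A.act y (k • v) = k • v) → hermForm 4 F 2 d v = 0 := fun v hv =>
        orth_of_trace S.hF fun k => hd _ (hv k)
      have d0 := ho va fun k => (hker _).2 (by simp [va])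
      have d2 := ho ve2 fun k => (hker _).2 (by simp [ve2])
      have d3 := ho ve3 fun k => (hker _).2 (by simp [ve3])
      rw [herm_va S.hF] at d0
      rw [herm_ve2 S.hF] at d2
      rw [herm_ve3 S.hF] at d3
      have d1 : d 1 = d 0 := (f4_eq_of_add_zero S.hF d0).symm
      exact ⟨d 0 • ve0, by rw [hva']; funext i; fin_cases i <;> simp [va, d1, d2, d3]⟩)
    have hes := A.cent_sJ L hs (S.K_le heK) hey
    have hva := A.act_vec e (S.K_le heK) s hs
    rw [hes, mul_inv_cancel_right, hu, hea, hmD, hmD] at hva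
    have := congrFun hva 0
    simp [va] at this
    exact hne (by rw [pow_two]; exact this.symm)
  · -- an outer element cannot preserve both sets of eigenvectors
    have sm := A.act_outer y L.yH hyK
    have p3 := hcy ve3
    rw [e3, sm] at p3
    set b := A.act y ve3 with hb
    have b0 : b 0 = 0 := cancel (by simpa using congrFun p3 0) (Ne.symm hne)
    have b1 : b 1 = 0 := cancel (by simpa using congrFun p3 1) (Ne.symm hne)
    have b3 : b 3 = 0 := cancel (by simpa using congrFun p3 3) hne'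
    have key : ∀ α : F, α ≠ 0 → b 2 = α := by
      intro α hα
      have qiso : hermForm 4 F 2 (![α, α, 1, 1] : Fin 4 → F) ![α, α, 1, 1] = 0 := by
        simp [hermForm, Fin.sum_univ_four, f4_add_self S.hF]
      obtain ⟨M, hM⟩ := exists_su_transvec S.hF qiso
      obtain ⟨d, hd, hdM⟩ := A.act_surj M
      have hdT : ∀ v, A.act d v = transvec ![α, α, 1, 1] v := fun v => (hdM v).trans (hM v)
      have hdH := S.K_le hd
      have hcH := S.K_le hc
      have hT : ∀ v, A.act (d * c * d) v =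
          transvec ![α, α, 1, 1] (A.act c (transvec ![α, α, 1, 1] v)) := fun v => by
        rw [A.act_mul (mul_mem hdH hcH) hdH, A.act_mul hdH hcH, hdT, hdT]
      have hqv : hermForm 4 F 2 (va : Fin 4 → F) ![α, α, 1, 1] = 0 := by
        simp [hermForm, Fin.sum_univ_four, va, f4_add_self S.hF]
      have hTv : transvec ![α, α, 1, 1] va = (va : Fin 4 → F) := by
        rw [transvec, hqv, zero_smul, add_zero]
      have h := hsq (d * c * d) (mul_mem (mul_mem hd hc) hd) (by rw [hT, hTv, hcv, hTv])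
        (transvec ![α, α, 1, 1] ve2)
      simp only [hT, transvec_invol S.hF qiso, hX] at h
      rw [e2, (isom_transvec S.hF qiso).smul, sm, ← pow_mul, f4_pow S.hF] at h
      have ht : transvec ![α, α, 1, 1] (ve2 : Fin 4 → F) = α • va + ve3 := by
        funext i
        fin_cases i <;> simp [transvec, hermForm, Fin.sum_univ_four, ve2, va, ve3, f4_add_self S.hF]
      rw [ht, A.act_add L.yH, sm, hyva, ← hb] at h
      set p := α ^ 2 • va + b with hp
      have h' := congrArg (transvec ![α, α, 1, 1]) h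
      rw [transvec_invol S.hF qiso, (isom_transvec S.hF qiso).smul] at h'
      have hh := congrFun h' 0
      have hb : b = b 2 • ve2 := by funext i; fin_cases i <;> simp [ve2, b0, b1, b3]
      have hph : hermForm 4 F 2 p ![α, α, 1, 1] = b 2 := by
        rw [hp, hb]
        simp [hermForm, Fin.sum_univ_four, va, ve2, f4_add_self S.hF]
      simp only [transvec, hph] at hh
      rw [hp, hb] at hh
      simp [va, ve2] at hh
      have hz : α ^ 2 + b 2 * α = 0 := cancel (a := 1) (b := ω) (by linear_combination hh) (Ne.symm h1)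
      exact mul_right_cancel₀ hα (f4_eq_of_add_zero S.hF (by linear_combination hz))
    exact h1 ((key ω h0).symm.trans (key 1 one_ne_zero))

/-- An element of `J` outside the centre is not the isolated involution of an outside element. -/
theorem sJ_false (L : S.Loc s y) (hs : s ∈ S.J) (hsv : A.vec s ≠ 0) (hy : y ∉ S.J) : False := by
  obtain ⟨M, hM⟩ := exists_su_map S.hF ((A.sq_iff s hs).1 L.ss) hsv (va_iso S.hF) (va_ne S.hF)
  obtain ⟨k, hk, hkM⟩ := A.act_surj M
  have hkH := S.K_le hk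
  refine A.sJ_false_aux (L.conj hkH) (S.J_normal k hkH s hs)
    (by rw [A.act_vec k hkH s hs, hkM, hM]) fun h => hy ?_
  have := S.J_normal k⁻¹ (inv_mem hkH) _ h
  simpa [mul_assoc] using this

/-- An element of the four-group acting as a transvection is impossible. -/
theorem tv_false {e f : G} (he : e ∈ S.K) (hee : e * e = 1) (hf : f ∈ S.K) (hfJ : f ∉ S.J) (hefJ : e * f ∉ S.J)
    {M : SU 4 F 2} (hA : ∀ v, slToMat 4 F M *ᵥ A.act e v = transvec va (slToMat 4 F M *ᵥ v))
    (hc : ∀ x ∈ S.J, x * e = e * x → x * f = f * x) : False := by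
  rcases A.tv_rigid he hee hf hA hc with h | h
  · exact hfJ ((A.act_one f (S.K_le hf)).1 h)
  · refine hefJ ((A.act_one _ (mul_mem (S.K_le he) (S.K_le hf))).1 fun v => ?_)
    rw [A.act_mul (S.K_le he) (S.K_le hf), h, ← A.act_mul (S.K_le he) (S.K_le he), hee, A.act_id]

theorem plane_false (L : S.Loc s y) (hsK : s ∈ S.K) (hyK : y ∈ S.K) (hsJ : s ∉ S.J) (hyJ : y ∉ S.J)
    (hsyJ : s * y ∉ S.J) (hA : ∀ v, A.act y v = transvec va (transvec vb v)) : False := by
  obtain ⟨ω, h0, h1, hω, h3⟩ := exists_omega S.hF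
  have h4 : ω ^ 4 = ω := f4_pow S.hF ω
  have hne : ω ^ 2 ≠ 1 := fun e => h1 (by
    calc ω = ω ^ 3 / ω ^ 2 := by field_simp
      _ = 1 := by rw [h3, e, div_one])
  have hab : hermForm 4 F 2 (vb : Fin 4 → F) va = 0 := by rw [herm_va S.hF]; simp [vb]
  have hA' : ∀ v, A.act y v = v + ((v 2 + v 3) • vb + (v 0 + v 1) • va) := fun v => by
    rw [hA]
    simp only [transvec, herm_add_left S.hF, herm_smul_left S.hF, hab, mul_zero, add_zero,
      ← herm_va S.hF, ← herm_vb S.hF, add_assoc]
  have hn : ∀ a c : F, A.nv y (a • ve0 + c • ve2) = a • va + c • vb := fun a c => by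
    rw [nv, hA', ← add_assoc, A.add_self, zero_add, add_comm]
    simp [ve0, ve2]
  have hfixed : ∀ v, A.act y v = v → v = v 0 • va + v 2 • vb := fun v hv => by
    rw [hA'] at hv
    have e0 := congrFun hv 0
    have e2 := congrFun hv 2
    simp [va, vb] at e0 e2
    funext i
    fin_cases i <;> simp [va, vb, f4_eq_of_add_zero S.hF e0, f4_eq_of_add_zero S.hF e2]
  have hL : ∀ a c : F, ∃ x ∈ S.J, x * y = y * x ∧ A.vec x = a • va + c • vb := fun a c => by
    obtain ⟨x, hx, hxy, hxv⟩ := A.nv_mem L.yH L.yy (v := a • ve0 + c • ve2) (by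
      rw [hn]
      simp [hermForm, Fin.sum_univ_four, va, vb, f4_add_self S.hF])
    exact ⟨x, hx, hxy, hxv.trans (hn a c)⟩
  have hfull : ∀ x ∈ S.J, A.act y (A.vec x) = A.vec x → x * y = y * x := fun x hx h => by
    obtain ⟨x', hx', hxy, hxv⟩ := hL (A.vec x 0) (A.vec x 2)
    exact A.comm_of_vec hyK hx' hx (hxv.trans (hfixed _ h).symm) hxy
  have hsfix : ∀ a c : F, A.act s (a • va + c • vb) = a • va + c • vb := fun a c => by
    obtain ⟨x, hx, hxy, hxv⟩ := hL a c
    rw [← hxv, ← A.act_vec s L.sH x hx, ← L.fixJy hx hxy, mul_inv_cancel_right]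
  have sa : A.act s va = va := by simpa using hsfix 1 0
  have sb : A.act s vb = vb := by simpa using hsfix 0 1
  obtain ⟨m, hm, hmD⟩ := A.exists_diag_lift ![ω, ω, ω ^ 2, ω ^ 2]
    (fun i => by fin_cases i <;> simp [h0]) (by simp only [Matrix.cons_val]; linear_combination (ω ^ 3 + 1) * h3)
  have hcom : ∀ v, A.act m (A.act y v) = A.act y (A.act m v) := fun v => by
    rw [hmD, hmD, hA', hA']
    funext i; fin_cases i <;> simp [va, vb] <;> ring
  obtain ⟨e, heK, hey, hea⟩ := A.absorb hyK L.yy hm hcom hfull (fun d hd => by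
    have ho : ∀ v, (∀ k : F, A.act y (k • v) = k • v) → hermForm 4 F 2 d v = 0 := fun v hv =>
      orth_of_trace S.hF fun k => hd _ (hv k)
    have da := ho va fun k => by rw [hA']; simp [va, f4_add_self S.hF]
    have db := ho vb fun k => by rw [hA']; simp [vb, f4_add_self S.hF]
    rw [herm_va S.hF] at da
    rw [herm_vb S.hF] at db
    refine ⟨d 0 • ve0 + d 2 • ve2, ?_⟩
    rw [hn]; funext i
    fin_cases i <;> simp [va, vb, f4_eq_of_add_zero S.hF da, f4_eq_of_add_zero S.hF db])
  have heD : ∀ v, A.act e v = fun i => ![ω ^ 2, ω ^ 2, ω, ω] i * v i := fun v => by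
    rw [hea, hmD, hmD]; funext i
    fin_cases i <;> simp <;> ring_nf <;> rw [h4]
  -- isometries fixing both isotropic vectors commute
  have pair : ∀ f g : (Fin 4 → F) → Fin 4 → F, IsIsom f → IsIsom g → f va = va → f vb = vb → g va = va →
      g vb = vb → ∀ x, f (g x) + g x = f x + x := by
    intro f g hf hg fa fb ga gb x
    have h := hg.herm x va
    have h' := hg.herm x vb
    rw [ga, herm_va S.hF, herm_va S.hF] at h
    rw [gb, herm_vb S.hF, herm_vb S.hF] at h'
    have hu : g x + x = (g x + x) 0 • va + (g x + x) 2 • vb := by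
      have q1 : (g x + x) 1 = (g x + x) 0 := f4_eq_of_add_zero S.hF (by
        simp only [Pi.add_apply]; linear_combination h + (x 0 + x 1) * f4_char S.hF)
      have q3 : (g x + x) 3 = (g x + x) 2 := f4_eq_of_add_zero S.hF (by
        simp only [Pi.add_apply]; linear_combination h' + (x 2 + x 3) * f4_char S.hF)
      funext i; fin_cases i <;> simp [va, vb] <;> simp [Pi.add_apply] at q1 q3 ⊢ <;> assumption
    have hfu : f (g x + x) = g x + x := by rw [hu, hf.add, hf.smul, hf.smul, fa, fb]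
    rw [hf.add] at hfu
    calc f (g x) + g x = (f (g x) + f x) + (f x + g x) := by
          rw [add_assoc, ← add_assoc (f x), A.add_self, zero_add]
      _ = (g x + x) + (f x + g x) := by rw [hfu]
      _ = (g x + g x) + (f x + x) := by abel
      _ = f x + x := by rw [A.add_self, zero_add]
  have heH := S.K_le heK
  set s' := e * s * e⁻¹ with hs'
  have hs'K : s' ∈ S.K := mul_mem (mul_mem heK hsK) (inv_mem heK)
  have hs'H := S.K_le hs'K
  have hconj : ∀ v, A.act s' (A.act e v) = A.act e (A.act s v) := fun v => A.act_conj heH L.sH v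
  have da : A.act e (ω • va) = (va : Fin 4 → F) := by
    rw [heD]; funext i; fin_cases i <;> simp [va] <;> linear_combination h3
  have db : A.act e (ω ^ 2 • vb) = (vb : Fin 4 → F) := by
    rw [heD]; funext i; fin_cases i <;> simp [vb] <;> linear_combination h3
  have sa' : A.act s' va = va := by
    conv_lhs => rw [← da, hconj, (A.act_isom hsK).smul, sa, da]
  have sb' : A.act s' vb = vb := by
    conv_lhs => rw [← db, hconj, (A.act_isom hsK).smul, sb, db]
  have hcomm' : ∀ x, A.act s (A.act s' x) = A.act s' (A.act s x) := fun x => by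
    have q1 := pair _ _ (A.act_isom hsK) (A.act_isom hs'K) sa sb sa' sb' x
    have q2 := pair _ _ (A.act_isom hs'K) (A.act_isom hsK) sa' sb' sa sb x
    have r : ∀ a b c : Fin 4 → F, a + b = c → a = c + b := fun a b c h => by
      rw [← h, add_assoc, A.add_self, add_zero]
    rw [r _ _ _ q1, r _ _ _ q2]; abel
  have hs's : s' * s' = 1 := by
    rw [hs', show e * s * e⁻¹ * (e * s * e⁻¹) = e * (s * s) * e⁻¹ by group, L.ss, mul_one, mul_inv_cancel]
  have hp := L.odd e heH hey
  rw [← hs'] at hp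
  set p := s * s' with hpdef
  have hpH : p ∈ centralizer ({S.z} : Set G) := mul_mem L.sH hs'H
  have hpJ : p * p ∈ S.J := (A.act_one _ (mul_mem hpH hpH)).1 fun v => by
    rw [A.act_mul hpH hpH, hpdef, A.act_mul L.sH hs'H, A.act_mul L.sH hs'H, hcomm' v,
      ← A.act_mul hs'H hs'H, hs's, A.act_id, ← A.act_mul L.sH L.sH, L.ss, A.act_id]
  have hp2 : p * p = 1 := S.odd_mem_J hpJ (hp.of_dvd_nat (by rw [← pow_two]; exact orderOf_pow_dvd 2))
  have hp1 : p = 1 := orderOf_eq_one_iff.1 (Nat.eq_one_of_dvd_coprimes (Nat.coprime_two_right.2 hp) dvd_rfl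
    (orderOf_dvd_of_pow_eq_one (by rw [pow_two, hp2])))
  have hes : s' = s := by
    have h := eq_inv_of_mul_eq_one_right hp1
    rwa [L.s_inv] at h
  have hD : ∀ x, A.act s (fun i => ![ω ^ 2, ω ^ 2, (ω ^ 2) ^ 2, (ω ^ 2) ^ 2] i * x i) =
      fun i => ![ω ^ 2, ω ^ 2, (ω ^ 2) ^ 2, (ω ^ 2) ^ 2] i * A.act s x i := fun x => by
    have h := hconj x
    rw [hes, heD, heD] at h
    rwa [← pow_mul, h4]
  rcases isom_plane S.hF (A.act_isom hsK) sa sb hne (pow_ne_zero 2 h0) hD with h | h | h | h
  · exact hsJ ((A.act_one s L.sH).1 h)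
  · exact A.tv_false hsK L.ss hyK hyJ hsyJ (M := 1) (fun v => by simp [h])
      fun x hx => L.J_comm hsJ hx
  · obtain ⟨M, hM⟩ := exists_su_map S.hF (vb_iso S.hF)
      (fun e => by simpa [vb] using congrFun e 2) (va_iso S.hF) (va_ne S.hF)
    exact A.tv_false hsK L.ss hyK hyJ hsyJ (M := M) (fun v => by
      rw [h, transvec, Matrix.mulVec_add, Matrix.mulVec_smul, hM, transvec, ← hM, M.2])
      fun x hx => L.J_comm hsJ hx
  · refine hsyJ ((A.act_one _ (mul_mem L.sH L.yH)).1 fun v => ?_)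
    rw [A.act_mul L.sH L.yH, h, ← hA, ← A.act_mul L.yH L.yH, L.yy, A.act_id]

/-- One of the three involutions lies in the centre of `J`. -/
theorem loc_center (L : S.Loc s y) :
    (s ∈ S.J ∧ A.vec s = 0) ∨ (y ∈ S.J ∧ A.vec y = 0) ∨ (s * y ∈ S.J ∧ A.vec (s * y) = 0) := by
  have hsyH := mul_mem L.sH L.yH
  by_cases hyJ : y ∈ S.J
  · by_cases h : A.vec y = 0
    · exact Or.inr (Or.inl ⟨hyJ, h⟩)
    · obtain ⟨hsJ, e | e⟩ := A.fix_memJ L.sH hyJ h L.yy fun x hx => L.fixJy hx
      · exact Or.inl ⟨hsJ, e⟩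
      · exact Or.inr (Or.inr ⟨mul_mem hsJ hyJ, by rw [A.vec_mul s hsJ y hyJ, e, A.add_self]⟩)
  by_cases hsyJ : s * y ∈ S.J
  · by_cases h : A.vec (s * y) = 0
    · exact Or.inr (Or.inr ⟨hsyJ, h⟩)
    · obtain ⟨hsJ, -⟩ := A.fix_memJ L.sH hsyJ h L.sy_sq L.fixJ
      exact absurd (by simpa [← mul_assoc] using mul_mem (inv_mem hsJ) hsyJ) hyJ
  by_cases hsJ : s ∈ S.J
  · by_cases h : A.vec s = 0
    · exact Or.inl ⟨hsJ, h⟩
    · exact (A.sJ_false L hsJ h hyJ).elim
  exfalso
  have e3 : ∀ x ∈ S.J, x * s = s * x → x * y = y * x := fun x hx => L.J_comm hsJ hx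
  have e1 : ∀ x ∈ S.J, x * y = y * x → x * s = s * x := fun x hx => L.fixJy hx
  have hall : s ∈ S.K ∧ y ∈ S.K := by
    by_cases hyK : y ∈ S.K
    · exact ⟨by_contra fun h => A.inner_outer hyK L.yy hyJ L.sH h e1, hyK⟩
    · exfalso
      by_cases hsK : s ∈ S.K
      · exact A.inner_outer hsK L.ss hsJ L.yH hyK e3
      · refine A.inner_outer (S.mul_mem_K L.sH L.yH hsK hyK) L.sy_sq hsyJ L.yH hyK fun x hx h => ?_
        exact e3 x hx (L.fixJ x hx h)
  obtain ⟨hsK, hyK⟩ := hall
  have hne : ∃ v, A.act y v ≠ v := by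
    by_contra h
    push Not at h
    exact hyJ ((A.act_one y L.yH).1 h)
  obtain ⟨M, -, h | h⟩ := isom_invol S.hF (A.act_isom hyK)
    (fun v => by rw [← A.act_mul L.yH L.yH, L.yy, A.act_id]) hne
  · exact A.tv_false hyK L.yy hsK hsJ (by rwa [← L.comm]) (M := M) h e1
  · obtain ⟨k, hk, hkM⟩ := A.act_surj M
    have hkH := S.K_le hk
    have back : ∀ a : G, k * a * k⁻¹ ∈ S.J → a ∈ S.J := fun a ha => by
      simpa [mul_assoc] using S.J_normal k⁻¹ (inv_mem hkH) _ ha
    refine A.plane_false (L.conj hkH) (mul_mem (mul_mem hk hsK) (inv_mem hk))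
      (mul_mem (mul_mem hk hyK) (inv_mem hk)) (fun e => hsJ (back _ e)) (fun e => hyJ (back _ e))
      (fun e => hsyJ (back _ (by rwa [show k * s * k⁻¹ * (k * y * k⁻¹) = k * (s * y) * k⁻¹ by group] at e)))
      fun v => ?_
    have hv : A.act k (A.act k⁻¹ v) = v := by
      rw [← A.act_mul hkH (inv_mem hkH), mul_inv_cancel, A.act_id]
    conv_lhs => rw [← hv, A.act_conj hkH L.yH, hkM, h, ← hkM, hv]

end FData

end CfsgLib.Recog.Fi22Cent
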