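import Cfsg.Agent.Lib.Recog.Fi22Cent.CoordApi
import Cfsg.Agent.Lib.Recog.U6Cent.RedBasic

/-!
The reducible case of `C(z₁)/⟨z₁⟩` seen in `C(z)`: the subgroup `D` of the elements of `J` centralized by all elements
of odd order, and six-dimensional coordinates on `J ⊓ C(D)` modulo `{1, z, z₁, z z₁}` with the action of all of `C(z)`.
-/

set_option autoImplicit false

namespace CfsgLib.Recog.Fi22Cent

open Subgroup Cfsg U6Cent U6Cent.Red

/-- A central involution cannot be produced by an element of odd order. -/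
theorem odd_conj {G : Type*} [Group G] {g x c : G} (ho : Odd (orderOf g)) (hc : g * c = c * g) (hcc : c * c = 1)
    (h : g * x * g⁻¹ = x * c) : c = 1 := by
  have key : ∀ n : ℕ, g ^ n * x * (g ^ n)⁻¹ = x * c ^ n := by
    intro n
    induction n with
    | zero => simp
    | succ n ih =>
      calc g ^ (n + 1) * x * (g ^ (n + 1))⁻¹ = g * (g ^ n * x * (g ^ n)⁻¹) * g⁻¹ := by rw [pow_succ']; group
        _ = g * x * g⁻¹ * (g * c ^ n * g⁻¹) := by rw [ih]; group
        _ = x * c * c ^ n := by rw [h, ((show Commute g c from hc).pow_right n).eq]; group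
        _ = x * c ^ (n + 1) := by rw [pow_succ', mul_assoc]
  have h' := key (orderOf g)
  obtain ⟨k, hk⟩ := ho
  rw [pow_orderOf_eq_one, hk, pow_succ, pow_mul, pow_two, hcc, one_pow, one_mul, one_mul, inv_one, mul_one] at h'
  exact mul_eq_left.1 h'.symm

theorem exists_moved : ∀ u : V6, u ≠ 0 → ∃ p, q6 p = 1 ∧ b6 u p = 1 ∧ ∃ p', q6 p' = 1 ∧ b6 p p' = 1 := by
  decide +kernel

variable {G : Type*} [Group G] {F : Type*} [Field F] [Fintype F]

namespace Setup

variable (S : Setup G F)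

/-- Elements of odd order of `C(z)`. -/
def oddElts : Set G := {g | g ∈ centralizer ({S.z} : Set G) ∧ Odd (orderOf g)}

/-- The elements of `J` centralized by all elements of odd order of `C(z)`. -/
def oddFix : Subgroup G := S.J ⊓ centralizer S.oddElts

/-- `J ⊓ C(D)`. -/
def oddFixCent : Subgroup G := S.J ⊓ centralizer (S.oddFix : Set G)

/-- The group `{1, z, z₁, z z₁}` in terms of membership. -/
def RW (x : G) : Prop := x = 1 ∨ x = S.z ∨ x = S.z1 ∨ x = S.z * S.z1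

theorem oddElts_conj {g h : G} (hg : g ∈ centralizer ({S.z} : Set G)) (hh : h ∈ S.oddElts) :
    g * h * g⁻¹ ∈ S.oddElts :=
  ⟨mul_mem (mul_mem hg hh.1) (inv_mem hg), by rw [← MulAut.conj_apply, MulEquiv.orderOf_eq]; exact hh.2⟩

theorem oddFix_normal {g x : G} (hg : g ∈ centralizer ({S.z} : Set G)) (hx : x ∈ S.oddFix) :
    g * x * g⁻¹ ∈ S.oddFix := by
  refine ⟨S.J_normal g hg x hx.1, mem_centralizer_iff.2 fun h hh => ?_⟩
  have h' := mem_centralizer_iff.1 hx.2 _ (S.oddElts_conj (inv_mem hg) hh)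
  calc h * (g * x * g⁻¹) = g * (g⁻¹ * h * g⁻¹⁻¹ * x) * g⁻¹ := by group
    _ = g * (x * (g⁻¹ * h * g⁻¹⁻¹)) * g⁻¹ := by rw [h']
    _ = g * x * g⁻¹ * h := by group

theorem oddFixCent_normal {g x : G} (hg : g ∈ centralizer ({S.z} : Set G)) (hx : x ∈ S.oddFixCent) :
    g * x * g⁻¹ ∈ S.oddFixCent :=
  ⟨S.J_normal g hg x hx.1, conj_mem_centralizer hx.2 fun d hd => by
    simpa using S.oddFix_normal (inv_mem hg) hd⟩

theorem odd_cent_one {g : G} (hg : g ∈ centralizer ({S.z} : Set G)) (ho : Odd (orderOf g)) :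
    g ∈ centralizer ({S.z1} : Set G) := by
  have h2 : g ^ 2 ∈ centralizer ({S.z1} : Set G) := by
    refine mem_centralizer_singleton_iff.2 (mul_inv_eq_iff_eq_mul.1 ?_)
    rw [pow_two, show g * g * S.z1 * (g * g)⁻¹ = g * (g * S.z1 * g⁻¹) * g⁻¹ by group]
    rcases S.z1_conj g hg with h | h
    · rw [h, h]
    · rw [h, ← mul_assoc g, S.z_comm hg, mul_assoc S.z g, mul_assoc S.z, h, ← mul_assoc, S.z_sq, one_mul]
  obtain ⟨m, hm⟩ := ho
  have hgg : g = (g ^ 2) ^ (m + 1) := by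
    rw [← pow_mul, show 2 * (m + 1) = orderOf g + 1 by omega, pow_succ, pow_orderOf_eq_one, one_mul]
  rw [hgg]
  exact pow_mem h2 _

theorem RW.fixed {S : Setup G F} {g x : G} (hg : g ∈ centralizer ({S.z} : Set G))
    (h1 : g * S.z1 = S.z1 * g) (h : S.RW x) : g * x = x * g := by
  rcases h with rfl | rfl | rfl | rfl
  · rw [one_mul, mul_one]
  · exact S.z_comm hg
  · exact h1
  · rw [← mul_assoc, S.z_comm hg, mul_assoc, h1, ← mul_assoc]

theorem RW.conj {S : Setup G F} {g x : G} (hg : g ∈ centralizer ({S.z} : Set G)) (h : S.RW x) :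
    S.RW (g * x * g⁻¹) := by
  have hz : g * S.z * g⁻¹ = S.z := mul_inv_eq_iff_eq_mul.2 (S.z_comm hg)
  have h2 : g * (S.z * S.z1) * g⁻¹ = S.z * (g * S.z1 * g⁻¹) := by rw [← mul_assoc g, S.z_comm hg]; group
  rcases h with rfl | rfl | rfl | rfl
  · left; group
  · exact Or.inr (Or.inl hz)
  · rcases S.z1_conj g hg with e | e <;> rw [e]
    exacts [Or.inr (Or.inr (Or.inl rfl)), Or.inr (Or.inr (Or.inr rfl))]
  · rw [h2]
    rcases S.z1_conj g hg with e | e <;> rw [e]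
    · exact Or.inr (Or.inr (Or.inr rfl))
    · rw [← mul_assoc, S.z_sq, one_mul]; exact Or.inr (Or.inr (Or.inl rfl))

theorem RW.mem_oddFix {S : Setup G F} {x : G} (h : S.RW x) : x ∈ S.oddFix := by
  refine ⟨?_, mem_centralizer_iff.2 fun g hg => h.fixed hg.1
    (mem_centralizer_singleton_iff.1 (S.odd_cent_one hg.1 hg.2))⟩
  rcases h with rfl | rfl | rfl | rfl
  exacts [one_mem _, S.z_mem, S.z1_mem, mul_mem S.z_mem S.z1_mem]

theorem RW.mem_oddFixCent {S : Setup G F} {x : G} (h : S.RW x) : x ∈ S.oddFixCent :=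
  ⟨h.mem_oddFix.1, mem_centralizer_iff.2 fun d hd =>
    h.fixed (S.J_le_cent hd.1) (S.z1_central d hd.1)⟩

end Setup

/-- Coordinates on `J ⊓ C(D)` modulo `W` with the action of `C(z)`. -/
structure RedPre (S : Setup G F) where
  vec : G → V6
  vec_mul : ∀ x ∈ S.oddFixCent, ∀ y ∈ S.oddFixCent, vec (x * y) = vec x + vec y
  vec_surj : ∀ v, ∃ x ∈ S.oddFixCent, vec x = v
  vec_zero : ∀ x ∈ S.oddFixCent, vec x = 0 ↔ S.RW x
  sq_iff : ∀ x ∈ S.oddFixCent, x * x = 1 ↔ q6 (vec x) = 0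
  comm_iff : ∀ x ∈ S.oddFixCent, ∀ y ∈ S.oddFixCent, x * y = y * x ↔ b6 (vec x) (vec y) = 0
  split : ∀ x ∈ S.J, ∃ d ∈ S.oddFix, ∃ y ∈ S.oddFixCent, x = d * y
  act : G → V6 → V6
  act_vec : ∀ g ∈ centralizer ({S.z} : Set G), ∀ x ∈ S.oddFixCent, vec (g * x * g⁻¹) = act g (vec x)
  act_one : ∀ g ∈ centralizer ({S.z} : Set G), (∀ v, act g v = v) → g ∈ S.J
  rot : ∀ p p' : V6, q6 p = 1 → q6 p' = 1 → b6 p p' = 1 →
    ∃ g ∈ centralizer ({S.z} : Set G), Odd (orderOf g) ∧ act g p = p' ∧ act g p' = p + p' ∧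
      ∀ x, b6 x p = 0 → b6 x p' = 0 → act g x = x

open scoped _root_.Classical in
theorem exists_redPre [Finite G] (S : Setup G F) {Q : Type*} [Group Q] (π : centralizer ({S.z1} : Set G) →* Q)
    (hπs : Function.Surjective π) (hπ : ∀ x, π x = 1 ↔ (x : G) = 1 ∨ (x : G) = S.z1) (R : RedData Q)
    (hz : ∀ h : S.z ∈ centralizer ({S.z1} : Set G), π ⟨S.z, h⟩ = R.z)
    (hJ : ∀ q, q ∈ R.J ↔ ∃ x : centralizer ({S.z1} : Set G), (x : G) ∈ S.J ∧ π x = q)
    (hnc : ∀ g : G, g * S.z * g⁻¹ ≠ S.z * S.z1) : Nonempty (RedPre S) := by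
  have hJX : ∀ {x : G}, x ∈ S.J → x ∈ centralizer ({S.z1} : Set G) := fun h => S.J_le_cent_one h
  have hker : ∀ {a b : centralizer ({S.z1} : Set G)}, π a = π b → (b : G) = a ∨ (b : G) = a * S.z1 := by
    intro a b h
    rcases (hπ (a⁻¹ * b)).1 (by rw [map_mul, map_inv, h, inv_mul_cancel]) with e | e <;>
      simp only [coe_mul, coe_inv, inv_mul_eq_iff_eq_mul, mul_one] at e
    exacts [Or.inl e, Or.inr e]
  have hzX : S.z ∈ centralizer ({S.z1} : Set G) := hJX S.z_mem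
  have hcz : ∀ {g : centralizer ({S.z1} : Set G)}, π g ∈ centralizer ({R.z} : Set Q) → (g : G) ∈ centralizer ({S.z} : Set G) := by
    intro g hg
    rw [mem_cz, ← hz hzX] at hg
    refine mem_cz.2 (mul_inv_eq_iff_eq_mul.1 ?_)
    rcases hker (a := ⟨S.z, hzX⟩) (b := g * ⟨S.z, hzX⟩ * g⁻¹)
      (by rw [map_mul, map_mul, map_inv, hg, mul_inv_cancel_right]) with e | e
    · exact e
    · exact absurd e (hnc g)
  have hczi : ∀ {g : centralizer ({S.z1} : Set G)}, (g : G) ∈ centralizer ({S.z} : Set G) → π g ∈ centralizer ({R.z} : Set Q) := by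
    intro g hg
    rw [mem_cz, ← hz hzX, ← map_mul, ← map_mul]
    exact congrArg π (Subtype.ext (mem_cz.1 hg))
  have hoddX : ∀ {g : centralizer ({S.z1} : Set G)}, Odd (orderOf (g : G)) → Odd (orderOf (π g)) := by
    intro g ho
    refine Odd.of_dvd_nat ho ?_
    rw [Subgroup.orderOf_coe]
    exact orderOf_map_dvd π g
  have hlift : ∀ q ∈ centralizer ({R.z} : Set Q), Odd (orderOf q) →
      ∃ g : centralizer ({S.z1} : Set G), (g : G) ∈ S.oddElts ∧ π g = q := by
    intro q hq ho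
    obtain ⟨g0, rfl⟩ := hπs q
    obtain ⟨k, o, hodd, hn⟩ := Nat.exists_eq_two_pow_mul_odd (orderOf_pos g0).ne'
    have hdvd : orderOf (π g0) ∣ o :=
      (Nat.Coprime.pow_right k (Nat.coprime_two_right.2 ho)).dvd_of_dvd_mul_left (hn ▸ orderOf_map_dvd π g0)
    obtain ⟨e, he1, he2⟩ := Nat.chineseRemainder (Nat.Coprime.pow_right k (Nat.coprime_two_right.2 ho)) 1 0
    have hpi : π (g0 ^ e) = π g0 := by rw [map_pow]; exact (pow_eq_pow_iff_modEq.2 he1).trans (pow_one _)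
    refine ⟨g0 ^ e, ⟨hcz (hpi ▸ hq), ?_⟩, hpi⟩
    rw [Subgroup.orderOf_coe]
    refine Odd.of_dvd_nat hodd (orderOf_dvd_of_pow_eq_one ?_)
    rw [← pow_mul]
    exact orderOf_dvd_iff_pow_eq_one.1 (hn ▸ Nat.mul_dvd_mul_right (Nat.modEq_zero_iff_dvd.1 he2) o)
  have hzne : R.z ≠ 1 := R.z_ne
  have inJ : ∀ {x : G} (hx : x ∈ S.J), π ⟨x, hJX hx⟩ ∈ R.J := fun hx => (hJ _).2 ⟨_, hx, rfl⟩
  -- membership in `D`
  have hD : ∀ {x : G} (hx : x ∈ S.J), x ∈ S.oddFix ↔ π ⟨x, hJX hx⟩ ∈ R.D := by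
    intro x hx
    constructor
    · intro h
      obtain ⟨d, hd, y, hy, e⟩ := R.split _ (inJ hx)
      have hu : R.vec y = 0 := by
        by_contra hu
        obtain ⟨p, hp, hup, p', hp', hpp⟩ := exists_moved _ hu
        obtain ⟨q, hq, ho, h1, h2, h3⟩ := R.rot p p' hp hp' hpp
        obtain ⟨g, hg, rfl⟩ := hlift q hq ho
        have hcom : π g * (d * y) = d * y * π g := by
          rw [← e, ← map_mul, ← map_mul]
          exact congrArg π (Subtype.ext (mem_centralizer_iff.1 h.2 _ hg))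
        have hd' : d * π g = π g * d := mem_centralizer_iff.1 (R.odd_cent _ hq ho) d hd
        have hyc : π g * y = y * π g := by
          refine mul_left_cancel (a := d) ?_
          rw [← mul_assoc, hd', mul_assoc, hcom, mul_assoc]
        have hfix := R.lin_fix hq hy hyc
        set u := R.vec y
        have hup' : b6 p' u = b6 u p' := b6_comm _ _
        have e1 : b6 (R.lin (π g) u) (R.lin (π g) p) = b6 u p := (R.lin_iso hq).b6_map u p
        have e2 : b6 (R.lin (π g) u) (R.lin (π g) p') = b6 u p' := (R.lin_iso hq).b6_map u p'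
        rw [hfix, R.lin_apply hq, h1] at e1
        rw [hfix, R.lin_apply hq, h2, b6_add_right, e1, hup] at e2
        exact one_ne_zero (add_eq_right.1 e2)
      rw [e]
      rcases (R.vec_zero y hy).1 hu with e' | e' <;> rw [e']
      exacts [by rwa [mul_one], mul_mem hd R.z_mem]
    · intro h
      refine ⟨hx, mem_centralizer_iff.2 fun g hg => ?_⟩
      have hgX : g ∈ centralizer ({S.z1} : Set G) := S.odd_cent_one hg.1 hg.2
      have hc := mem_centralizer_iff.1 (R.odd_cent _ (hczi (g := ⟨g, hgX⟩) hg.1) (hoddX (g := ⟨g, hgX⟩) hg.2)) _ h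
      rcases hker (a := ⟨x, hJX hx⟩) (b := ⟨g, hgX⟩ * ⟨x, hJX hx⟩ * ⟨g, hgX⟩⁻¹)
        (by rw [map_mul, map_mul, map_inv, ← hc, mul_inv_cancel_right]) with e | e
      · exact mul_inv_eq_iff_eq_mul.1 e
      · exact absurd (odd_conj hg.2 (mem_cz.1 hgX) S.z1_sq e) S.z1_ne
  have hpz : ∀ {a b : centralizer ({S.z1} : Set G)}, (a : G) = b * S.z → π a = π b * R.z := by
    intro a b h
    rw [← hz hzX, ← map_mul]
    exact congrArg π (Subtype.ext h)
  have hcomm : ∀ {x y : G} (hx : x ∈ S.J) (hy : y ∈ S.J),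
      x * y = y * x ↔ π ⟨x, hJX hx⟩ * π ⟨y, hJX hy⟩ = π ⟨y, hJX hy⟩ * π ⟨x, hJX hx⟩ := by
    intro x y hx hy
    constructor
    · intro h
      rw [← map_mul, ← map_mul]; exact congrArg π (Subtype.ext h)
    · intro h
      refine (S.comm_or x hx y hy).resolve_right fun e => hzne ?_
      have := hpz (a := ⟨x, hJX hx⟩ * ⟨y, hJX hy⟩) (b := ⟨y, hJX hy⟩ * ⟨x, hJX hx⟩) e
      rw [map_mul, map_mul, h] at this
      exact mul_eq_left.1 this.symm
  -- membership in `J ⊓ C(D)`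
  have hC6 : ∀ {x : G} (hx : x ∈ S.J), x ∈ S.oddFixCent ↔ π ⟨x, hJX hx⟩ ∈ R.J6 := by
    intro x hx
    constructor
    · intro h
      refine ⟨inJ hx, mem_centralizer_iff.2 fun q hq => ?_⟩
      obtain ⟨⟨d, hdX⟩, hd, rfl⟩ := (hJ q).1 (R.D_le hq)
      exact (hcomm hd hx).1 (mem_centralizer_iff.1 h.2 d ((hD hd).2 hq))
    · intro h
      refine ⟨hx, mem_centralizer_iff.2 fun d hd => (hcomm hd.1 hx).2 ?_⟩
      exact mem_centralizer_iff.1 h.2 _ ((hD hd.1).1 hd)
  let vec : G → V6 := fun x => if h : x ∈ centralizer ({S.z1} : Set G) then R.vec (π ⟨x, h⟩) else 0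
  have hvec : ∀ {x : G} (h : x ∈ centralizer ({S.z1} : Set G)), vec x = R.vec (π ⟨x, h⟩) := fun h => dif_pos h
  have m6 : ∀ {x : G} (hx : x ∈ S.oddFixCent), π ⟨x, hJX hx.1⟩ ∈ R.J6 := fun hx => (hC6 hx.1).1 hx
  have vmul : ∀ x ∈ S.oddFixCent, ∀ y ∈ S.oddFixCent, vec (x * y) = vec x + vec y := by
    intro x hx y hy
    rw [hvec (hJX hx.1), hvec (hJX hy.1), hvec (mul_mem (hJX hx.1) (hJX hy.1)),
      ← R.vec_mul _ (m6 hx) _ (m6 hy), ← map_mul]
    rfl
  have vzero : ∀ x ∈ S.oddFixCent, vec x = 0 ↔ S.RW x := by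
    intro x hx
    rw [hvec (hJX hx.1), R.vec_zero _ (m6 hx), hπ]
    constructor
    · rintro ((e | e) | e)
      · exact Or.inl e
      · exact Or.inr (Or.inr (Or.inl e))
      · rw [← hz hzX] at e
        rcases hker e.symm with e' | e'
        exacts [Or.inr (Or.inl e'), Or.inr (Or.inr (Or.inr e'))]
    · rintro (e | e | e | e)
      · exact Or.inl (Or.inl e)
      · right; rw [← hz hzX]; exact congrArg π (Subtype.ext e)
      · exact Or.inl (Or.inr e)
      · right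
        rw [show (⟨x, hJX hx.1⟩ : centralizer ({S.z1} : Set G)) = ⟨S.z, hzX⟩ * ⟨S.z1, hJX S.z1_mem⟩ from Subtype.ext e, map_mul,
          (hπ ⟨S.z1, hJX S.z1_mem⟩).2 (Or.inr rfl), mul_one, hz hzX]
  have vsurj : ∀ v, ∃ x ∈ S.oddFixCent, vec x = v := by
    intro v
    obtain ⟨y, hy, rfl⟩ := R.vec_surj v
    obtain ⟨⟨x, hxX⟩, hx, rfl⟩ := (hJ y).1 hy.1
    exact ⟨x, (hC6 hx).2 hy, hvec hxX⟩
  choose rep hrep hrepv using vsurj
  let act : G → V6 → V6 := fun g v => vec (g * rep v * g⁻¹)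
  have avec : ∀ g ∈ centralizer ({S.z} : Set G), ∀ x ∈ S.oddFixCent, vec (g * x * g⁻¹) = act g (vec x) := by
    intro g hg x hx
    set r := rep (vec x)
    have hr : r ∈ S.oddFixCent := hrep _
    have hw : S.RW (r⁻¹ * x) := by
      refine (vzero _ (mul_mem (inv_mem hr) hx)).1 ?_
      have h1 := vmul _ (inv_mem hr) _ hr
      rw [inv_mul_cancel, (vzero 1 (one_mem _)).2 (Or.inl rfl), hrepv] at h1
      rw [vmul _ (inv_mem hr) _ hx]
      exact h1.symm
    show vec (g * x * g⁻¹) = vec (g * r * g⁻¹)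
    rw [show g * x * g⁻¹ = g * r * g⁻¹ * (g * (r⁻¹ * x) * g⁻¹) by group,
      vmul _ (S.oddFixCent_normal hg hr) _ ((hw.conj hg).mem_oddFixCent),
      (vzero _ ((hw.conj hg).mem_oddFixCent)).2 (hw.conj hg), add_zero]
  have abar : ∀ g : centralizer ({S.z1} : Set G), (g : G) ∈ centralizer ({S.z} : Set G) → ∀ v, act g v = R.act (π g) v := by
    intro g hg v
    obtain hx := hrep v
    show vec ((g : G) * rep v * (g : G)⁻¹) = _
    conv_rhs => rw [← hrepv v, hvec (hJX hx.1), ← R.act_vec _ (hczi hg) _ (m6 hx)]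
    rw [hvec (mul_mem (mul_mem g.2 (hJX hx.1)) (inv_mem g.2)), ← map_inv, ← map_mul, ← map_mul]
    rfl
  have amul : ∀ g ∈ centralizer ({S.z} : Set G), ∀ h ∈ centralizer ({S.z} : Set G), ∀ v,
      act (g * h) v = act g (act h v) := by
    intro g hg h hh v
    have hx := hrep v
    rw [← hrepv v, ← avec _ (mul_mem hg hh) _ hx, ← avec h hh _ hx, ← avec g hg _ (S.oddFixCent_normal hh hx)]
    exact congrArg vec (by group)
  refine ⟨{
    vec := vec, vec_mul := vmul, vec_zero := vzero, act := act, act_vec := avec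
    vec_surj := fun v => ⟨rep v, hrep v, hrepv v⟩
    sq_iff := fun x hx => by
      rw [hvec (hJX hx.1), ← R.sq_iff _ (m6 hx), ← map_mul]
      constructor
      · exact fun h => (hπ _).2 (Or.inl h)
      · intro h
        refine (S.sq_or x hx.1).resolve_right fun e => hzne ?_
        rw [← h, ← hz hzX]
        exact congrArg π (Subtype.ext e.symm)
    comm_iff := fun x hx y hy => by
      rw [hvec (hJX hx.1), hvec (hJX hy.1), ← R.comm_iff _ (m6 hx) _ (m6 hy)]
      exact hcomm hx.1 hy.1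
    split := fun x hx => ?_
    act_one := fun g hg h => ?_
    rot := fun p p' hp hp' hpp => ?_ }⟩
  · obtain ⟨q, hq, y, hy, e⟩ := R.split _ (inJ hx)
    obtain ⟨⟨d, hdX⟩, hd, rfl⟩ := (hJ q).1 (R.D_le hq)
    refine ⟨d, (hD hd).2 hq, d⁻¹ * x, (hC6 (mul_mem (inv_mem hd) hx)).2 ?_, by group⟩
    rw [show (⟨d⁻¹ * x, hJX (mul_mem (inv_mem hd) hx)⟩ : centralizer ({S.z1} : Set G)) = (⟨d, hdX⟩ : centralizer ({S.z1} : Set G))⁻¹ * ⟨x, hJX hx⟩ from
      Subtype.ext rfl, map_mul, map_inv, e, inv_mul_cancel_left]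
    exact hy
  · refine S.outer_faithful g hg fun k hk => ?_
    have hkC := S.K_le hk
    have hm := mul_mem (S.K_normal g hg k hk) (inv_mem hk)
    have triv : ∀ v, act (g * k * g⁻¹ * k⁻¹) v = v := by
      have a1 : ∀ v, act 1 v = v := fun v => by
        show vec (1 * rep v * 1⁻¹) = v
        rw [one_mul, inv_one, mul_one, hrepv]
      intro v
      have hgi : ∀ w, act g⁻¹ w = w := fun w => by
        conv_lhs => rw [← h w, ← amul _ (inv_mem hg) _ hg, inv_mul_cancel, a1]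
      rw [amul _ (mul_mem (mul_mem hg hkC) (inv_mem hg)) _ (inv_mem hkC),
        amul _ (mul_mem hg hkC) _ (inv_mem hg), hgi, amul g hg k hkC, h, ← amul k hkC _ (inv_mem hkC),
        mul_inv_cancel, a1]
    obtain ⟨y, hy, e⟩ := (hJ _).1 (R.act_one _ (hczi (g := ⟨_, S.K_cent hm⟩) (S.K_le hm))
      fun v => (abar ⟨_, S.K_cent hm⟩ (S.K_le hm) v).symm.trans (triv v))
    rcases hker e with h' | h'
    · exact (show g * k * g⁻¹ * k⁻¹ = y from h') ▸ hy
    · exact (show g * k * g⁻¹ * k⁻¹ = (y : G) * S.z1 from h') ▸ mul_mem hy S.z1_mem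
  · obtain ⟨q, hq, ho, h1, h2, h3⟩ := R.rot p p' hp hp' hpp
    obtain ⟨g, hg, rfl⟩ := hlift q hq ho
    exact ⟨g, hg.1, hg.2, by rw [abar g hg.1, h1], by rw [abar g hg.1, h2],
      fun x hx hx' => by rw [abar g hg.1, h3 x hx hx']⟩

end CfsgLib.Recog.Fi22Cent
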