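import Cfsg.Agent.Lib.Recog.Fi22Cent.RedData
import Cfsg.Agent.Lib.Recog.U6Cent.RedBasic

/-!
The action of `C(z)` on the six-dimensional space of a `RedW`, transport by conjugation, and the part of the space
centralized by an involution of `C(z)` (after `U6Cent/RedBasic.lean`).
-/

set_option autoImplicit false

namespace CfsgLib.Recog.Fi22Cent

open Subgroup U6Cent U6Cent.Red Module

variable {G : Type*} [Group G]

namespace RedW

variable (R : RedW G)

/-- The centralizer of `z`. -/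
abbrev C : Subgroup G := centralizer ({R.z} : Set G)

theorem z1_comm {x : G} (hx : x ∈ R.J) : x * R.z1 = R.z1 * x := mem_cz.1 (R.J_le_one hx)

theorem Q_le_J {x : G} (hx : x ∈ R.Q) : x ∈ R.J := (R.Q_le hx).1

theorem z_inv : R.z⁻¹ = R.z := inv_eq_of_mul_eq_one_right R.z_sq

theorem comm_z {x : G} (hx : x ∈ R.J) : x * R.z = R.z * x := mem_cz.1 (R.J_le hx)

theorem conjQ {g : G} (hg : g ∈ R.C) {x : G} (hx : x ∈ R.Q) : g * x * g⁻¹ ∈ R.Q := R.Q_normal g hg x hx

theorem comm_or {x : G} (hx : x ∈ R.Q) {y : G} (hy : y ∈ R.Q) : x * y = y * x ∨ x * y = y * x * R.z :=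
  R.J_comm x (R.Q_le_J hx) y (R.Q_le_J hy)

theorem comm_D {x d : G} (hx : x ∈ R.Q) (hd : d ∈ R.D) : x * d = d * x :=
  (mem_centralizer_iff.1 (R.Q_le hx).2 d hd).symm

theorem vec_one : R.vec 1 = 0 := (R.vec_zero 1 (one_mem _)).2 (Or.inl rfl)

theorem vec_z : R.vec R.z = 0 := (R.vec_zero _ R.z_memQ).2 (Or.inr rfl)

theorem vec_mul_z {x : G} (hx : x ∈ R.Q) : R.vec (x * R.z) = R.vec x := by
  rw [R.vec_mul x hx _ R.z_memQ, R.vec_z, add_zero]

theorem vec_inv {x : G} (hx : x ∈ R.Q) : R.vec x⁻¹ = R.vec x := by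
  refine v6_eq_of_add ?_
  rw [← R.vec_mul _ (inv_mem hx) x hx, inv_mul_cancel, R.vec_one]

theorem vec_eq {x y : G} (hx : x ∈ R.Q) (hy : y ∈ R.Q) (h : R.vec x = R.vec y) : x = y ∨ x = y * R.z := by
  have h0 : R.vec (y⁻¹ * x) = 0 := by rw [R.vec_mul _ (inv_mem hy) x hx, R.vec_inv hy, h, v6_add_self]
  rcases (R.vec_zero _ (mul_mem (inv_mem hy) hx)).1 h0 with e | e
  · exact Or.inl (inv_mul_eq_one.1 e).symm
  · exact Or.inr (inv_mul_eq_iff_eq_mul.1 e)

theorem sq_z {x : G} (hx : x ∈ R.Q) (hq : q6 (R.vec x) = 1) : x * x = R.z := by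
  refine (R.J_sq x (R.Q_le_J hx)).resolve_left fun h => ?_
  rw [(R.sq_iff x hx).1 h] at hq
  exact zero_ne_one hq

theorem act_add {g : G} (hg : g ∈ R.C) (v w : V6) : R.act g (v + w) = R.act g v + R.act g w := by
  obtain ⟨x, hx, rfl⟩ := R.vec_surj v
  obtain ⟨y, hy, rfl⟩ := R.vec_surj w
  rw [← R.vec_mul x hx y hy, ← R.act_vec g hg x hx, ← R.act_vec g hg y hy,
    ← R.act_vec g hg _ (mul_mem hx hy), ← R.vec_mul _ (R.conjQ hg hx) _ (R.conjQ hg hy)]
  congr 1
  group

theorem act_mul {g h : G} (hg : g ∈ R.C) (hh : h ∈ R.C) (v : V6) :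
    R.act (g * h) v = R.act g (R.act h v) := by
  obtain ⟨x, hx, rfl⟩ := R.vec_surj v
  rw [← R.act_vec _ (mul_mem hg hh) x hx, ← R.act_vec h hh x hx, ← R.act_vec g hg _ (R.conjQ hh hx)]
  congr 1
  group

theorem act_of_J {j : G} (hj : j ∈ R.J) (v : V6) : R.act j v = v := by
  obtain ⟨x, hx, rfl⟩ := R.vec_surj v
  obtain ⟨d, hd, y, hy, rfl⟩ := R.split j hj
  rw [← R.act_vec _ (R.J_le hj) x hx]
  have h1 : d * y * x * (d * y)⁻¹ = y * x * y⁻¹ := by
    have hc := R.comm_D (R.conjQ (R.J_le (R.Q_le_J hy)) hx) hd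
    calc d * y * x * (d * y)⁻¹ = d * (y * x * y⁻¹) * d⁻¹ := by group
      _ = y * x * y⁻¹ := by rw [← hc]; group
  rw [h1, R.vec_mul _ (mul_mem hy hx) _ (inv_mem hy), R.vec_mul y hy x hx, R.vec_inv hy]
  funext i
  simp only [Pi.add_apply]
  linear_combination (R.vec y i) * two_zero

theorem act_q {g : G} (hg : g ∈ R.C) (v : V6) : q6 (R.act g v) = q6 v := by
  obtain ⟨x, hx, rfl⟩ := R.vec_surj v
  rw [← R.act_vec g hg x hx]
  rcases zmod2_cases (q6 (R.vec x)) with h | h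
  · rw [h, ← R.sq_iff _ (R.conjQ hg hx)]
    calc g * x * g⁻¹ * (g * x * g⁻¹) = g * (x * x) * g⁻¹ := by group
      _ = 1 := by rw [(R.sq_iff x hx).2 h]; group
  · rw [h]
    refine (zmod2_cases _).resolve_left fun h0 => ?_
    rw [← R.sq_iff _ (R.conjQ hg hx)] at h0
    have : x * x = 1 := by
      calc x * x = g⁻¹ * (g * x * g⁻¹ * (g * x * g⁻¹)) * g := by group
        _ = 1 := by rw [h0]; group
    rw [(R.sq_iff x hx).1 this] at h
    exact zero_ne_one h

/-- The action as a linear map. -/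
noncomputable def lin (g : G) : L6 :=
  open Classical in
  if h : g ∈ R.C then (AddMonoidHom.mk' (R.act g) (R.act_add h)).toZModLinearMap 2 else LinearMap.id

theorem lin_apply {g : G} (hg : g ∈ R.C) (v : V6) : R.lin g v = R.act g v := by
  simp [lin, hg]

theorem lin_iso {g : G} (hg : g ∈ R.C) : Iso6 (R.lin g) := fun v => by
  rw [R.lin_apply hg, R.act_q hg]

theorem lin_mul {g h : G} (hg : g ∈ R.C) (hh : h ∈ R.C) (v : V6) :
    R.lin (g * h) v = R.lin g (R.lin h v) := by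
  rw [R.lin_apply (mul_mem hg hh), R.act_mul hg hh, R.lin_apply hg, R.lin_apply hh]

theorem lin_of_J {j : G} (hj : j ∈ R.J) (v : V6) : R.lin j v = v := by
  rw [R.lin_apply (R.J_le hj), R.act_of_J hj]

theorem lin_vec {g : G} (hg : g ∈ R.C) {x : G} (hx : x ∈ R.Q) :
    R.lin g (R.vec x) = R.vec (g * x * g⁻¹) := by
  rw [R.lin_apply hg, R.act_vec g hg x hx]

theorem lin_fix {g x : G} (hg : g ∈ R.C) (hx : x ∈ R.Q) (h : g * x = x * g) :
    R.lin g (R.vec x) = R.vec x := by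
  rw [R.lin_vec hg hx, h, mul_inv_cancel_right]

theorem lin_invol {t : G} (ht : t ∈ R.C) (h2 : t * t = 1) (v : V6) : R.lin t (R.lin t v) = v := by
  rw [← R.lin_mul ht ht, h2, R.lin_of_J (one_mem _)]

/-- The rank of the commutator space. -/
noncomputable def rk (g : G) : ℕ := finrank (ZMod 2) (im (R.lin g))

theorem rk_eq_zero {g : G} (hg : g ∈ R.C) : R.rk g = 0 ↔ g ∈ R.J := by
  refine ⟨fun h => R.act_one g hg fun v => ?_, fun h => ?_⟩
  · rw [← R.lin_apply hg]
    exact fx_eq_top h v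
  · rw [rk, Submodule.finrank_eq_zero, im, LinearMap.range_eq_bot]
    exact LinearMap.ext fun v => by rw [dm_apply, R.lin_of_J h, v6_add_self]; rfl

theorem rk_le_three {t : G} (ht : t ∈ R.C) (h2 : t * t = 1) : R.rk t ≤ 3 := finrank_im_le (R.lin_invol ht h2)

/-- The vectors with a representative commuting with `t`. -/
def fixU (t : G) : Submodule (ZMod 2) V6 where
  carrier := {v | ∃ y ∈ R.Q, t * y = y * t ∧ R.vec y = v}
  zero_mem' := ⟨1, one_mem _, by simp, R.vec_one⟩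
  add_mem' := by
    rintro v w ⟨x, hx, hxt, rfl⟩ ⟨y, hy, hyt, rfl⟩
    refine ⟨x * y, mul_mem hx hy, ?_, R.vec_mul x hx y hy⟩
    rw [← mul_assoc, hxt, mul_assoc, hyt, mul_assoc]
  smul_mem' := by
    rintro c v ⟨x, hx, hxt, rfl⟩
    rcases zmod2_cases c with rfl | rfl
    · exact ⟨1, one_mem _, by simp, by rw [zero_smul, R.vec_one]⟩
    · exact ⟨x, hx, hxt, (one_smul _ _).symm⟩

theorem finrank_fixU {t : G} (ht : t ∈ R.C) :
    5 - R.rk t ≤ finrank (ZMod 2) (R.fixU t) := by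
  have hle : R.fixU t ≤ fx (R.lin t) := by
    rintro _ ⟨y, hy, hyt, rfl⟩
    exact mem_fx.2 (R.lin_fix ht hy hyt)
  have h := finrank_hyper hle fun a ha hau b hb hbu => by
    obtain ⟨x, hx, rfl⟩ := R.vec_surj a
    obtain ⟨y, hy, rfl⟩ := R.vec_surj b
    have key : ∀ w ∈ R.Q, R.lin t (R.vec w) = R.vec w → R.vec w ∉ R.fixU t → t * w * t⁻¹ = w * R.z := by
      intro w hw hf hn
      rw [R.lin_vec ht hw] at hf
      refine (R.vec_eq (R.conjQ ht hw) hw hf).resolve_left fun e => hn ⟨w, hw, ?_, rfl⟩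
      exact mul_inv_eq_iff_eq_mul.1 e
    refine ⟨x * y, mul_mem hx hy, ?_, R.vec_mul x hx y hy⟩
    have e1 := key x hx (mem_fx.1 ha) hau
    have e2 := key y hy (mem_fx.1 hb) hbu
    have e3 : t * (x * y) * t⁻¹ = x * y := by
      calc t * (x * y) * t⁻¹ = t * x * t⁻¹ * (t * y * t⁻¹) := by group
        _ = x * (R.z * y) * R.z := by rw [e1, e2]; group
        _ = x * y * (R.z * R.z) := by rw [← R.comm_z (R.Q_le_J hy)]; group
        _ = x * y := by rw [R.z_sq, mul_one]
    exact mul_inv_eq_iff_eq_mul.1 e3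
  rw [finrank_fx] at h
  have : finrank (ZMod 2) (im (R.lin t)) = R.rk t := rfl
  omega

/-- Small rank: `z` is the square of an element of `J` commuting with `t`. -/
theorem exists_sqrt {t : G} (ht : t ∈ R.C) (h : R.rk t ≤ 2) : ∃ y ∈ R.Q, t * y = y * t ∧ y * y = R.z := by
  have h1 := R.finrank_fixU ht
  obtain ⟨v, ⟨y, hy, hyt, rfl⟩, hq⟩ := exists_q_one (U := R.fixU t) (by omega)
  exact ⟨y, hy, hyt, R.sq_z hy hq⟩

theorem fixU_stable {t a : G} (ha : a ∈ R.C) (hat : a * t = t * a) {u : V6} (hu : u ∈ R.fixU t) :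
    R.lin a u ∈ R.fixU t := by
  obtain ⟨y, hy, hyt, rfl⟩ := hu
  refine ⟨a * y * a⁻¹, R.conjQ ha hy, ?_, (R.lin_vec ha hy).symm⟩
  have h' : a⁻¹ * t = t * a⁻¹ := by
    rw [eq_mul_inv_iff_mul_eq, mul_assoc, ← hat, inv_mul_cancel_left]
  calc t * (a * y * a⁻¹) = a * (t * y) * a⁻¹ := by rw [← mul_assoc, ← mul_assoc, ← hat]; group
    _ = a * y * (t * a⁻¹) := by rw [hyt]; group
    _ = a * y * a⁻¹ * t := by rw [← h']; group

variable {R}

theorem InW.mem_D {x : G} (h : R.InW x) : x ∈ R.D := by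
  rcases h with rfl | rfl | rfl | rfl
  exacts [one_mem _, R.z_mem, R.z1_mem, mul_mem R.z_mem R.z1_mem]

theorem z_z1 (R : RedW G) : R.z * R.z1 = R.z1 * R.z := R.z1_comm (R.D_le R.z_mem)

theorem InW.sq {x : G} (h : R.InW x) : x * x = 1 := by
  rcases h with rfl | rfl | rfl | rfl
  · exact one_mul 1
  · exact R.z_sq
  · exact R.z1_sq
  · rw [mul_assoc, ← mul_assoc R.z1, ← R.z_z1, mul_assoc R.z, R.z1_sq, mul_one, R.z_sq]

theorem InW.comm {x y : G} (h : R.InW x) (hy : y ∈ R.J) : y * x = x * y := by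
  rcases h with rfl | rfl | rfl | rfl
  · rw [one_mul, mul_one]
  · exact R.comm_z hy
  · exact R.z1_comm hy
  · rw [← mul_assoc, R.comm_z hy, mul_assoc, R.z1_comm hy, ← mul_assoc]

/-- An element of `C(z)` fixing `z₁` fixes all of `W`. -/
theorem InW.fixed {g x : G} (hg : g ∈ R.C) (h1 : g * R.z1 = R.z1 * g) (h : R.InW x) : g * x * g⁻¹ = x := by
  rw [mul_inv_eq_iff_eq_mul]
  rcases h with rfl | rfl | rfl | rfl
  · rw [one_mul, mul_one]
  · exact mem_cz.1 hg
  · exact h1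
  · rw [← mul_assoc, mem_cz.1 hg, mul_assoc, h1, ← mul_assoc]

theorem InW.conj {g x : G} (hg : g ∈ R.C) (h : R.InW x) : R.InW (g * x * g⁻¹) := by
  have hz : g * R.z * g⁻¹ = R.z := mul_inv_eq_iff_eq_mul.2 (mem_cz.1 hg)
  have h2 : g * (R.z * R.z1) * g⁻¹ = R.z * (g * R.z1 * g⁻¹) := by rw [← mul_assoc g, mem_cz.1 hg]; group
  rcases h with rfl | rfl | rfl | rfl
  · left; group
  · exact Or.inr (Or.inl hz)
  · rcases R.z1_conj g hg with e | e <;> rw [e]
    exacts [Or.inr (Or.inr (Or.inl rfl)), Or.inr (Or.inr (Or.inr rfl))]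
  · rw [h2]
    rcases R.z1_conj g hg with e | e <;> rw [e]
    · exact Or.inr (Or.inr (Or.inr rfl))
    · rw [← mul_assoc, R.z_sq, one_mul]; exact Or.inr (Or.inr (Or.inl rfl))

theorem InW.mul {x y : G} (hx : R.InW x) (hy : R.InW y) : R.InW (x * y) := by
  have e1 : R.z * (R.z * R.z1) = R.z1 := by rw [← mul_assoc, R.z_sq, one_mul]
  have e2 : R.z1 * (R.z * R.z1) = R.z := by rw [R.z_z1, ← mul_assoc, R.z1_sq, one_mul]
  rcases hx with rfl | rfl | rfl | rfl <;> rcases hy with rfl | rfl | rfl | rfl <;>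
    simp only [InW, one_mul, mul_one, R.z_sq, R.z1_sq, ← R.z_z1, e1, e2, mul_assoc] <;> simp

variable (R)

/-- Elements of `D ∩ Q` have zero vector. -/
theorem vec_inter {x : G} (hx : x ∈ R.Q) (hd : x ∈ R.D) : R.vec x = 0 := by
  refine eq_zero_of_b6 fun v => ?_
  obtain ⟨y, hy, rfl⟩ := R.vec_surj v
  exact (R.comm_iff x hx y hy).1 (R.comm_D hy hd).symm

/-- Square roots of `z` in `D`: the product of two of them is in `W` or is another one. -/
theorem D_two {a b : G} (ha : a ∈ R.D) (hb : b ∈ R.D) (haz : a * a = R.z) (hbz : b * b = R.z) :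
    R.InW (a * b) ∨ a * b * (a * b) = R.z := by
  by_cases hc : R.InW (a * b)
  · exact Or.inl hc
  refine Or.inr ((R.J_sq _ (R.D_le (mul_mem ha hb))).resolve_left fun h1 => ?_)
  have root_nW : ∀ x, x * x = R.z → ¬ R.InW x := fun x hx h => R.z_ne (hx.symm.trans h.sq)
  have hinv : ∀ x, x * x = R.z → x⁻¹ = x * R.z := fun x hx =>
    inv_eq_of_mul_eq_one_right (by rw [← mul_assoc, hx, R.z_sq])
  have hab : a * b = b * a := by
    calc a * b = (a * b)⁻¹ := (inv_eq_of_mul_eq_one_right h1).symm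
      _ = b * R.z * (a * R.z) := by rw [mul_inv_rev, hinv a haz, hinv b hbz]
      _ = b * (R.z * a) * R.z := by group
      _ = b * a := by rw [← R.comm_z (R.D_le ha), ← mul_assoc, mul_assoc _ R.z, R.z_sq, mul_one]
  refine root_nW a haz (R.D_cent a ha fun x hx => ?_)
  obtain ⟨c, hc', w, hw, rfl⟩ := R.D_span a ha b hb (root_nW a haz) (root_nW b hbz) hc x hx
  have hac : a * c = c * a := by
    simp only [Set.mem_insert_iff, Set.mem_singleton_iff] at hc'
    rcases hc' with rfl | rfl | rfl | rfl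
    · rw [one_mul, mul_one]
    · rfl
    · exact hab
    · rw [mul_assoc, hab]
  rw [← mul_assoc, hac, mul_assoc, InW.comm hw (R.D_le ha), ← mul_assoc]

/-- Transport by conjugation. -/
def conj (g : G) : RedW G :=
  let f : G ≃* G := MulAut.conj g
  have hC : ∀ {a z : G}, f a ∈ centralizer ({f z} : Set G) ↔ a ∈ centralizer ({z} : Set G) := by
    intro a z
    rw [mem_cz, mem_cz, ← map_mul, ← map_mul, f.injective.eq_iff]
  have mm : ∀ {H : Subgroup G} {a : G}, f a ∈ H.map f.toMonoidHom ↔ a ∈ H :=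
    fun {H a} => Subgroup.mem_map_iff_mem f.injective
  have cn : ∀ a b : G, f a * f b * (f a)⁻¹ = f (a * b * a⁻¹) := fun a b => by rw [map_mul, map_mul, map_inv]
  { z := f R.z
    z1 := f R.z1
    J := R.J.map f.toMonoidHom
    D := R.D.map f.toMonoidHom
    Q := R.Q.map f.toMonoidHom
    z_sq := by rw [← map_mul, R.z_sq, map_one]
    z_ne := fun h => R.z_ne (f.injective (h.trans (map_one f).symm))
    z1_sq := by rw [← map_mul, R.z1_sq, map_one]
    J_le := by
      rintro _ ⟨a, ha, rfl⟩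
      exact hC.2 (R.J_le ha)
    J_le_one := by
      rintro _ ⟨a, ha, rfl⟩
      exact hC.2 (R.J_le_one ha)
    J_normal := by
      intro x hx y hy
      obtain ⟨a, rfl⟩ := f.surjective x
      obtain ⟨b, hb, rfl⟩ := hy
      rw [MulEquiv.coe_toMonoidHom, cn, mm]
      exact R.J_normal a (hC.1 hx) b hb
    J_sq := by
      rintro _ ⟨a, ha, rfl⟩
      rw [MulEquiv.coe_toMonoidHom, ← map_mul]
      exact (R.J_sq a ha).imp (fun e => by rw [e, map_one]) fun e => by rw [e]
    J_comm := by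
      rintro _ ⟨a, ha, rfl⟩ _ ⟨b, hb, rfl⟩
      simp only [MulEquiv.coe_toMonoidHom, ← map_mul, f.injective.eq_iff]
      exact R.J_comm a ha b hb
    z1_conj := by
      intro x hx
      obtain ⟨a, rfl⟩ := f.surjective x
      rw [cn, ← map_mul, f.injective.eq_iff, f.injective.eq_iff]
      exact R.z1_conj a (hC.1 hx)
    D_le := Subgroup.map_mono R.D_le
    z_mem := mm.2 R.z_mem
    z1_mem := mm.2 R.z1_mem
    D_normal := by
      intro x hx y hy
      obtain ⟨a, rfl⟩ := f.surjective x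
      obtain ⟨b, hb, rfl⟩ := hy
      rw [MulEquiv.coe_toMonoidHom, cn, mm]
      exact R.D_normal a (hC.1 hx) b hb
    D_four := by
      obtain ⟨e, he, hee⟩ := R.D_four
      exact ⟨f e, mm.2 he, by rw [← map_mul, hee]⟩
    D_cent := by
      rintro _ ⟨d, hd, rfl⟩ h
      simp only [MulEquiv.coe_toMonoidHom, ← map_mul, map_eq_one_iff f f.injective, f.injective.eq_iff]
      refine R.D_cent d hd fun d' hd' => f.injective ?_
      rw [map_mul, map_mul]
      exact h _ (mm.2 hd')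
    D_span := by
      rintro _ ⟨a, ha, rfl⟩ _ ⟨b, hb, rfl⟩ h1 h2 h3 _ ⟨x, hx, rfl⟩
      simp only [MulEquiv.coe_toMonoidHom, ← map_mul, map_eq_one_iff f f.injective, f.injective.eq_iff] at h1 h2 h3
      obtain ⟨c, hc, w, hw, e⟩ := R.D_span a ha b hb h1 h2 h3 x hx
      refine ⟨f c, ?_, f w, ?_, ?_⟩
      · simp only [MulEquiv.coe_toMonoidHom, Set.mem_insert_iff, Set.mem_singleton_iff, ← map_mul,
          map_eq_one_iff f f.injective, f.injective.eq_iff] at hc ⊢
        exact hc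
      · simp only [← map_mul, map_eq_one_iff f f.injective, f.injective.eq_iff]
        exact hw
      · rw [MulEquiv.coe_toMonoidHom, e, map_mul]
    Q_le := by
      rintro _ ⟨a, ha, rfl⟩
      refine ⟨mm.2 (R.Q_le ha).1, mem_centralizer_iff.2 ?_⟩
      rintro _ ⟨d, hd, rfl⟩
      simp only [MulEquiv.coe_toMonoidHom, ← map_mul, f.injective.eq_iff]
      exact (R.comm_D ha hd).symm
    z_memQ := mm.2 R.z_memQ
    Q_normal := by
      intro x hx y hy
      obtain ⟨a, rfl⟩ := f.surjective x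
      obtain ⟨b, hb, rfl⟩ := hy
      rw [MulEquiv.coe_toMonoidHom, cn, mm]
      exact R.Q_normal a (hC.1 hx) b hb
    split := by
      rintro _ ⟨x, hx, rfl⟩
      obtain ⟨d, hd, y, hy, rfl⟩ := R.split x hx
      exact ⟨f d, mm.2 hd, f y, mm.2 hy, map_mul f d y⟩
    vec := fun x => R.vec (f.symm x)
    vec_mul := by
      rintro _ ⟨a, ha, rfl⟩ _ ⟨b, hb, rfl⟩
      simp only [MulEquiv.coe_toMonoidHom, ← map_mul, MulEquiv.symm_apply_apply]
      exact R.vec_mul a ha b hb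
    vec_surj := fun v => by
      obtain ⟨x, hx, rfl⟩ := R.vec_surj v
      exact ⟨f x, mm.2 hx, by rw [MulEquiv.symm_apply_apply]⟩
    vec_zero := by
      rintro _ ⟨a, ha, rfl⟩
      simp only [MulEquiv.coe_toMonoidHom, MulEquiv.symm_apply_apply, map_eq_one_iff f f.injective,
        f.injective.eq_iff]
      exact R.vec_zero a ha
    sq_iff := by
      rintro _ ⟨a, ha, rfl⟩
      simp only [MulEquiv.coe_toMonoidHom, ← map_mul, MulEquiv.symm_apply_apply, map_eq_one_iff f f.injective]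
      exact R.sq_iff a ha
    comm_iff := by
      rintro _ ⟨a, ha, rfl⟩ _ ⟨b, hb, rfl⟩
      simp only [MulEquiv.coe_toMonoidHom, ← map_mul, MulEquiv.symm_apply_apply, f.injective.eq_iff]
      exact R.comm_iff a ha b hb
    act := fun x => R.act (f.symm x)
    act_vec := by
      intro x hx y hy
      obtain ⟨a, rfl⟩ := f.surjective x
      obtain ⟨b, hb, rfl⟩ := hy
      rw [MulEquiv.coe_toMonoidHom, cn]
      simp only [MulEquiv.symm_apply_apply]
      exact R.act_vec a (hC.1 hx) b hb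
    act_one := by
      intro x hx h
      obtain ⟨a, rfl⟩ := f.surjective x
      rw [mm]
      exact R.act_one a (hC.1 hx) (by simpa only [MulEquiv.symm_apply_apply] using h)
    odd_cent := by
      intro x hx ho
      obtain ⟨a, rfl⟩ := f.surjective x
      rw [MulEquiv.orderOf_eq] at ho
      refine mem_centralizer_iff.2 ?_
      rintro _ ⟨d, hd, rfl⟩
      simp only [MulEquiv.coe_toMonoidHom, ← map_mul, f.injective.eq_iff]
      exact mem_centralizer_iff.1 (R.odd_cent a (hC.1 hx) ho) d hd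
    rot := fun p p' hp hp' hpp => by
      obtain ⟨a, ha, ho, h1, h2, h3⟩ := R.rot p p' hp hp' hpp
      refine ⟨f a, hC.2 ha, by rwa [MulEquiv.orderOf_eq], ?_⟩
      simp only [MulEquiv.symm_apply_apply]
      exact ⟨h1, h2, h3⟩
    nz1 := fun x => by
      obtain ⟨a, rfl⟩ := f.surjective x
      rw [cn, Ne, f.injective.eq_iff]
      exact R.nz1 a
    nz2 := fun x => by
      obtain ⟨a, rfl⟩ := f.surjective x
      rw [cn, ← map_mul, Ne, f.injective.eq_iff]
      exact R.nz2 a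
    iso1 := by
      intro x hx hcom
      obtain ⟨a, rfl⟩ := f.surjective x
      rw [cn] at hcom ⊢
      rw [R.iso1 a (hC.1 hx) (by simpa using hcom.map f.symm.toMonoidHom)]
    iso2 := by
      intro x hx hcom
      obtain ⟨a, rfl⟩ := f.surjective x
      rw [← map_mul] at hx
      rw [cn] at hcom ⊢
      rw [R.iso2 a (hC.1 hx) (by simpa using hcom.map f.symm.toMonoidHom)] }

theorem conj_z (g : G) : (R.conj g).z = g * R.z * g⁻¹ := rfl

theorem conj_z1 (g : G) : (R.conj g).z1 = g * R.z1 * g⁻¹ := rfl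

end RedW

end CfsgLib.Recog.Fi22Cent
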