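import Cfsg.Agent.Lib.Recog.U6Cent.RedForm

/-!
The reducible case for an involution `z` whose `J = O₂(C(z))` has centre `W = {1, z, z₁, z z₁}`: `J` is the product of a
subgroup `D ⊇ W` of order `16` and a normal subgroup `Q` centralizing `D`, whose quotient by `⟨z⟩` is the
six-dimensional orthogonal space of minus type. `z` is isolated in the centralizers of `z₁` and of `z z₁`.
-/

set_option autoImplicit false

namespace CfsgLib.Recog.Fi22Cent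

open Subgroup U6Cent

/-- Data for the reducible case. `vec` gives coordinates on `Q` modulo `⟨z⟩`, `act` the action of `C(z)` there. -/
structure RedW (G : Type*) [Group G] where
  z : G
  z1 : G
  J : Subgroup G
  D : Subgroup G
  Q : Subgroup G
  z_sq : z * z = 1
  z_ne : z ≠ 1
  z1_sq : z1 * z1 = 1
  J_le : J ≤ centralizer ({z} : Set G)
  J_le_one : J ≤ centralizer ({z1} : Set G)
  J_normal : ∀ g ∈ centralizer ({z} : Set G), ∀ x ∈ J, g * x * g⁻¹ ∈ J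
  J_sq : ∀ x ∈ J, x * x = 1 ∨ x * x = z
  J_comm : ∀ x ∈ J, ∀ y ∈ J, x * y = y * x ∨ x * y = y * x * z
  z1_conj : ∀ g ∈ centralizer ({z} : Set G), g * z1 * g⁻¹ = z1 ∨ g * z1 * g⁻¹ = z * z1
  D_le : D ≤ J
  z_mem : z ∈ D
  z1_mem : z1 ∈ D
  D_normal : ∀ g ∈ centralizer ({z} : Set G), ∀ x ∈ D, g * x * g⁻¹ ∈ D
  D_four : ∃ e ∈ D, e * e = z
  D_cent : ∀ d ∈ D, (∀ d' ∈ D, d * d' = d' * d) → d = 1 ∨ d = z ∨ d = z1 ∨ d = z * z1
  /-- `D/W` has four elements. -/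
  D_span : ∀ a ∈ D, ∀ b ∈ D, ¬(a = 1 ∨ a = z ∨ a = z1 ∨ a = z * z1) →
    ¬(b = 1 ∨ b = z ∨ b = z1 ∨ b = z * z1) → ¬(a * b = 1 ∨ a * b = z ∨ a * b = z1 ∨ a * b = z * z1) →
    ∀ x ∈ D, ∃ c ∈ ({1, a, b, a * b} : Set G), ∃ w, (w = 1 ∨ w = z ∨ w = z1 ∨ w = z * z1) ∧ x = c * w
  Q_le : Q ≤ J ⊓ centralizer (D : Set G)
  z_memQ : z ∈ Q
  Q_normal : ∀ g ∈ centralizer ({z} : Set G), ∀ x ∈ Q, g * x * g⁻¹ ∈ Q
  /-- `J` is the product of `D` and `Q`. -/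
  split : ∀ x ∈ J, ∃ d ∈ D, ∃ y ∈ Q, x = d * y
  vec : G → V6
  vec_mul : ∀ x ∈ Q, ∀ y ∈ Q, vec (x * y) = vec x + vec y
  vec_surj : ∀ v, ∃ x ∈ Q, vec x = v
  vec_zero : ∀ x ∈ Q, vec x = 0 ↔ x = 1 ∨ x = z
  sq_iff : ∀ x ∈ Q, x * x = 1 ↔ q6 (vec x) = 0
  comm_iff : ∀ x ∈ Q, ∀ y ∈ Q, x * y = y * x ↔ b6 (vec x) (vec y) = 0
  act : G → V6 → V6
  act_vec : ∀ g ∈ centralizer ({z} : Set G), ∀ x ∈ Q, vec (g * x * g⁻¹) = act g (vec x)
  /-- The action of `C(z)/J` on the six-dimensional space is faithful. -/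
  act_one : ∀ g ∈ centralizer ({z} : Set G), (∀ v, act g v = v) → g ∈ J
  /-- Elements of odd order of `C(z)` centralize `D`. -/
  odd_cent : ∀ g ∈ centralizer ({z} : Set G), Odd (orderOf g) → g ∈ centralizer (D : Set G)
  /-- Each anisotropic plane has its rotation in the image of `C(z)`. -/
  rot : ∀ p p' : V6, q6 p = 1 → q6 p' = 1 → b6 p p' = 1 →
    ∃ g ∈ centralizer ({z} : Set G), Odd (orderOf g) ∧ act g p = p' ∧ act g p' = p + p' ∧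
      ∀ x, b6 x p = 0 → b6 x p' = 0 → act g x = x
  nz1 : ∀ g : G, g * z * g⁻¹ ≠ z1
  nz2 : ∀ g : G, g * z * g⁻¹ ≠ z * z1
  iso1 : ∀ g ∈ centralizer ({z1} : Set G), Commute (g * z * g⁻¹) z → g * z * g⁻¹ = z
  iso2 : ∀ g ∈ centralizer ({z * z1} : Set G), Commute (g * z * g⁻¹) z → g * z * g⁻¹ = z

namespace RedW

variable {G : Type*} [Group G] (R : RedW G)

/-- The group `{1, z, z₁, z z₁}` in terms of membership. -/
def InW (x : G) : Prop := x = 1 ∨ x = R.z ∨ x = R.z1 ∨ x = R.z * R.z1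

end RedW

end CfsgLib.Recog.Fi22Cent
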