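import Cfsg.Agent.Lib.Recog.Fi22Cent.RedSetup
import Cfsg.Agent.Lib.Recog.Fi22Cent.Bar
import Cfsg.Agent.Lib.Recog.U6Cent.RedIsolated
import Cfsg.Agent.Lib.Recog.U6Cent.NatAct

/-!
If `C(z₁)/⟨z₁⟩` is in the reducible case then so is `C(z z₁)/⟨z z₁⟩`, and `z` is isolated in both centralizers; hence
`z` is isolated in `G`.
-/

set_option autoImplicit false
set_option linter.unusedSectionVars false

namespace CfsgLib.Recog.Fi22Cent

open Subgroup Cfsg U6Cent

variable {G : Type*} [Group G] [Finite G] {F : Type*} [Field F] [Fintype F]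

theorem moving_exponents : ∀ i : Fin 4, ∃ a : Mod.T, Mod.ext a i = 1 := by decide +kernel

namespace Setup

variable (S : Setup G F)

theorem iso_of_red {Q : Type*} [Group Q] [Finite Q] (π : centralizer ({S.z1} : Set G) →* Q)
    (hπ : ∀ x, π x = 1 ↔ (x : G) = 1 ∨ (x : G) = S.z1) (R : RedData Q)
    (hz : ∀ h : S.z ∈ centralizer ({S.z1} : Set G), π ⟨S.z, h⟩ = R.z) : S.Iso := by
  intro g hg hcom
  set zh : centralizer ({S.z1} : Set G) := ⟨S.z, S.J_le_cent_one S.z_mem⟩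
  set gh : centralizer ({S.z1} : Set G) := ⟨g, hg⟩
  have h := R.isolated (π gh) (by
    rw [← hz zh.2, ← map_inv, ← map_mul, ← map_mul]
    exact (show Commute (gh * zh * gh⁻¹) zh from Subtype.ext hcom.eq).map π)
  rw [← hz zh.2, ← map_inv, ← map_mul, ← map_mul] at h
  rcases (hπ (zh⁻¹ * (gh * zh * gh⁻¹))).1 (by rw [map_mul, map_inv, h, inv_mul_cancel]) with e | e <;>
    simp only [zh, gh, coe_mul, coe_inv, inv_mul_eq_iff_eq_mul, mul_one] at e
  · exact e
  · exact absurd (isConj_iff.2 ⟨g, e⟩) S.not_conj'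

/-- If `D` is larger than `W` then the natural module is excluded. -/
theorem not_nat (hd : ∃ d ∈ S.oddFix, ¬ S.RW d) {Q : Type*} [Group Q] [Finite Q]
    (π : centralizer ({S.z1} : Set G) →* Q) (hπ : ∀ x, π x = 1 ↔ (x : G) = 1 ∨ (x : G) = S.z1)
    (N : NatData Q F) (hz : ∀ h : S.z ∈ centralizer ({S.z1} : Set G), π ⟨S.z, h⟩ = N.z)
    (hJ : ∀ q, q ∈ N.J ↔ ∃ x : centralizer ({S.z1} : Set G), (x : G) ∈ S.J ∧ π x = q)
    (hK : ∀ q, q ∈ N.H0 ↔ ∃ x : centralizer ({S.z1} : Set G), (x : G) ∈ S.K ∧ π x = q) : False := by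
  obtain ⟨d, hd, hdW⟩ := hd
  set dh : centralizer ({S.z1} : Set G) := ⟨d, S.J_le_cent_one hd.1⟩
  have hdJ : π dh ∈ N.J := (hJ _).2 ⟨dh, hd.1, rfl⟩
  obtain ⟨i, hi⟩ : ∃ i, N.vec (π dh) i ≠ 0 := by
    by_contra hn
    push Not at hn
    apply hdW
    rcases (N.vec_zero _ hdJ).1 (funext hn) with e | e
    · rcases (hπ dh).1 e with h | h
      exacts [Or.inl h, Or.inr (Or.inr (Or.inl h))]
    · rw [← hz (S.J_le_cent_one S.z_mem)] at e
      rcases (hπ ((⟨S.z, S.J_le_cent_one S.z_mem⟩)⁻¹ * dh)).1 (by rw [map_mul, map_inv, e, inv_mul_cancel]) with h | h <;>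
        simp only [dh, coe_mul, coe_inv, inv_mul_eq_iff_eq_mul, mul_one] at h
      exacts [Or.inr (Or.inl h), Or.inr (Or.inr (Or.inr h))]
  obtain ⟨X⟩ := Mod.exists_gens S.hF
  obtain ⟨a, ha⟩ := moving_exponents i
  obtain ⟨q, hq, hact⟩ := N.act_surj (X.tor a)
  obtain ⟨k, hk, rfl⟩ := (hK q).1 hq
  have hact' : ∀ v, N.act (π k) v = Mod.act (X.tor a) v := hact
  obtain ⟨m, o, ho, hn⟩ := Nat.exists_eq_two_pow_mul_odd (orderOf_pos k).ne'
  obtain ⟨e, he1, he2⟩ := Nat.chineseRemainder (show Nat.Coprime 3 (2 ^ m) from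
    Nat.Coprime.pow_right m (by norm_num)) 1 0
  have hko : Odd (orderOf ((k ^ e : centralizer ({S.z1} : Set G)) : G)) := by
    rw [Subgroup.orderOf_coe]
    refine Odd.of_dvd_nat ho (orderOf_dvd_of_pow_eq_one ?_)
    rw [← pow_mul]
    exact orderOf_dvd_iff_pow_eq_one.1 (hn ▸ Nat.mul_dvd_mul_right (Nat.modEq_zero_iff_dvd.1 he2) o)
  have hkC : (k : G) ∈ centralizer ({S.z} : Set G) := S.K_le hk
  have hkeC : ((k ^ e : centralizer ({S.z1} : Set G)) : G) ∈ centralizer ({S.z} : Set G) := by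
    rw [coe_pow]; exact pow_mem hkC e
  have hfix : k ^ e * dh * (k ^ e)⁻¹ = dh := by
    refine mul_inv_eq_iff_eq_mul.2 (Subtype.ext ?_)
    exact mem_centralizer_iff.1 hd.2 _ ⟨hkeC, hko⟩
  have hqC : π k ∈ centralizer ({N.z} : Set Q) := N.H0_le hq
  set v := N.vec (π dh)
  have h1 : N.act (π k ^ e) v = v := by
    rw [← N.act_vec _ (pow_mem hqC e) _ hdJ, ← map_pow, ← map_inv, ← map_mul, ← map_mul, hfix]
  have hpow : ∀ n : ℕ, N.act (π k ^ n) v = Mod.act (X.tor (n • a)) v := by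
    intro n
    induction n with
    | zero => rw [pow_zero, zero_smul, X.tor_zero, Mod.act_one]; exact N.act_J (one_mem _) v
    | succ n ih =>
      rw [pow_succ', N.act_mul hqC (pow_mem hqC n), ih, hact', succ_nsmul', X.tor_add, Mod.act_mul]
  rw [hpow, show (e • a : Mod.T) = a from funext fun j => by
    rw [Pi.smul_apply, nsmul_eq_mul, show (e : ZMod 3) = ((1 : ℕ) : ZMod 3) from
      (ZMod.natCast_eq_natCast_iff _ _ _).2 he1, Nat.cast_one, one_mul]] at h1
  have h2 := congrFun h1 i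
  rw [X.tor_act, ha, show ((1 : ZMod 3).val) = 1 from rfl, pow_one] at h2
  exact X.hf.w_ne_one (mul_right_cancel₀ hi (h2.trans (one_mul _).symm))

/-- The reducible case: `z` is isolated in `G`. -/
theorem isolated_of_red_bar (R : RedData S.Bar) (hz : R.z = S.proj ⟨S.z, S.z_cent1⟩)
    (hJ : R.J = (S.J.subgroupOf (centralizer ({S.z1} : Set G))).map S.proj) : IsIsolatedInvolution S.z := by
  have hJ' : ∀ (T : Setup G F) (A : Subgroup G) (q : T.Bar),
      q ∈ (A.subgroupOf (centralizer ({T.z1} : Set G))).map T.proj ↔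
        ∃ x : centralizer ({T.z1} : Set G), (x : G) ∈ A ∧ T.proj x = q := fun T A q => Iff.rfl
  have hs : ∀ T : Setup G F, Function.Surjective T.proj := fun T => QuotientGroup.mk'_surjective _
  have hJR : ∀ q, q ∈ R.J ↔ ∃ x : centralizer ({S.z1} : Set G), (x : G) ∈ S.J ∧ S.proj x = q := fun q => by
    rw [hJ]; exact hJ' S S.J q
  obtain ⟨P⟩ := exists_redPre S S.proj (hs S) S.proj_eq_one R (fun _ => hz.symm) hJR
    fun g e => S.not_conj' (isConj_iff.2 ⟨g, e⟩)
  have hd : ∃ d ∈ S.oddFix, ¬ S.RW d := by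
    obtain ⟨e, he, hee⟩ := P.exists_root_z
    refine ⟨e, he, fun h => S.z_ne ?_⟩
    rcases h with rfl | rfl | rfl | rfl
    · rw [← hee, one_mul]
    · rw [← hee, S.z_sq]
    · rw [← hee, S.z1_sq]
    · rw [← hee, S.zz1_sq]
  obtain ⟨T, hTz, hTJ, hTK, -, -⟩ := S.flip.barSetup
  have h2 : S.flip.Iso := by
    rcases T.dichotomy' with ⟨N, hNz, hNJ, hNK⟩ | ⟨R', hR'z, -⟩
    · exfalso
      refine S.flip.not_nat ?_ S.flip.proj S.flip.proj_eq_one N (fun _ => (hNz.trans hTz).symm) ?_ ?_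
      · obtain ⟨d, hd, hdW⟩ := hd
        refine ⟨d, hd, fun h => hdW ?_⟩
        rcases h with h | h | h | h
        · exact Or.inl h
        · exact Or.inr (Or.inl h)
        · exact Or.inr (Or.inr (Or.inr h))
        · refine Or.inr (Or.inr (Or.inl (h.trans ?_)))
          show S.z * (S.z * S.z1) = S.z1
          rw [← mul_assoc, S.z_sq, one_mul]
      · intro q; rw [hNJ, hTJ]; exact hJ' S.flip S.flip.J q
      · intro q; rw [hNK, hTK]; exact hJ' S.flip S.flip.K q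
    · exact S.flip.iso_of_red S.flip.proj S.flip.proj_eq_one R' fun _ => (hR'z.trans hTz).symm
  exact S.isolated_of_red S.proj (hs S) S.proj_eq_one R (fun _ => hz.symm) hJR
    (S.iso_of_red S.proj S.proj_eq_one R fun _ => hz.symm) h2

end Setup

end CfsgLib.Recog.Fi22Cent
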