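import Cfsg.Agent.Lib.Recog.U6Cent.RedBase

/-!
A function on the anisotropic vectors of the six-dimensional space of minus type which sums to zero on every
anisotropic plane and vanishes on the standard basis is zero.
-/

set_option autoImplicit false

namespace CfsgLib.Recog.Fi22Cent

open U6Cent U6Cent.Red

/-- The nonzero vectors of the `i`-th plane. -/
def sg (i a : Fin 3) : V6 := fun j =>
  if (j.1 = 2 * i.1 ∧ a ≠ 1) ∨ (j.1 = 2 * i.1 + 1 ∧ a ≠ 0) then 1 else 0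

/-- The vectors of weight three. -/
def tr (a b c : Fin 3) : V6 := sg 0 a + sg 1 b + sg 2 c

theorem aniso_cases : ∀ v : V6, q6 v = 1 →
    (∃ i a, v = sg i a) ∨ ∃ a b c, v = tr a b c := by
  decide +kernel

theorem sg_plane : ∀ i, q6 (sg i 0) = 1 ∧ q6 (sg i 1) = 1 ∧ b6 (sg i 0) (sg i 1) = 1 ∧ sg i 0 + sg i 1 = sg i 2 := by
  decide +kernel

theorem sg_basis : ∀ i : Fin 3, ∀ a : Fin 3, a ≠ 2 → ∃ j : Fin 6, sg i a = Pi.single j 1 := by
  decide +kernel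

theorem tr_step : ∀ a a' b c : Fin 3, a ≠ a' →
    (∃ x, q6 (sg 0 x) = 1 ∧ q6 (tr a b c) = 1 ∧ b6 (sg 0 x) (tr a b c) = 1 ∧ sg 0 x + tr a b c = tr a' b c) ∧
    (∃ x, q6 (sg 1 x) = 1 ∧ q6 (tr b a c) = 1 ∧ b6 (sg 1 x) (tr b a c) = 1 ∧ sg 1 x + tr b a c = tr b a' c) ∧
    ∃ x, q6 (sg 2 x) = 1 ∧ q6 (tr b c a) = 1 ∧ b6 (sg 2 x) (tr b c a) = 1 ∧ sg 2 x + tr b c a = tr b c a' := by
  decide +kernel

theorem tr_plane : q6 (tr 0 0 0) = 1 ∧ q6 (tr 1 1 1) = 1 ∧ b6 (tr 0 0 0) (tr 1 1 1) = 1 ∧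
    tr 0 0 0 + tr 1 1 1 = tr 2 2 2 := by
  decide +kernel

theorem eq_zero_of_planes {A : Type*} [AddCommGroup A] (two : ∀ a : A, a + a = 0) (ε : V6 → A)
    (hpl : ∀ p p', q6 p = 1 → q6 p' = 1 → b6 p p' = 1 → ε p + ε p' + ε (p + p') = 0)
    (hb : ∀ j : Fin 6, ε (Pi.single j 1) = 0) {v : V6} (hv : q6 v = 1) : ε v = 0 := by
  have hs : ∀ i a, ε (sg i a) = 0 := by
    intro i a
    have h : ∀ a, a ≠ 2 → ε (sg i a) = 0 := fun a ha => by
      obtain ⟨j, e⟩ := sg_basis i a ha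
      rw [e]; exact hb j
    by_cases ha : a = 2
    · obtain ⟨h0, h1, h01, e⟩ := sg_plane i
      have := hpl _ _ h0 h1 h01
      rw [h 0 (by decide), h 1 (by decide), zero_add, zero_add, e] at this
      rw [ha]; exact this
    · exact h a ha
  have step : ∀ i x a b c a' b' c', q6 (sg i x) = 1 → q6 (tr a b c) = 1 → b6 (sg i x) (tr a b c) = 1 →
      sg i x + tr a b c = tr a' b' c' → ε (tr a b c) = ε (tr a' b' c') := by
    intro i x a b c a' b' c' h1 h2 h3 e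
    have := hpl _ _ h1 h2 h3
    rw [hs, zero_add, e] at this
    exact add_right_cancel (this.trans (two _).symm)
  have all : ∀ a b c, ε (tr a b c) = ε (tr 0 0 0) := by
    have m0 : ∀ a b c, ε (tr a b c) = ε (tr 0 b c) := fun a b c => by
      by_cases h : a = 0
      · rw [h]
      · obtain ⟨⟨x, h1, h2, h3, e⟩, -⟩ := tr_step a 0 b c h
        exact step 0 x _ _ _ _ _ _ h1 h2 h3 e
    have m1 : ∀ b c, ε (tr 0 b c) = ε (tr 0 0 c) := fun b c => by
      by_cases h : b = 0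
      · rw [h]
      · obtain ⟨-, ⟨x, h1, h2, h3, e⟩, -⟩ := tr_step b 0 0 c h
        exact step 1 x _ _ _ _ _ _ h1 h2 h3 e
    have m2 : ∀ c, ε (tr 0 0 c) = ε (tr 0 0 0) := fun c => by
      by_cases h : c = 0
      · rw [h]
      · obtain ⟨-, -, x, h1, h2, h3, e⟩ := tr_step c 0 0 0 h
        exact step 2 x _ _ _ _ _ _ h1 h2 h3 e
    exact fun a b c => by rw [m0, m1, m2]
  rcases aniso_cases v hv with ⟨i, a, rfl⟩ | ⟨a, b, c, rfl⟩
  · exact hs i a
  · obtain ⟨h1, h2, h3, e⟩ := tr_plane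
    have := hpl _ _ h1 h2 h3
    rw [e, all 1 1 1, all 2 2 2, two, zero_add] at this
    rw [all, this]

end CfsgLib.Recog.Fi22Cent
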