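import Cfsg.Agent.Lib.Recog.Fi22Cent.RedBar
import Cfsg.Agent.Lib.Recog.Fi22Cent.RedPlanes

/-!
The normal subgroup `Q` of `C(z)` inside `J ⊓ C(D)` which meets `W` in `⟨z⟩`: it is generated by the lifts of
anisotropic vectors that the rotations of their planes move only inside themselves.
-/

set_option autoImplicit false
set_option linter.unusedSectionVars false

namespace CfsgLib.Recog.Fi22Cent

open Subgroup Cfsg U6Cent U6Cent.Red

variable {G : Type*} [Group G] {F : Type*} [Field F] [Fintype F]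

namespace Setup

variable (S : Setup G F)

/-- `⟨z⟩` inside `J`. -/
def zJsub : Subgroup S.J := (zpowers S.z).subgroupOf S.J

instance zJsub_normal : S.zJsub.Normal := ⟨fun x hx g => by
  obtain ⟨k, hk⟩ := mem_zpowers_iff.1 (mem_subgroupOf.1 hx)
  refine mem_subgroupOf.2 ?_
  have h : ((g * x * g⁻¹ : S.J) : G) = x := by
    simp only [coe_mul, coe_inv, ← hk]
    rw [((show Commute (g : G) S.z from S.z_comm (S.J_le_cent g.2)).zpow_right k).eq, mul_inv_cancel_right]
  rw [h]; exact mem_subgroupOf.1 hx⟩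

theorem mem_zpow_z {x : G} : x ∈ zpowers S.z ↔ x = 1 ∨ x = S.z := by
  constructor
  · rintro ⟨k, rfl⟩
    rcases Int.even_or_odd k with ⟨m, rfl⟩ | ⟨m, rfl⟩
    · left
      show S.z ^ (m + m) = 1
      rw [← two_mul, zpow_mul, zpow_two, S.z_sq, one_zpow]
    · right
      show S.z ^ (2 * m + 1) = S.z
      rw [zpow_add, zpow_mul, zpow_two, S.z_sq, one_zpow, one_mul, zpow_one]
  · rintro (rfl | rfl)
    exacts [one_mem _, mem_zpowers _]

/-- `J/⟨z⟩`, written additively. -/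
abbrev JQ : Type _ := Additive (S.J ⧸ S.zJsub)

theorem JQ_comm (a b : S.J ⧸ S.zJsub) : a * b = b * a := by
  induction a using QuotientGroup.induction_on with
  | _ x =>
    induction b using QuotientGroup.induction_on with
    | _ y =>
      refine QuotientGroup.eq.2 (mem_subgroupOf.2 ?_)
      simp only [coe_mul, coe_inv]
      rcases S.comm_or x x.2 y y.2 with h | h <;> rw [h]
      · rw [inv_mul_cancel]; exact one_mem _
      · rw [show ((y : G) * x * S.z)⁻¹ * ((y : G) * x) = S.z⁻¹ by group]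
        exact inv_mem (mem_zpowers _)

instance : AddCommGroup S.JQ :=
  { (inferInstance : AddGroup (Additive (S.J ⧸ S.zJsub))) with
    add_comm := fun a b => congrArg Additive.ofMul (S.JQ_comm a.toMul b.toMul) }

open scoped _root_.Classical in
/-- The image of an element of `J` modulo `⟨z⟩`. -/
noncomputable def pq (x : G) : S.JQ :=
  if h : x ∈ S.J then Additive.ofMul (QuotientGroup.mk (⟨x, h⟩ : S.J)) else 0

theorem pq_of_mem {x : G} (h : x ∈ S.J) : S.pq x = Additive.ofMul (QuotientGroup.mk (⟨x, h⟩ : S.J)) := dif_pos h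

theorem pq_mul {x y : G} (hx : x ∈ S.J) (hy : y ∈ S.J) : S.pq (x * y) = S.pq x + S.pq y := by
  rw [S.pq_of_mem hx, S.pq_of_mem hy, S.pq_of_mem (mul_mem hx hy)]
  rfl

theorem pq_zero {x : G} (hx : x ∈ S.J) : S.pq x = 0 ↔ x = 1 ∨ x = S.z := by
  rw [S.pq_of_mem hx, ofMul_eq_zero, QuotientGroup.eq_one_iff, zJsub, mem_subgroupOf, S.mem_zpow_z]

theorem JQ_two (a : S.JQ) : a + a = 0 := by
  obtain ⟨x, hx⟩ := QuotientGroup.mk'_surjective _ a.toMul
  have ha : a = S.pq x := by rw [S.pq_of_mem x.2]; exact (congrArg Additive.ofMul hx).symm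
  rw [ha, ← S.pq_mul x.2 x.2, S.pq_zero (mul_mem x.2 x.2)]
  exact S.sq_or x x.2

theorem pq_inv {x : G} (hx : x ∈ S.J) : S.pq x⁻¹ = S.pq x := by
  have h := S.pq_mul hx (inv_mem hx)
  rw [mul_inv_cancel, (S.pq_zero (one_mem _)).2 (Or.inl rfl)] at h
  exact add_left_cancel (h.symm.trans (S.JQ_two _).symm)

theorem pq_eq {x y : G} (hx : x ∈ S.J) (hy : y ∈ S.J) (h : S.pq x = S.pq y) : y = x ∨ y = x * S.z := by
  have h0 : S.pq (x⁻¹ * y) = 0 := by rw [S.pq_mul (inv_mem hx) hy, S.pq_inv hx, h, S.JQ_two]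
  exact ((S.pq_zero (mul_mem (inv_mem hx) hy)).1 h0).imp
    (fun e => (inv_mul_eq_one.1 e).symm) inv_mul_eq_iff_eq_mul.1

/-- Conjugation is well defined modulo `⟨z⟩`. -/
theorem pq_conj {g x y : G} (hg : g ∈ centralizer ({S.z} : Set G)) (hx : x ∈ S.J) (hy : y ∈ S.J)
    (h : S.pq x = S.pq y) : S.pq (g * x * g⁻¹) = S.pq (g * y * g⁻¹) := by
  rcases S.pq_eq hx hy h with e | e <;> rw [e]
  rw [show g * (x * S.z) * g⁻¹ = g * x * g⁻¹ * (g * S.z * g⁻¹) by group, S.z_comm hg, mul_inv_cancel_right,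
    S.pq_mul (S.J_normal g hg x hx) S.z_mem, (S.pq_zero S.z_mem).2 (Or.inr rfl), add_zero]

theorem pq_conj_J {j x : G} (hj : j ∈ S.J) (hx : x ∈ S.J) : S.pq (j * x * j⁻¹) = S.pq x := by
  rw [S.pq_mul (mul_mem hj hx) (inv_mem hj), S.pq_mul hj hx, S.pq_inv hj, add_comm (S.pq j), add_assoc, S.JQ_two,
    add_zero]

theorem pq_z1_ne : S.pq S.z1 ≠ 0 := fun h => by
  rcases (S.pq_zero S.z1_mem).1 h with e | e
  exacts [S.z1_ne e, S.z1_ne_z e]

end Setup

namespace RedPre

variable {S : Setup G F} (P : RedPre S)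

theorem vec_one : P.vec 1 = 0 := (P.vec_zero 1 (one_mem _)).2 (Or.inl rfl)

theorem vec_inv {x : G} (hx : x ∈ S.oddFixCent) : P.vec x⁻¹ = P.vec x := by
  refine v6_eq_of_add ?_
  rw [← P.vec_mul _ (inv_mem hx) x hx, inv_mul_cancel, P.vec_one]

theorem pq_of_vec {x y : G} (hx : x ∈ S.oddFixCent) (hy : y ∈ S.oddFixCent) (h : P.vec x = P.vec y) :
    S.pq y = S.pq x ∨ S.pq y = S.pq x + S.pq S.z1 := by
  have hw : S.RW (x⁻¹ * y) := (P.vec_zero _ (mul_mem (inv_mem hx) hy)).1 (by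
    rw [P.vec_mul _ (inv_mem hx) y hy, P.vec_inv hx, h, v6_add_self])
  have e : S.pq y = S.pq x + S.pq (x⁻¹ * y) := by rw [← S.pq_mul hx.1 (mul_mem (inv_mem hx.1) hy.1), mul_inv_cancel_left]
  rw [e]
  rcases hw with e' | e' | e' | e' <;> rw [e']
  · left; rw [(S.pq_zero (one_mem _)).2 (Or.inl rfl), add_zero]
  · left; rw [(S.pq_zero S.z_mem).2 (Or.inr rfl), add_zero]
  · right; rfl
  · right; rw [S.pq_mul S.z_mem S.z1_mem, (S.pq_zero S.z_mem).2 (Or.inr rfl), zero_add]

theorem act_add {g : G} (hg : g ∈ centralizer ({S.z} : Set G)) (v w : V6) : P.act g (v + w) = P.act g v + P.act g w := by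
  obtain ⟨x, hx, rfl⟩ := P.vec_surj v
  obtain ⟨y, hy, rfl⟩ := P.vec_surj w
  rw [← P.vec_mul x hx y hy, ← P.act_vec g hg x hx, ← P.act_vec g hg y hy,
    ← P.act_vec g hg _ (mul_mem hx hy), ← P.vec_mul _ (S.oddFixCent_normal hg hx) _ (S.oddFixCent_normal hg hy)]
  exact congrArg P.vec (by group)

theorem act_smul {g : G} (hg : g ∈ centralizer ({S.z} : Set G)) (c : ZMod 2) (v : V6) : P.act g (c • v) = c • P.act g v := by
  rcases zmod2_cases c with rfl | rfl
  · rw [zero_smul, zero_smul, ← P.vec_one, ← P.act_vec g hg 1 (one_mem _), mul_one, mul_inv_cancel]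
  · rw [one_smul, one_smul]

theorem act_mul {g h : G} (hg : g ∈ centralizer ({S.z} : Set G)) (hh : h ∈ centralizer ({S.z} : Set G)) (v : V6) : P.act (g * h) v = P.act g (P.act h v) := by
  obtain ⟨x, hx, rfl⟩ := P.vec_surj v
  rw [← P.act_vec _ (mul_mem hg hh) x hx, ← P.act_vec h hh x hx, ← P.act_vec g hg _ (S.oddFixCent_normal hh hx)]
  exact congrArg P.vec (by group)

theorem act_id (v : V6) : P.act 1 v = v := by
  obtain ⟨x, hx, rfl⟩ := P.vec_surj v
  rw [← P.act_vec 1 (one_mem _) x hx, one_mul, inv_one, mul_one]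

theorem act_inv {g : G} (hg : g ∈ centralizer ({S.z} : Set G)) (v : V6) : P.act g (P.act g⁻¹ v) = v := by
  rw [← P.act_mul hg (inv_mem hg), mul_inv_cancel, P.act_id]

theorem act_q {g : G} (hg : g ∈ centralizer ({S.z} : Set G)) (v : V6) : q6 (P.act g v) = q6 v := by
  obtain ⟨x, hx, rfl⟩ := P.vec_surj v
  rw [← P.act_vec g hg x hx]
  have h : g * x * g⁻¹ * (g * x * g⁻¹) = 1 ↔ x * x = 1 := by rw [conj_mul, conj_eq_one_iff]
  rw [P.sq_iff _ (S.oddFixCent_normal hg hx), P.sq_iff _ hx] at h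
  rcases zmod2_cases (q6 (P.vec x)) with e | e
  · rw [e, h.2 e]
  · rw [e]
    exact (zmod2_cases _).resolve_left fun e' => zero_ne_one ((h.1 e').symm.trans e)

theorem act_b {g : G} (hg : g ∈ centralizer ({S.z} : Set G)) (v w : V6) : b6 (P.act g v) (P.act g w) = b6 v w := by
  have h := q6_add (P.act g v) (P.act g w)
  rw [← P.act_add hg, P.act_q hg, P.act_q hg, P.act_q hg, q6_add v w] at h
  exact (add_left_cancel h).symm

/-- A lift of odd order of the rotation of the plane spanned by `p`, `p'`. -/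
def Rot (g : G) (p p' : V6) : Prop :=
  g ∈ centralizer ({S.z} : Set G) ∧ Odd (orderOf g) ∧ P.act g p = p' ∧ P.act g p' = p + p' ∧
    ∀ x, b6 x p = 0 → b6 x p' = 0 → P.act g x = x

/-- Two elements which agree on a plane and on its orthogonal agree modulo `J`. -/
theorem act_ext {g g' : G} (hg : g ∈ centralizer ({S.z} : Set G)) (hg' : g' ∈ centralizer ({S.z} : Set G)) {p p' : V6} (hpp : b6 p p' = 1)
    (h1 : P.act g p = P.act g' p) (h2 : P.act g p' = P.act g' p')
    (h3 : ∀ x, b6 x p = 0 → b6 x p' = 0 → P.act g x = P.act g' x) : g⁻¹ * g' ∈ S.J := by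
  refine P.act_one _ (mul_mem (inv_mem hg) hg') fun v => ?_
  have hv : P.act g v = P.act g' v := by
    have hpp' : b6 p' p = 1 := by rw [b6_comm]; exact hpp
    obtain ⟨a, c, u, hd, hu, hu'⟩ : ∃ a c u, v = u + (a • p + c • p') ∧ b6 u p = 0 ∧ b6 u p' = 0 := by
      refine ⟨b6 v p', b6 v p, v + (b6 v p' • p + b6 v p • p'), ?_, ?_, ?_⟩
      · rw [add_assoc, v6_add_self, add_zero]
      · rw [b6_add_left, b6_add_left, b6_smul_left, b6_smul_left, b6_self, hpp', mul_zero, zero_add, mul_one,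
          CharTwo.add_self_eq_zero]
      · rw [b6_add_left, b6_add_left, b6_smul_left, b6_smul_left, b6_self, hpp, mul_zero, add_zero, mul_one,
          CharTwo.add_self_eq_zero]
    rw [hd, P.act_add hg, P.act_add hg', P.act_add hg, P.act_add hg', P.act_smul hg, P.act_smul hg,
      P.act_smul hg', P.act_smul hg', h3 u hu hu', h1, h2]
  rw [P.act_mul (inv_mem hg) hg', ← hv, ← P.act_mul (inv_mem hg) hg, inv_mul_cancel, P.act_id]

/-- `x` and its two images under `g` add up to zero modulo `⟨z⟩`. -/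
def Com (g x : G) : Prop := S.pq x + S.pq (g * x * g⁻¹) + S.pq (g * g * x * (g * g)⁻¹) = 0

theorem Rot.cube {P : RedPre S} {g : G} {p p' : V6} (h : P.Rot g p p') (hpp : b6 p p' = 1) :
    g * (g * g) ∈ S.J := by
  obtain ⟨hg, -, h1, h2, h3⟩ := h
  have hgg := mul_mem hg hg
  have h4 : P.act g (p + p') = p := by rw [P.act_add hg, h1, h2, add_comm p p', ← add_assoc, v6_add_self, zero_add]
  have := P.act_ext (g := 1) (g' := g * (g * g)) (one_mem _) (mul_mem hg hgg) hpp
    (by rw [P.act_id, P.act_mul hg hgg, P.act_mul hg hg, h1, h2, h4])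
    (by rw [P.act_id, P.act_mul hg hgg, P.act_mul hg hg, h2, h4, h1])
    fun x hx hx' => by rw [P.act_id, P.act_mul hg hgg, P.act_mul hg hg, h3 x hx hx', h3 x hx hx', h3 x hx hx']
  rwa [inv_one, one_mul] at this

theorem Rot.sq {P : RedPre S} {g : G} {p p' : V6} (h : P.Rot g p p') : P.Rot (g * g) p (p + p') := by
  obtain ⟨hg, ho, h1, h2, h3⟩ := h
  refine ⟨mul_mem hg hg, ?_, by rw [P.act_mul hg hg, h1, h2], ?_, fun x hx hx' => ?_⟩
  · rw [← pow_two]; exact Odd.of_dvd_nat ho (orderOf_pow_dvd 2)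
  · have h4 : P.act g (p + p') = p := by
      rw [P.act_add hg, h1, h2, add_comm p p', ← add_assoc, v6_add_self, zero_add]
    rw [P.act_mul hg hg, h4, h1, ← add_assoc, v6_add_self, zero_add]
  · have hx0 : b6 x p' = 0 := by rw [b6_add_right, hx, zero_add] at hx'; exact hx'
    rw [P.act_mul hg hg, h3 x hx hx0, h3 x hx hx0]

theorem Com.sq {P : RedPre S} {g x : G} {p p' : V6} (h : P.Rot g p p') (hpp : b6 p p' = 1) (hx : x ∈ S.J)
    (hc : Com (S := S) g x) : Com (S := S) (g * g) x := by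
  have hj := h.cube hpp
  have e : S.pq (g * g * (g * g) * x * (g * g * (g * g))⁻¹) = S.pq (g * x * g⁻¹) := by
    rw [show g * g * (g * g) * x * (g * g * (g * g))⁻¹ = g * (g * (g * g) * x * (g * (g * g))⁻¹) * g⁻¹ by group]
    exact S.pq_conj h.1 (S.J_normal _ (S.J_le_cent hj) x hx) hx (S.pq_conj_J hj hx)
  rw [Com, e, add_assoc, add_comm (S.pq (g * g * x * (g * g)⁻¹)), ← add_assoc]
  exact hc

/-- A lift of an anisotropic vector fixed, as a pair, by the rotations through it. -/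
def Good (x : G) : Prop :=
  x ∈ S.oddFixCent ∧ q6 (P.vec x) = 1 ∧
    ∃ g p', P.Rot g (P.vec x) p' ∧ q6 p' = 1 ∧ b6 (P.vec x) p' = 1 ∧ Com (S := S) g x

theorem _root_.CfsgLib.Recog.Fi22Cent.Setup.fix_z1 (S : Setup G F) {g : G} (hg : g ∈ centralizer ({S.z} : Set G)) (ho : Odd (orderOf g)) : g * S.z1 * g⁻¹ = S.z1 :=
  mul_inv_eq_iff_eq_mul.2 (mem_centralizer_singleton_iff.1 (S.odd_cent_one hg ho))

theorem com_or {g x : G} {p p' : V6} (h : P.Rot g p p') (hx : x ∈ S.oddFixCent) (hxp : P.vec x = p) :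
    Com (S := S) g x ∨ Com (S := S) g (x * S.z1) := by
  obtain ⟨hg, ho, h1, h2, -⟩ := h
  have hgg := mul_mem hg hg
  have hs : P.vec (x * (g * x * g⁻¹) * (g * g * x * (g * g)⁻¹)) = P.vec 1 := by
    rw [P.vec_mul _ (mul_mem hx (S.oddFixCent_normal hg hx)) _ (S.oddFixCent_normal hgg hx),
      P.vec_mul x hx _ (S.oddFixCent_normal hg hx), P.act_vec g hg x hx, P.act_vec _ hgg x hx, hxp,
      P.act_mul hg hg, h1, h2, v6_add_self, P.vec_one]
  have hsum : S.pq (x * (g * x * g⁻¹) * (g * g * x * (g * g)⁻¹)) =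
      S.pq x + S.pq (g * x * g⁻¹) + S.pq (g * g * x * (g * g)⁻¹) := by
    rw [S.pq_mul (mul_mem hx.1 (S.J_normal g hg x hx.1)) (S.J_normal _ hgg x hx.1),
      S.pq_mul hx.1 (S.J_normal g hg x hx.1)]
  have hmem := mul_mem (mul_mem hx (S.oddFixCent_normal hg hx)) (S.oddFixCent_normal hgg hx)
  rcases P.pq_of_vec (one_mem _) hmem hs.symm with e | e <;>
    rw [(S.pq_zero (one_mem _)).2 (Or.inl rfl), hsum] at e
  · exact Or.inl e
  · refine Or.inr ?_
    have c1 : ∀ k ∈ centralizer ({S.z} : Set G), k * S.z1 * k⁻¹ = S.z1 → S.pq (k * (x * S.z1) * k⁻¹) = S.pq (k * x * k⁻¹) + S.pq S.z1 := by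
      intro k hk hk1
      rw [show k * (x * S.z1) * k⁻¹ = k * x * k⁻¹ * (k * S.z1 * k⁻¹) by group, hk1,
        S.pq_mul (S.J_normal k hk x hx.1) S.z1_mem]
    have hf := S.fix_z1 hg ho
    rw [Com, c1 g hg hf, c1 _ hgg (by rw [show g * g * S.z1 * (g * g)⁻¹ = g * (g * S.z1 * g⁻¹) * g⁻¹ by group, hf, hf]),
      S.pq_mul hx.1 S.z1_mem]
    calc S.pq x + S.pq S.z1 + (S.pq (g * x * g⁻¹) + S.pq S.z1) + (S.pq (g * g * x * (g * g)⁻¹) + S.pq S.z1)
        = (S.pq x + S.pq (g * x * g⁻¹) + S.pq (g * g * x * (g * g)⁻¹)) + S.pq S.z1 + (S.pq S.z1 + S.pq S.z1) := by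
          abel
      _ = 0 := by rw [e]; simp only [zero_add, S.JQ_two, add_zero]

theorem single_q : ∀ j : Fin 6, q6 (Pi.single j 1 : V6) = 1 := by decide

theorem exists_good {p : V6} (hp : q6 p = 1) : ∃ x, P.Good x ∧ P.vec x = p := by
  obtain ⟨p', hp', hpp⟩ : ∃ p', q6 p' = 1 ∧ b6 p p' = 1 := by
    have : ∀ p : V6, q6 p = 1 → ∃ p', q6 p' = 1 ∧ b6 p p' = 1 := by decide +kernel
    exact this p hp
  obtain ⟨g, hgr⟩ : ∃ g, P.Rot g p p' := P.rot p p' hp hp' hpp
  obtain ⟨x, hx, rfl⟩ := P.vec_surj p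
  rcases P.com_or hgr hx rfl with h | h
  · exact ⟨x, ⟨hx, hp, g, p', hgr, hp', hpp, h⟩, rfl⟩
  · have hw : S.RW S.z1 := Or.inr (Or.inr (Or.inl rfl))
    have hv : P.vec (x * S.z1) = P.vec x := by
      rw [P.vec_mul x hx _ hw.mem_oddFixCent, (P.vec_zero _ hw.mem_oddFixCent).2 hw, add_zero]
    exact ⟨x * S.z1, ⟨mul_mem hx hw.mem_oddFixCent, by rw [hv]; exact hp, g, p', by rw [hv]; exact hgr, hp',
      by rw [hv]; exact hpp, h⟩, hv⟩

theorem good_conj {a x : G} (ha : a ∈ centralizer ({S.z} : Set G)) (h : P.Good x) : P.Good (a * x * a⁻¹) := by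
  obtain ⟨hx, hq, g, p', ⟨hg, ho, h1, h2, h3⟩, hp', hb, hc⟩ := h
  have hai := inv_mem ha
  have hag : a * g * a⁻¹ ∈ centralizer ({S.z} : Set G) := mul_mem (mul_mem ha hg) hai
  have hact : ∀ v, P.act (a * g * a⁻¹) (P.act a v) = P.act a (P.act g v) := fun v => by
    rw [← P.act_mul hag ha, inv_mul_cancel_right, P.act_mul ha hg]
  refine ⟨S.oddFixCent_normal ha hx, by rw [P.act_vec a ha x hx, P.act_q ha]; exact hq,
    a * g * a⁻¹, P.act a p', ⟨hag, ?_, ?_, ?_, ?_⟩, by rw [P.act_q ha]; exact hp',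
    by rw [P.act_vec a ha x hx, P.act_b ha]; exact hb, ?_⟩
  · rw [← MulAut.conj_apply, MulEquiv.orderOf_eq]; exact ho
  · rw [P.act_vec a ha x hx, hact, h1]
  · rw [P.act_vec a ha x hx, hact, h2, P.act_add ha]
  · intro v hv hv'
    rw [P.act_vec a ha x hx] at hv
    obtain ⟨u, rfl⟩ : ∃ u, P.act a u = v := ⟨_, P.act_inv ha v⟩
    rw [P.act_b ha] at hv hv'
    rw [hact, h3 u hv hv']
  · have hgg := mul_mem hg hg
    have hsum : ∀ u ∈ S.J, ∀ v ∈ S.J, ∀ w ∈ S.J, S.pq u + S.pq v + S.pq w = 0 →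
        S.pq (a * u * a⁻¹) + S.pq (a * v * a⁻¹) + S.pq (a * w * a⁻¹) = 0 := by
      intro u hu v hv w hw e
      rw [← S.pq_mul hu hv, ← S.pq_mul (mul_mem hu hv) hw] at e
      rw [← S.pq_mul (S.J_normal a ha u hu) (S.J_normal a ha v hv),
        ← S.pq_mul (mul_mem (S.J_normal a ha u hu) (S.J_normal a ha v hv)) (S.J_normal a ha w hw),
        show a * u * a⁻¹ * (a * v * a⁻¹) * (a * w * a⁻¹) = a * (u * v * w) * a⁻¹ by group,
        S.pq_conj ha (mul_mem (mul_mem hu hv) hw) (one_mem _)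
          (e.trans ((S.pq_zero (one_mem _)).2 (Or.inl rfl)).symm), mul_one, mul_inv_cancel,
        (S.pq_zero (one_mem _)).2 (Or.inl rfl)]
    have := hsum x hx.1 _ (S.J_normal g hg x hx.1) _ (S.J_normal _ hgg x hx.1) hc
    rw [Com]
    convert this using 3 <;> group

/-- Lifts of one plane. -/
theorem com_transfer {g g' x : G} {p p' : V6} (h : P.Rot g p p') (h' : P.Rot g' p p') (hpp : b6 p p' = 1)
    (hx : x ∈ S.J) (hc : Com (S := S) g x) : Com (S := S) g' x := by
  have hj : g⁻¹ * g' ∈ S.J := P.act_ext h.1 h'.1 hpp (h.2.2.1.trans h'.2.2.1.symm)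
    (h.2.2.2.1.trans h'.2.2.2.1.symm) fun v hv hv' => (h.2.2.2.2 v hv hv').trans (h'.2.2.2.2 v hv hv').symm
  have e : ∀ y ∈ S.J, S.pq (g' * y * g'⁻¹) = S.pq (g * y * g⁻¹) := fun y hy => by
    rw [show g' * y * g'⁻¹ = g * (g⁻¹ * g' * y * (g⁻¹ * g')⁻¹) * g⁻¹ by group]
    exact S.pq_conj h.1 (S.J_normal _ (S.J_le_cent hj) y hy) hy (S.pq_conj_J hj hy)
  have e2 : S.pq (g' * g' * x * (g' * g')⁻¹) = S.pq (g * g * x * (g * g)⁻¹) := by
    rw [show g' * g' * x * (g' * g')⁻¹ = g' * (g' * x * g'⁻¹) * g'⁻¹ by group,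
      e _ (S.J_normal g' h'.1 x hx), show g * g * x * (g * g)⁻¹ = g * (g * x * g⁻¹) * g⁻¹ by group]
    exact S.pq_conj h.1 (S.J_normal g' h'.1 x hx) (S.J_normal g h.1 x hx) (e x hx)
  rwa [Com, e x hx, e2]

theorem com_unique {g x y : G} {p p' : V6} (h : P.Rot g p p') (hx : x ∈ S.oddFixCent) (hy : y ∈ S.oddFixCent)
    (hv : P.vec x = P.vec y) (hcx : Com (S := S) g x) (hcy : Com (S := S) g y) : S.pq x = S.pq y := by
  obtain ⟨hg, ho, -⟩ := h
  rcases P.pq_of_vec hx hy hv with e | e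
  · exact e.symm
  exfalso
  apply S.pq_z1_ne
  have hf := S.fix_z1 hg ho
  have c1 : ∀ k ∈ centralizer ({S.z} : Set G), k * S.z1 * k⁻¹ = S.z1 → S.pq (k * y * k⁻¹) = S.pq (k * x * k⁻¹) + S.pq S.z1 := by
    intro k hk hk1
    rw [S.pq_conj hk hy.1 (mul_mem hx.1 S.z1_mem) (e.trans (S.pq_mul hx.1 S.z1_mem).symm),
      show k * (x * S.z1) * k⁻¹ = k * x * k⁻¹ * (k * S.z1 * k⁻¹) by group, hk1,
      S.pq_mul (S.J_normal k hk x hx.1) S.z1_mem]
  rw [Com, e, c1 g hg hf, c1 _ (mul_mem hg hg)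
    (by rw [show g * g * S.z1 * (g * g)⁻¹ = g * (g * S.z1 * g⁻¹) * g⁻¹ by group, hf, hf])] at hcy
  calc S.pq S.z1 = (S.pq x + S.pq (g * x * g⁻¹) + S.pq (g * g * x * (g * g)⁻¹)) + S.pq S.z1 + (S.pq S.z1 + S.pq S.z1) := by
        rw [show _ = (0 : S.JQ) from hcx, zero_add, S.JQ_two, add_zero]
    _ = 0 := by rw [← hcy]; abel

/-- The good lift does not depend on the plane. -/
theorem good_unique {x y : G} (hx : P.Good x) (hy : P.Good y) (hv : P.vec x = P.vec y) : S.pq x = S.pq y := by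
  obtain ⟨hx6, hq, g, p', hg, hp', hpp, hcx⟩ := hx
  obtain ⟨hy6, -, h, p'', hh, hp'', hpp'', hcy⟩ := hy
  rw [← hv] at hh hpp''
  set p := P.vec x
  -- the same plane
  have same : ∀ h p'', P.Rot h p p'' → b6 p p'' = 1 → Com (S := S) h y → (p'' = p' ∨ p'' = p + p') →
      S.pq x = S.pq y := by
    intro h p'' hh hb hc hor
    rcases hor with e | e <;> subst e
    · exact P.com_unique hg hx6 hy6 hv hcx (P.com_transfer hh hg hb hy6.1 hc)
    · exact P.com_unique hg.sq hx6 hy6 hv (Com.sq hg hpp hx6.1 hcx) (P.com_transfer hh hg.sq hb hy6.1 hc)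
  have main : ∀ h p'', P.Rot h p p'' → q6 p'' = 1 → b6 p p'' = 1 → Com (S := S) h y → b6 p' p'' = 1 →
      S.pq x = S.pq y := by
    intro h p'' hh hp'' hb hc hb'
    by_cases hne : p'' = p + p'
    · exact same h p'' hh hb hc (Or.inr hne)
    set r := p' + p'' with hr
    have hrq : q6 r = 1 := by rw [hr, q6_add, hp', hp'', hb']; decide
    have hrp : b6 r p = 0 := by rw [hr, b6_add_left, b6_comm p', hpp, b6_comm p'', hb]; decide
    have hrp' : b6 r p' = 1 := by rw [hr, b6_add_left, b6_self, b6_comm p'', hb', zero_add]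
    have hpp' : b6 p' p = 1 := by rw [b6_comm]; exact hpp
    set s := r + p with hs
    have hs0 : s ≠ 0 := fun e => hne (by
      have : r = p := v6_eq_of_add e
      rw [← this, hr, add_comm p' p'', add_assoc, v6_add_self, add_zero])
    have hsp : b6 s p = 0 := by rw [hs, b6_add_left, hrp, b6_self, zero_add]
    have hsp' : b6 s p' = 0 := by rw [hs, b6_add_left, hrp', hpp]; decide
    have hsq : q6 s = 0 := by rw [hs, q6_add, hrq, hq, hrp]; decide
    obtain ⟨v, hv1⟩ : ∃ v, b6 s v = 1 := by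
      by_contra hn
      push Not at hn
      exact hs0 (eq_zero_of_b6 fun v => (zmod2_cases _).resolve_right (hn v))
    set v' := v + b6 v p' • p + b6 v p • p' with hv'
    have hvp : b6 v' p = 0 := by
      rw [hv', b6_add_left, b6_add_left, b6_smul_left, b6_smul_left, b6_self, hpp', mul_zero, add_zero, mul_one,
        CharTwo.add_self_eq_zero]
    have hvp' : b6 v' p' = 0 := by
      rw [hv', b6_add_left, b6_add_left, b6_smul_left, b6_smul_left, b6_self, hpp, mul_zero, add_zero, mul_one,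
        CharTwo.add_self_eq_zero]
    have hsv : b6 s v' = 1 := by
      rw [hv', b6_add_right, b6_add_right, b6_smul_right, b6_smul_right, hsp, hsp', mul_zero, mul_zero, add_zero,
        add_zero, hv1]
    obtain ⟨r', hr'q, hr'p, hr'p', hr's⟩ : ∃ r', q6 r' = 1 ∧ b6 r' p = 0 ∧ b6 r' p' = 0 ∧ b6 s r' = 1 := by
      rcases zmod2_cases (q6 v') with e | e
      · refine ⟨v' + s, ?_, ?_, ?_, ?_⟩
        · rw [q6_add, e, hsq, b6_comm, hsv]; decide
        · rw [b6_add_left, hvp, hsp, add_zero]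
        · rw [b6_add_left, hvp', hsp', add_zero]
        · rw [b6_add_right, hsv, b6_self, add_zero]
      · exact ⟨v', e, hvp, hvp', hsv⟩
    have hrr' : b6 r r' = 1 := by
      have : r = s + p := by rw [hs, add_assoc, v6_add_self, add_zero]
      rw [this, b6_add_left, hr's, b6_comm p, hr'p, add_zero]
    obtain ⟨t, ht, hto, ht1, ht2, ht3⟩ := P.rot r r' hrq hr'q hrr'
    have htp : P.act t p = p := ht3 p (by rw [b6_comm]; exact hrp) (by rw [b6_comm]; exact hr'p)
    have htp' : P.act t p' = p'' := by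
      have hu1 : b6 (p' + r') r = 0 := by rw [b6_add_left, b6_comm p', hrp', b6_comm r', hrr']; decide
      have hu2 : b6 (p' + r') r' = 0 := by rw [b6_add_left, b6_comm p', hr'p', b6_self, add_zero]
      have he : p' = (p' + r') + r' := by rw [add_assoc, v6_add_self, add_zero]
      conv_lhs => rw [he, P.act_add ht, ht3 _ hu1 hu2, ht2]
      calc p' + r' + (r + r') = p' + r + (r' + r') := by abel
        _ = p'' := by rw [v6_add_self, add_zero, hr, ← add_assoc, v6_add_self, zero_add]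
    have hvt : P.vec (t * x * t⁻¹) = p := by rw [P.act_vec t ht x hx6]; exact htp
    have hfix : S.pq (t * x * t⁻¹) = S.pq x := by
      refine (P.pq_of_vec hx6 (S.oddFixCent_normal ht hx6) hvt.symm).resolve_right fun e => ?_
      rw [← S.pq_mul hx6.1 S.z1_mem] at e
      have hcom := mem_centralizer_singleton_iff.1 (S.odd_cent_one ht hto)
      rcases S.pq_eq (mul_mem hx6.1 S.z1_mem) (S.J_normal t ht x hx6.1) e.symm with e' | e'
      · exact S.z1_ne (odd_conj hto hcom S.z1_sq e')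
      · rw [mul_assoc x] at e'
        have hsq : S.z1 * S.z * (S.z1 * S.z) = 1 := by
          rw [mul_assoc, ← mul_assoc S.z, S.z_z1, mul_assoc, S.z_sq, mul_one, S.z1_sq]
        have := odd_conj hto (by rw [← mul_assoc, hcom, mul_assoc, S.z_comm ht, ← mul_assoc]) hsq e'
        exact S.z1_ne_z ((eq_inv_of_mul_eq_one_left this).trans (inv_eq_of_mul_eq_one_right S.z_sq))
    obtain ⟨hz6, -, g', q', hg', -, -, hcz⟩ := P.good_conj ht ⟨hx6, hq, g, p', hg, hp', hpp, hcx⟩
    -- the conjugated lift rotates the plane of `y`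
    have hconj : P.Rot (t * g * t⁻¹) p p'' := by
      have hti := inv_mem ht
      have hag : t * g * t⁻¹ ∈ centralizer ({S.z} : Set G) := mul_mem (mul_mem ht hg.1) hti
      have hact : ∀ v, P.act (t * g * t⁻¹) (P.act t v) = P.act t (P.act g v) := fun v => by
        rw [← P.act_mul hag ht, inv_mul_cancel_right, P.act_mul ht hg.1]
      refine ⟨hag, by rw [← MulAut.conj_apply, MulEquiv.orderOf_eq]; exact hg.2.1, ?_, ?_, fun v hv hv' => ?_⟩
      · conv_lhs => rw [← htp, hact, hg.2.2.1, htp']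
      · conv_lhs => rw [← htp', hact, hg.2.2.2.1, P.act_add ht, htp]
        rw [htp']
      · obtain ⟨u, rfl⟩ : ∃ u, P.act t u = v := ⟨_, P.act_inv ht v⟩
        rw [← htp, P.act_b ht] at hv
        rw [← htp', P.act_b ht] at hv'
        rw [hact, hg.2.2.2.2 u hv hv']
    have hsum : Com (S := S) (t * g * t⁻¹) (t * x * t⁻¹) := by
      have hgg := mul_mem hg.1 hg.1
      have hc0 : S.pq (x * (g * x * g⁻¹) * (g * g * x * (g * g)⁻¹)) = S.pq 1 := by
        rw [S.pq_mul (mul_mem hx6.1 (S.J_normal g hg.1 x hx6.1)) (S.J_normal _ hgg x hx6.1),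
          S.pq_mul hx6.1 (S.J_normal g hg.1 x hx6.1), (S.pq_zero (one_mem _)).2 (Or.inl rfl)]
        exact hcx
      have := S.pq_conj ht (mul_mem (mul_mem hx6.1 (S.J_normal g hg.1 x hx6.1)) (S.J_normal _ hgg x hx6.1))
        (one_mem _) hc0
      rw [mul_one, mul_inv_cancel, (S.pq_zero (one_mem _)).2 (Or.inl rfl), show t * (x * (g * x * g⁻¹) *
        (g * g * x * (g * g)⁻¹)) * t⁻¹ = t * x * t⁻¹ * (t * g * t⁻¹ * (t * x * t⁻¹) * (t * g * t⁻¹)⁻¹) *
        (t * g * t⁻¹ * (t * g * t⁻¹) * (t * x * t⁻¹) * (t * g * t⁻¹ * (t * g * t⁻¹))⁻¹) by group] at this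
      have hj := S.J_normal t ht x hx6.1
      have htg : t * g * t⁻¹ ∈ centralizer ({S.z} : Set G) := hconj.1
      rw [S.pq_mul (mul_mem hj (S.J_normal _ htg _ hj)) (S.J_normal _ (mul_mem htg htg) _ hj),
        S.pq_mul hj (S.J_normal _ htg _ hj)] at this
      exact this
    rw [← hfix]
    exact P.com_unique hconj hz6 hy6 (hvt.trans hv) hsum (P.com_transfer hh hconj hb hy6.1 hc)
  rcases zmod2_cases (b6 p' p'') with hb | hb
  · refine main (h * h) (p + p'') hh.sq ?_ ?_ (Com.sq hh hpp'' hy6.1 hcy) ?_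
    · rw [q6_add, hq, hp'', hpp'']; decide
    · rw [b6_add_right, b6_self, hpp'', zero_add]
    · rw [b6_add_right, b6_comm p', hpp, hb, add_zero]
  · exact main h p'' hh hp'' hpp'' hcy hb

/-- The subgroup generated by the good lifts and `z`. -/
def lifts : Subgroup G := closure ({x | P.Good x} ∪ {S.z})

theorem lifts_le : P.lifts ≤ S.oddFixCent := by
  rw [lifts, closure_le]
  rintro x (h | h)
  · exact h.1
  · rw [Set.mem_singleton_iff.1 h]
    exact Setup.RW.mem_oddFixCent (S := S) (Or.inr (Or.inl rfl))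

theorem z_mem_lifts : S.z ∈ P.lifts := subset_closure (Or.inr rfl)

theorem lifts_normal {g x : G} (hg : g ∈ centralizer ({S.z} : Set G)) (hx : x ∈ P.lifts) : g * x * g⁻¹ ∈ P.lifts := by
  induction hx using closure_induction with
  | mem x hx =>
    rcases hx with h | h
    · exact subset_closure (Or.inl (P.good_conj hg h))
    · rw [Set.mem_singleton_iff.1 h, S.z_comm hg, mul_inv_cancel_right]
      exact P.z_mem_lifts
  | one => rw [mul_one, mul_inv_cancel]; exact one_mem _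
  | mul a b _ _ ha hb => rw [← conj_mul]; exact mul_mem ha hb
  | inv a _ ha => rw [← conj_inv]; exact inv_mem ha

/-- The representative of each vector in `Q`, modulo `⟨z⟩`. -/
noncomputable def lmap (v : V6) : S.JQ :=
  ∑ j : Fin 6, (v j).val • S.pq (P.exists_good (p := Pi.single j 1) (single_q j)).choose

theorem lmap_add (v w : V6) : P.lmap (v + w) = P.lmap v + P.lmap w := by
  rw [lmap, lmap, lmap, ← Finset.sum_add_distrib]
  refine Finset.sum_congr rfl fun j _ => ?_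
  rcases zmod2_cases (v j) with h | h <;> rcases zmod2_cases (w j) with h' | h' <;>
    simp [Pi.add_apply, h, h', S.JQ_two, CharTwo.add_self_eq_zero, ZMod.val_one]

theorem lmap_zero : P.lmap 0 = 0 := by simp [lmap]

theorem good_lmap {x : G} (hx : P.Good x) : S.pq x = P.lmap (P.vec x) := by
  classical
  let ε : V6 → S.JQ := fun v =>
    if h : q6 v = 1 then S.pq (P.exists_good h).choose + P.lmap v else 0
  have hε : ∀ {y : G} (hy : P.Good y), ε (P.vec y) = S.pq y + P.lmap (P.vec y) := by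
    intro y hy
    simp only [ε, dif_pos hy.2.1]
    rw [P.good_unique (P.exists_good hy.2.1).choose_spec.1 hy (P.exists_good hy.2.1).choose_spec.2]
  have hz := eq_zero_of_planes S.JQ_two ε ?_ ?_ hx.2.1
  · rw [hε hx] at hz
    exact add_right_cancel (hz.trans (S.JQ_two _).symm)
  · intro p p' hp hp' hpp
    obtain ⟨g, hgr⟩ : ∃ g, P.Rot g p p' := P.rot p p' hp hp' hpp
    obtain ⟨y, hy, rfl⟩ := P.exists_good hp
    obtain ⟨hy6, -⟩ := id hy
    -- the good lift in the plane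
    obtain ⟨x0, hx0, hx0v⟩ := P.vec_surj (P.vec y)
    obtain ⟨u, hu6, huv, huc⟩ : ∃ u ∈ S.oddFixCent, P.vec u = P.vec y ∧ Com (S := S) g u := by
      rcases P.com_or hgr hx0 hx0v with h | h
      · exact ⟨x0, hx0, hx0v, h⟩
      · have hw : S.RW S.z1 := Or.inr (Or.inr (Or.inl rfl))
        refine ⟨x0 * S.z1, mul_mem hx0 hw.mem_oddFixCent, ?_, h⟩
        rw [P.vec_mul x0 hx0 _ hw.mem_oddFixCent, (P.vec_zero _ hw.mem_oddFixCent).2 hw, add_zero, hx0v]
    have hu : P.Good u := ⟨hu6, by rw [huv]; exact hy.2.1, g, p', by rw [huv]; exact hgr, hp',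
      by rw [huv]; exact hpp, huc⟩
    obtain ⟨hg, -, h1, h2, -⟩ := id hgr
    have hgg := mul_mem hg hg
    have e1 : P.vec (g * u * g⁻¹) = p' := by rw [P.act_vec g hg u hu6, huv, h1]
    have e2 : P.vec (g * g * u * (g * g)⁻¹) = P.vec y + p' := by
      rw [P.act_vec _ hgg u hu6, huv, P.act_mul hg hg, h1, h2]
    have f0 := hε hu
    have f1 := hε (P.good_conj hg hu)
    have f2 := hε (P.good_conj hgg hu)
    rw [huv] at f0
    rw [e1] at f1
    rw [e2] at f2
    rw [f0, f1, f2, P.lmap_add]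
    calc S.pq u + P.lmap (P.vec y) + (S.pq (g * u * g⁻¹) + P.lmap p') +
          (S.pq (g * g * u * (g * g)⁻¹) + (P.lmap (P.vec y) + P.lmap p'))
        = (S.pq u + S.pq (g * u * g⁻¹) + S.pq (g * g * u * (g * g)⁻¹)) +
          ((P.lmap (P.vec y) + P.lmap (P.vec y)) + (P.lmap p' + P.lmap p')) := by abel
      _ = 0 := by rw [show _ = (0 : S.JQ) from huc, S.JQ_two, S.JQ_two, zero_add, zero_add]
  · intro j
    have hj : q6 (Pi.single j 1 : V6) = 1 := single_q j
    simp only [ε, dif_pos hj]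
    rw [show P.lmap (Pi.single j 1) = S.pq (P.exists_good hj).choose by
      rw [lmap, Finset.sum_eq_single j]
      · simp [ZMod.val_one]
      · intro i _ hi; simp [hi]
      · intro h; exact absurd (Finset.mem_univ j) h]
    exact S.JQ_two _

theorem lifts_lmap {x : G} (hx : x ∈ P.lifts) : S.pq x = P.lmap (P.vec x) := by
  have hz : S.z ∈ S.oddFixCent := Setup.RW.mem_oddFixCent (S := S) (Or.inr (Or.inl rfl))
  induction hx using closure_induction with
  | mem x hx =>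
    rcases hx with h | h
    · exact P.good_lmap h
    · rw [Set.mem_singleton_iff.1 h, (S.pq_zero S.z_mem).2 (Or.inr rfl),
        (P.vec_zero _ hz).2 (Or.inr (Or.inl rfl)), P.lmap_zero]
  | one => rw [(S.pq_zero (one_mem _)).2 (Or.inl rfl), P.vec_one, P.lmap_zero]
  | mul a b ha hb iha ihb =>
    have ha' := P.lifts_le ha
    have hb' := P.lifts_le hb
    rw [S.pq_mul ha'.1 hb'.1, P.vec_mul a ha' b hb', P.lmap_add, iha, ihb]
  | inv a ha iha =>
    have ha' := P.lifts_le ha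
    rw [S.pq_inv ha'.1, P.vec_inv ha', iha]

theorem lifts_vec_zero {x : G} (hx : x ∈ P.lifts) : P.vec x = 0 ↔ x = 1 ∨ x = S.z := by
  have hx6 := P.lifts_le hx
  rw [← S.pq_zero hx6.1]
  constructor
  · intro h; rw [P.lifts_lmap hx, h, P.lmap_zero]
  · intro h
    refine (P.vec_zero x hx6).2 ?_
    rcases (S.pq_zero hx6.1).1 h with e | e
    exacts [Or.inl e, Or.inr (Or.inl e)]

theorem lifts_surj (v : V6) : ∃ x ∈ P.lifts, P.vec x = v := by
  classical
  have hmem : ∀ p, q6 p = 1 → ∃ x ∈ P.lifts, P.vec x = p := fun p hp =>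
    let ⟨x, hx, e⟩ := P.exists_good hp
    ⟨x, subset_closure (Or.inl hx), e⟩
  have key : ∀ s : Finset (Fin 6), ∃ x ∈ P.lifts, P.vec x = ∑ j ∈ s, v j • (Pi.single j 1 : V6) := by
    intro s
    induction s using Finset.induction_on with
    | empty => exact ⟨1, one_mem _, by rw [P.vec_one, Finset.sum_empty]⟩
    | @insert a s ha ih =>
      obtain ⟨x, hx, hxv⟩ := ih
      rw [Finset.sum_insert ha]
      rcases zmod2_cases (v a) with h | h <;> rw [h]
      · exact ⟨x, hx, by rw [zero_smul, zero_add, hxv]⟩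
      · obtain ⟨y, hy, hyv⟩ := hmem (Pi.single a 1) (single_q a)
        exact ⟨y * x, mul_mem hy hx, by rw [one_smul, P.vec_mul y (P.lifts_le hy) x (P.lifts_le hx), hyv, hxv]⟩
  obtain ⟨x, hx, e⟩ := key Finset.univ
  refine ⟨x, hx, e.trans ?_⟩
  funext i
  simp [Finset.sum_apply, Pi.single_apply]

end RedPre

end CfsgLib.Recog.Fi22Cent
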