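import Cfsg.Agent.Lib.Recog.Fi22Cent.RedBasic
import Cfsg.Agent.Lib.Recog.U6Cent.RedSquare

/-!
Two commuting conjugate involutions `z ≠ t`, both given by a `RedW`: the rank of `t` on the space of `z` is three
(after `U6Cent/RedPair.lean`).
-/

set_option autoImplicit false

namespace CfsgLib.Recog.Fi22Cent

open Subgroup U6Cent U6Cent.Red Module

variable {G : Type*} [Group G]

/-- An isometry fixing the orthogonal of a singular vector is trivial. -/
theorem fix_all_of_fix_perp {f : L6} (hf : Iso6 f) {u : V6} (hqu : q6 u = 0)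
    (fix_perp : ∀ x, b6 x u = 0 → f x = x) (x : V6) : f x = x := by
  rcases zmod2_cases (b6 x u) with hxu | hxu
  · exact fix_perp x hxu
  set m := f x + x with hm
  have hmW : ∀ v, b6 v m = b6 v u * b6 x m := by
    intro v
    have hv : b6 (v + b6 v u • x) u = 0 := by
      rw [b6_add_left, b6_smul_left, hxu, mul_one, CharTwo.add_self_eq_zero]
    have := hf.b6_fx (x := x) (fix_perp _ hv)
    rw [← hm, b6_add_left, b6_smul_left] at this
    exact CharTwo.add_eq_zero.1 this
  have hmu : m = b6 x m • u := by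
    refine v6_eq_of_add (eq_zero_of_b6 fun v => ?_)
    rw [b6_add_left, b6_smul_left, b6_comm m, b6_comm u, hmW v, mul_comm, CharTwo.add_self_eq_zero]
  rcases zmod2_cases (b6 x m) with h | h
  · rw [h, zero_smul] at hmu
    exact v6_eq_of_add hmu
  · exfalso
    rw [h, one_smul] at hmu
    have hxe : f x = u + x := by rw [← hmu, hm, add_assoc, v6_add_self, add_zero]
    have := hf x
    rw [hxe, q6_add, hqu, b6_comm u, hxu, zero_add] at this
    exact one_ne_zero (add_eq_left.1 this)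

namespace RedW

variable (R R' : RedW G)

/-- An element of `D` squaring to `z` and commuting with the square of a given element of `C(z) ∩ C(z₁)` whose
fourth power is trivial. -/
theorem exists_fixed {y : G} (hy : y ∈ R.C) (hy1 : y * R.z1 = R.z1 * y) (h4 : y * y * (y * y) = 1) :
    ∃ e ∈ R.D, e * e = R.z ∧ y * y * e = e * (y * y) := by
  obtain ⟨e, he, hez⟩ := R.D_four
  set c : G → G := fun x => y * x * y⁻¹ with hcdef
  have cm : ∀ a b, c (a * b) = c a * c b := fun a b => by simp only [hcdef]; group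
  have cD : ∀ x ∈ R.D, c x ∈ R.D := fun x hx => R.D_normal y hy x hx
  have cW : ∀ w, R.InW w → c w = w := fun w hw => hw.fixed hy hy1
  have csq : ∀ x, x * x = R.z → c x * c x = R.z := fun x hx => by
    rw [← cm, hx]; exact cW _ (Or.inr (Or.inl rfl))
  have fin : ∀ x ∈ R.D, x * x = R.z → ∀ w, R.InW w → c x = x * w →
      ∃ e ∈ R.D, e * e = R.z ∧ y * y * e = e * (y * y) := by
    intro x hx hxz w hw hcx
    refine ⟨x, hx, hxz, ?_⟩
    have h2 : c (c x) = x := by rw [hcx, cm, hcx, cW w hw, mul_assoc, hw.sq, mul_one]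
    calc y * y * x = c (c x) * (y * y) := by simp only [hcdef]; group
      _ = x * (y * y) := by rw [h2]
  have root_nW : ∀ x, x * x = R.z → ¬ R.InW x := fun x hx h => R.z_ne (hx.symm.trans h.sq)
  have hinv : ∀ x, x * x = R.z → x⁻¹ = x * R.z := fun x hx =>
    inv_eq_of_mul_eq_one_right (by rw [← mul_assoc, hx, R.z_sq])
  have hDJ : ∀ {x : G}, x ∈ R.D → x ∈ R.J := fun hx => R.D_le hx
  set f := c e with hf
  have hfD : f ∈ R.D := cD e he
  have hfz : f * f = R.z := csq e hez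
  rcases R.D_two he hfD hez hfz with h | h
  · refine fin e he hez (R.z * (e * f)) (InW.mul (Or.inr (Or.inl rfl)) h) ?_
    rw [← mul_assoc, ← mul_assoc, ← hez, show e * (e * e) * e * f = e * e * (e * e) * f by group, hez, R.z_sq,
      one_mul]
  have hg : ¬ R.InW (e * f) := root_nW _ h
  obtain ⟨w1, hw1, hfe⟩ : ∃ w1, R.InW w1 ∧ f * e = e * f * w1 := by
    rcases R.J_comm f (hDJ hfD) e (hDJ he) with hc | hc
    exacts [⟨1, Or.inl rfl, by rw [hc, mul_one]⟩, ⟨R.z, Or.inr (Or.inl rfl), hc⟩]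
  obtain ⟨a, ha, w, hw, hcf⟩ := R.D_span e he f hfD (root_nW e hez) (root_nW f hfz) hg (c f) (cD f hfD)
  have hcg : c (e * f) = f * c f := cm e f
  simp only [Set.mem_insert_iff, Set.mem_singleton_iff] at ha
  rcases ha with rfl | ha | ha | ha
  · exfalso
    rw [one_mul] at hcf
    exact root_nW _ (csq f hfz) (hcf ▸ hw)
  · -- the third class is fixed
    subst a
    refine fin (e * f) (mul_mem he hfD) h (w1 * w) (InW.mul hw1 hw) ?_
    rw [hcg, hcf, ← mul_assoc, hfe, mul_assoc]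
  · -- `c` is injective on classes
    subst a
    refine fin e he hez w hw ?_
    have cinj : ∀ p q, c p = c q → p = q := fun p q hpq => by
      simpa [hcdef] using hpq
    exact cinj f (e * w) (by rw [hcf, cm, cW w hw])
  · -- a three-cycle contradicts `c ^ 4 = 1`
    subst a
    exfalso
    have e3 : c (c (c e)) = e * (w1 * R.z) := by
      rw [← hf, hcf, cm, hcg, cW w hw, hcf]
      calc f * (e * f * w) * w = f * e * f * (w * w) := by group
        _ = e * f * (w1 * f) := by rw [InW.sq (R := R) hw, hfe]; group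
        _ = e * (f * f) * w1 := by rw [← hw1.comm (hDJ hfD)]; group
        _ = e * (w1 * R.z) := by rw [hfz, mul_assoc, ← R.comm_z (hDJ hw1.mem_D)]
    have hv : R.InW (w1 * R.z) := InW.mul hw1 (Or.inr (Or.inl rfl))
    have e4 : c (c (c (c e))) = e := by
      simp only [hcdef]
      calc y * (y * (y * (y * e * y⁻¹) * y⁻¹) * y⁻¹) * y⁻¹
          = (y * y * (y * y)) * e * (y * y * (y * y))⁻¹ := by group
        _ = e := by rw [h4]; group
    rw [e3, cm, cW _ hv, ← hf] at e4
    refine hg ?_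
    conv => arg 2; arg 1; rw [← e4]
    rw [mul_assoc, ← hv.comm (hDJ hfD), ← mul_assoc, hfz]
    exact InW.mul (Or.inr (Or.inl rfl)) hv

/-- An involution of `C(z)` which is isolated in the centralizer of an involution of `J` lies in `J`. -/
theorem mem_J_of_isolated {t w : G} (ht : t ∈ R.C) (h2 : t * t = 1) (hw : w ∈ R.J) (hww : w * w = 1)
    (htw : t * w = w * t)
    (hiso : ∀ g ∈ centralizer ({w} : Set G), Commute (g * t * g⁻¹) t → g * t * g⁻¹ = t) : t ∈ R.J := by
  have hinv : t⁻¹ = t := inv_eq_of_mul_eq_one_right h2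
  have hcent : ∀ j ∈ R.J, j * w = w * j → t * j = j * t := by
    intro j hj hjw
    set c := j * t * j⁻¹ * t with hc
    have hcJ : c ∈ R.J := by
      rw [hc, show j * t * j⁻¹ * t = j * (t * j⁻¹ * t) by group]
      refine mul_mem hj ?_
      have := R.J_normal t ht _ (inv_mem hj)
      rwa [hinv] at this
    have hcw : c ∈ centralizer ({w} : Set G) :=
      mul_mem (mul_mem (mul_mem (mem_cz.2 hjw) (mem_cz.2 htw)) (inv_mem (mem_cz.2 hjw))) (mem_cz.2 htw)
    have hct : j * t * j⁻¹ = c * t := by rw [hc, mul_assoc _ t t, h2, mul_one]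
    have htc : t * c * t = c⁻¹ := by
      refine eq_inv_of_mul_eq_one_left ?_
      have h' : c * t * (c * t) = 1 := by
        rw [← hct, show j * t * j⁻¹ * (j * t * j⁻¹) = j * (t * t) * j⁻¹ by group, h2, mul_one, mul_inv_cancel]
      calc t * c * t * c = c⁻¹ * (c * t * (c * t)) * c := by group
        _ = 1 := by rw [h', mul_one, inv_mul_cancel]
    rcases R.J_sq c hcJ with e | e
    · rw [inv_eq_of_mul_eq_one_right e] at htc
      have hcomm : c * t = t * c := by
        calc c * t = t * c * t * t := by rw [htc]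
          _ = t * c := by rw [mul_assoc _ t t, h2, mul_one]
      have := hiso j (mem_cz.2 hjw) (by
        rw [hct]; exact (show Commute c t from hcomm).mul_left (Commute.refl t))
      exact (mul_inv_eq_iff_eq_mul.1 this).symm
    · exfalso
      have e2 : c * t * c⁻¹ = R.z * t := by
        calc c * t * c⁻¹ = c * (t * c⁻¹ * t) * t⁻¹ := by group
          _ = c * (t * (t * c * t) * t) * t⁻¹ := by rw [htc]
          _ = c * (t * t * c * (t * t)) * t⁻¹ := by group
          _ = R.z * t := by rw [h2, one_mul, mul_one, e, hinv]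
      have := hiso c hcw (by
        rw [e2]; exact (show Commute R.z t from (mem_cz.1 ht).symm).mul_left (Commute.refl t))
      rw [e2, mul_eq_right] at this
      exact R.z_ne this
  refine R.act_one t ht fun v => (R.lin_apply ht v).symm.trans ?_
  obtain ⟨d, hd, q, hq, rfl⟩ := R.split w hw
  -- vectors orthogonal to that of `q` are fixed
  have fix_perp : ∀ v, b6 v (R.vec q) = 0 → R.lin t v = v := by
    intro v hv
    obtain ⟨x, hx, rfl⟩ := R.vec_surj v
    refine R.lin_fix ht hx (hcent x (R.Q_le_J hx) ?_)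
    rw [← mul_assoc, R.comm_D hx hd, mul_assoc, (R.comm_iff x hx q hq).2 hv, mul_assoc]
  by_cases hdW : R.InW d
  · have hqq : q * q = 1 := by
      calc q * q = d * d * (q * q) := by rw [hdW.sq, one_mul]
        _ = d * (d * q) * q := by group
        _ = d * (q * d) * q := by rw [R.comm_D hq hd]
        _ = d * q * (d * q) := by group
        _ = 1 := hww
    exact fix_all_of_fix_perp (R.lin_iso ht) ((R.sq_iff q hq).1 hqq) fix_perp v
  obtain ⟨d', hd', hdd⟩ : ∃ d' ∈ R.D, d * d' ≠ d' * d := by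
    by_contra hn
    push Not at hn
    exact hdW (R.D_cent d hd hn)
  rcases zmod2_cases (b6 v (R.vec q)) with hv | hv
  · exact fix_perp v hv
  obtain ⟨x, hx, rfl⟩ := R.vec_surj v
  have hdd' := (R.J_comm d' (R.D_le hd') d (R.D_le hd)).resolve_left fun e => hdd e.symm
  have hxq := (R.comm_or hx hq).resolve_left fun e => by
    rw [(R.comm_iff x hx q hq).1 e] at hv; exact zero_ne_one hv
  have hj : d' * x * (d * q) = d * q * (d' * x) := by
    calc d' * x * (d * q) = d' * (x * d) * q := by group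
      _ = d' * d * (x * q) := by rw [R.comm_D hx hd]; group
      _ = d * (d' * R.z) * (q * (x * R.z)) := by rw [hdd', hxq]; group
      _ = d * d' * (R.z * (q * x)) * R.z := by group
      _ = d * d' * (q * x * R.z) * R.z := by rw [R.comm_z (mul_mem (R.Q_le_J hq) (R.Q_le_J hx))]
      _ = d * (d' * q) * x * (R.z * R.z) := by group
      _ = d * q * (d' * x) := by rw [R.z_sq, mul_one, ← R.comm_D hq hd']; group
  have hjc := hcent _ (mul_mem (R.D_le hd') (R.Q_le_J hx)) hj
  have hxQ := R.conjQ ht hx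
  have hm : d'⁻¹ * (t * d' * t⁻¹) = x * (t * x * t⁻¹)⁻¹ := by
    rw [eq_mul_inv_iff_mul_eq]
    calc d'⁻¹ * (t * d' * t⁻¹) * (t * x * t⁻¹) = d'⁻¹ * (t * (d' * x)) * t⁻¹ := by group
      _ = d'⁻¹ * (d' * x * t) * t⁻¹ := by rw [hjc]
      _ = x := by group
  have h0 := R.vec_inter (mul_mem hx (inv_mem hxQ)) (hm ▸ mul_mem (inv_mem hd') (R.D_normal t ht d' hd'))
  rw [R.vec_mul x hx _ (inv_mem hxQ), R.vec_inv hxQ] at h0
  rw [R.lin_vec ht hx]
  exact (v6_eq_of_add h0).symm

variable {R R'}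

/-- If `t` has rank at most two for `z`, then `z` has rank zero or two for `t`. -/
theorem rk_swap (hc : R.z * R'.z = R'.z * R.z) (h : R.rk R'.z ≤ 2) : R'.rk R.z = 0 ∨ R'.rk R.z = 2 := by
  obtain ⟨y, hy, hyt, hyy⟩ := R.exists_sqrt (mem_cz.2 hc.symm) h
  have hy' : y ∈ R'.C := mem_cz.2 hyt.symm
  have hz' : R.z ∈ R'.C := mem_cz.2 hc
  have hg : ∀ v, R'.lin y (R'.lin y v) = R'.lin R.z v := fun v => by rw [← R'.lin_mul hy' hy', hyy]
  have h4 : ∀ v, R'.lin y (R'.lin y (R'.lin y (R'.lin y v))) = v := fun v => by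
    rw [hg, hg, R'.lin_invol hz' R.z_sq]
  have hs := square_rank (R'.lin_iso hy') h4
  have he : (R'.lin y).comp (R'.lin y) = R'.lin R.z := LinearMap.ext hg
  rw [he] at hs
  have h3 := R'.rk_le_three hz' R.z_sq
  simp only [rk] at h3 ⊢
  omega

/-- For `t ∉ J` of small rank: an element of `D'` centralizing `z` and the part of `Q` centralized by `t`,
with square `t`. -/
theorem exists_root (hc : R.z * R'.z = R'.z * R.z) (hr : R.rk R'.z ≤ 2) (h0 : R'.z ∉ R.J) :
    ∃ e ∈ R'.D, e ∈ R.C ∧ e * e = R'.z ∧ ∀ y ∈ R.Q, R'.z * y = y * R'.z → e * y = y * e := by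
  have ht : R'.z ∈ R.C := mem_cz.2 hc.symm
  obtain ⟨y, hy, hyt, hyy⟩ := R.exists_sqrt ht hr
  have hyC : y ∈ R'.C := mem_cz.2 hyt.symm
  -- `y'` commutes with `z` and with the fixed part of `Q`
  have hz1 : R'.z1 ∈ R.C := by
    refine mem_cz.2 ?_
    rw [← hyy]
    rcases R'.z1_conj y hyC with h | h
    · have h' := mul_inv_eq_iff_eq_mul.1 h
      rw [← mul_assoc, ← h', mul_assoc, ← h', ← mul_assoc]
    · have h' := mul_inv_eq_iff_eq_mul.1 h
      symm
      calc y * y * R'.z1 = y * (R'.z * R'.z1 * y) := by rw [mul_assoc, h']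
        _ = y * R'.z * (R'.z1 * y) := by group
        _ = R'.z * (y * R'.z1) * y := by rw [mem_cz.1 hyC]; group
        _ = R'.z * R'.z * R'.z1 * (y * y) := by rw [h']; group
        _ = R'.z1 * (y * y) := by rw [R'.z_sq, one_mul]
  have hfix : ∀ x ∈ R.Q, R'.z * x = x * R'.z → x * R'.z1 = R'.z1 * x := by
    intro x hx hxt
    rcases R'.z1_conj x (mem_cz.2 hxt.symm) with h | h
    · exact mul_inv_eq_iff_eq_mul.1 h
    · exfalso
      apply h0
      have : x * R'.z1 * x⁻¹ * R'.z1⁻¹ = R'.z := by rw [h, mul_inv_cancel_right]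
      rw [← this, show x * R'.z1 * x⁻¹ * R'.z1⁻¹ = x * (R'.z1 * x⁻¹ * R'.z1⁻¹) by group]
      exact mul_mem (R.Q_le_J hx) (R.J_normal _ hz1 _ (inv_mem (R.Q_le_J hx)))
  obtain ⟨e, he, hee, hec⟩ := R'.exists_fixed hyC (hfix y hy hyt) (by rw [hyy, R.z_sq])
  rw [hyy] at hec
  refine ⟨e, he, mem_cz.2 hec.symm, hee, fun x hx hxt => ?_⟩
  have hxC : x ∈ R'.C := mem_cz.2 hxt.symm
  set k := x * e * x⁻¹ * e⁻¹ with hk
  have hkJ : k ∈ R.J := by
    rw [hk, show x * e * x⁻¹ * e⁻¹ = x * (e * x⁻¹ * e⁻¹) by group]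
    exact mul_mem (R.Q_le_J hx) (R.J_normal e (mem_cz.2 hec.symm) _ (inv_mem (R.Q_le_J hx)))
  have hx2 : x * e * x⁻¹ * (x * e * x⁻¹) = R'.z := by
    rw [show x * e * x⁻¹ * (x * e * x⁻¹) = x * (e * e) * x⁻¹ by group, hee, mem_cz.1 hxC]
    group
  have hei : e⁻¹ = e * R'.z := inv_eq_of_mul_eq_one_right (by rw [← mul_assoc, hee, R'.z_sq])
  have hne : ∀ w, R'.InW w → w ∈ R.J → w ≠ 1 → False := by
    intro w hw hwJ hw1
    rcases hw with rfl | rfl | rfl | rfl
    · exact hw1 rfl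
    · exact h0 hwJ
    · exact h0 (R.mem_J_of_isolated ht R'.z_sq hwJ R'.z1_sq R'.z_z1 R'.iso1)
    · refine h0 (R.mem_J_of_isolated ht R'.z_sq hwJ (InW.sq (Or.inr (Or.inr (Or.inr rfl)))) ?_ R'.iso2)
      exact (InW.comm (Or.inr (Or.inr (Or.inr rfl))) (R'.D_le R'.z_mem))
  have h1 : k = 1 := by
    have hxD : x * e * x⁻¹ ∈ R'.D := R'.D_normal x hxC e he
    rcases R'.D_two hxD he hx2 hee with h | h
    · have hkW : R'.InW k := by
        rw [hk, hei, ← mul_assoc]
        exact h.mul (Or.inr (Or.inl rfl))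
      by_contra hne1
      exact hne k hkW hkJ hne1
    · exfalso
      apply h0
      have hkk : k * k = R'.z := by
        have hm := R'.D_le (mul_mem hxD he)
        rw [hk, hei, show x * e * x⁻¹ * (e * R'.z) * (x * e * x⁻¹ * (e * R'.z)) =
          x * e * x⁻¹ * e * (R'.z * (x * e * x⁻¹ * e)) * R'.z by group, ← R'.comm_z hm, ← mul_assoc, h,
          R'.z_sq, one_mul]
      rw [← hkk]
      exact mul_mem hkJ hkJ
  rw [hk, mul_inv_eq_one] at h1
  exact (mul_inv_eq_iff_eq_mul.1 h1).symm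

theorem exists_noncomm (hc : R.z * R'.z = R'.z * R.z) (hr : R.rk R'.z ≤ 2) :
    ∃ x ∈ R.Q, ∃ y ∈ R.Q, R'.z * x = x * R'.z ∧ R'.z * y = y * R'.z ∧ x * y = y * x * R.z := by
  have ht : R'.z ∈ R.C := mem_cz.2 hc.symm
  have hU := R.finrank_fixU ht
  suffices h : ∃ u ∈ R.fixU R'.z, ∃ w ∈ R.fixU R'.z, b6 u w = 1 by
    obtain ⟨_, ⟨x, hx, hxt, rfl⟩, _, ⟨y, hy, hyt, rfl⟩, hb⟩ := h
    refine ⟨x, hx, y, hy, hxt, hyt, (R.comm_or hx hy).resolve_left fun e => ?_⟩
    rw [(R.comm_iff x hx y hy).1 e] at hb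
    exact zero_ne_one hb
  by_cases h0 : R'.z ∈ R.J
  · by_contra hn
    push Not at hn
    have hle : R.fixU R'.z ≤ perp (R.fixU R'.z) := fun w hw =>
      mem_perp.2 fun u hu => (zmod2_cases _).resolve_right (hn u hu w hw)
    have := Submodule.finrank_mono hle
    rw [finrank_perp] at this
    rw [(R.rk_eq_zero ht).2 h0] at hU
    omega
  · obtain ⟨e, -, hec, hee, hey⟩ := exists_root hc hr h0
    refine noniso (e := R.lin e) (τ := R.lin R'.z) (R.lin_iso hec)
      (fun x => by rw [← R.lin_mul hec hec, hee]) ?_ (by omega) ?_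
    · rintro _ ⟨y, hy, hyt, rfl⟩
      exact R.lin_fix hec hy (hey y hy hyt)
    · by_contra hn
      push Not at hn
      exact h0 (R.act_one _ ht fun v => (R.lin_apply ht v).symm.trans (hn v))

theorem not_rk_two (hc : R.z * R'.z = R'.z * R.z) : R.rk R'.z ≠ 2 := by
  intro hr
  have ht : R'.z ∈ R.C := mem_cz.2 hc.symm
  have h0 : R'.z ∉ R.J := fun h => by rw [(R.rk_eq_zero ht).2 h] at hr; omega
  obtain ⟨e, he, hec, hee, hey⟩ := exists_root hc (by omega) h0
  have hr' : R'.rk R.z ≤ 2 := by rcases rk_swap hc (by omega) with h | h <;> omega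
  obtain ⟨a, ha, b, hb, haz, hbz, hab⟩ := exists_noncomm (R := R') (R' := R) hc.symm hr'
  have haC : a ∈ R.C := mem_cz.2 haz.symm
  have hbC : b ∈ R.C := mem_cz.2 hbz.symm
  have hU := R.finrank_fixU ht
  have stab : ∀ c ∈ R'.Q, c ∈ R.C → ∀ u ∈ R.fixU R'.z, R.lin c u ∈ R.fixU R'.z := fun c hc' hcC u hu =>
    R.fixU_stable hcC (R'.comm_z (R'.Q_le_J hc')) hu
  refine centralizer_contra (e := R.lin e) (τ := R.lin R'.z) (U := R.fixU R'.z) (a := R.lin a) (b := R.lin b)
    (R.lin_iso hec) (R.lin_iso ht) (R.lin_iso haC) (R.lin_iso hbC)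
    (fun x => by rw [← R.lin_mul hec hec, hee]) (R.lin_invol ht R'.z_sq) hr ?_ (by omega)
    (fun x => by rw [← R.lin_mul haC hec, ← R.lin_mul hec haC, R'.comm_D ha (he)])
    (fun x => by rw [← R.lin_mul hbC hec, ← R.lin_mul hec hbC, R'.comm_D hb (he)])
    (stab a ha haC) (stab b hb hbC) ?_
  · rintro _ ⟨y, hy, hyt, rfl⟩
    exact R.lin_fix hec hy (hey y hy hyt)
  · intro x
    rw [← R.lin_mul haC hbC, hab, mul_assoc b, R'.comm_z (R'.Q_le_J ha), ← mul_assoc, R'.comm_z (R'.Q_le_J hb), mul_assoc,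
      R.lin_mul ht (mul_mem hbC haC), R.lin_mul hbC haC]

/-- Elements of odd order cannot multiply an element by a central involution. -/
theorem odd_fix {σ w : G} (hσ : σ ∈ R.C) (ho : Odd (orderOf σ)) (h : σ * w * σ⁻¹ = w * R.z) : False := by
  have key : ∀ n : ℕ, σ ^ n * w * (σ ^ n)⁻¹ = w * R.z ^ n := by
    intro n
    induction n with
    | zero => simp
    | succ n ih =>
      calc σ ^ (n + 1) * w * (σ ^ (n + 1))⁻¹ = σ * (σ ^ n * w * (σ ^ n)⁻¹) * σ⁻¹ := by rw [pow_succ']; group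
        _ = σ * w * σ⁻¹ * (σ * R.z ^ n * σ⁻¹) := by rw [ih]; group
        _ = w * R.z * R.z ^ n := by
          rw [h, ((show Commute σ R.z from mem_cz.1 hσ).pow_right n).eq]; group
        _ = w * R.z ^ (n + 1) := by rw [pow_succ', mul_assoc]
  have h' := key (orderOf σ)
  obtain ⟨k, hk⟩ := ho
  rw [pow_orderOf_eq_one, hk, pow_succ, pow_mul, pow_two, R.z_sq, one_pow, one_mul] at h'
  simp at h'
  exact R.z_ne h'

/-- `t ∈ J`, `z ∈ J'`: each plane orthogonal to `t` gives a commutator in `C(D') ∩ J`. -/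
theorem exists_comm_elt (hc : R.z * R'.z = R'.z * R.z) (ht : R'.z ∈ R.J) {d w : G} (hd : d ∈ R.D) (hw : w ∈ R.Q)
    (hdw : R'.z = d * w) {p p' : V6} (hp : q6 p = 1) (hp' : q6 p' = 1) (hpp : b6 p p' = 1)
    (hpu : b6 p (R.vec w) = 0) (hpu' : b6 p' (R.vec w) = 0) :
    ∃ c ∈ R.Q, c ∈ centralizer (R'.D : Set G) ∧ R'.z * c = c * R'.z ∧ R.vec c = p + p' := by
  obtain ⟨σ, hσ, ho, h1, h2, h3⟩ := R.rot p p' hp hp' hpp
  have hσd : σ * d = d * σ := (mem_centralizer_iff.1 (R.odd_cent σ hσ ho) d hd).symm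
  have hσw : σ * w * σ⁻¹ = w := by
    refine (R.vec_eq (R.conjQ hσ hw) hw ?_).resolve_right fun e => odd_fix hσ ho e
    rw [R.act_vec σ hσ w hw]
    exact h3 _ (by rw [b6_comm]; exact hpu) (by rw [b6_comm]; exact hpu')
  have hσt : σ ∈ R'.C := by
    refine mem_cz.2 ?_
    rw [hdw]
    calc σ * (d * w) = σ * d * w := by group
      _ = d * (σ * w * σ⁻¹) * σ := by rw [hσd]; group
      _ = d * w * σ := by rw [hσw]
  have hσD := R'.odd_cent σ hσt ho
  obtain ⟨a, ha, hap⟩ := R.vec_surj p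
  have haw : a * w = w * a := (R.comm_iff a ha w hw).2 (by rw [hap]; exact hpu)
  have had : a * d = d * a := R.comm_D ha hd
  have hat : a ∈ R'.C := by
    refine mem_cz.2 ?_
    rw [hdw, ← mul_assoc, had, mul_assoc, haw, ← mul_assoc]
  refine ⟨a * (σ * a⁻¹ * σ⁻¹), mul_mem ha (R.conjQ hσ (inv_mem ha)), ?_, ?_, ?_⟩
  · rw [show a * (σ * a⁻¹ * σ⁻¹) = (a * σ * a⁻¹) * σ⁻¹ by group]
    refine mul_mem (conj_mem_centralizer hσD fun x hx => ?_) (inv_mem hσD)
    simpa using R'.D_normal a⁻¹ (inv_mem hat) x hx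
  · exact (mem_cz.1 (mul_mem hat (mul_mem (mul_mem hσt (inv_mem hat)) (inv_mem hσt)) : _ ∈ R'.C)).symm
  · rw [R.vec_mul a ha _ (R.conjQ hσ (inv_mem ha)), R.act_vec σ hσ _ (inv_mem ha), R.vec_inv ha, hap, h1]

theorem z_cent_D (hc : R.z * R'.z = R'.z * R.z) (ht : R'.z ∈ R.J) :
    R.z ∈ centralizer (R'.D : Set G) := by
  obtain ⟨d, hd, w, hw, hdw⟩ := R.split _ ht
  obtain ⟨p, hp, hpu, p', hp', hpu', hpp⟩ := plane_perp (R.vec w)
  obtain ⟨c, hc6, hcD, -, hcv⟩ := exists_comm_elt hc ht hd hw hdw hp hp' hpp hpu hpu'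
  rw [← R.sq_z hc6 (by rw [hcv, q6_add, hp, hp', hpp]; decide)]
  exact mul_mem hcD hcD

/-- `z` and `t` avoid each other's pairs `z₁`, `z z₁`. -/
def Apart (R R' : RedW G) : Prop :=
  (R'.z ≠ R.z1 ∧ R'.z ≠ R.z * R.z1) ∧ R.z ≠ R'.z1 ∧ R.z ≠ R'.z * R'.z1

theorem Apart.symm (h : Apart R R') : Apart R' R := ⟨h.2, h.1⟩

theorem apart_conj (R : RedW G) (g h : G) : Apart (R.conj g) (R.conj h) := by
  have key : ∀ a b : G, (R.conj b).z ≠ (R.conj a).z1 ∧ (R.conj b).z ≠ (R.conj a).z * (R.conj a).z1 := by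
    intro a b
    simp only [conj_z, conj_z1]
    constructor <;> intro e
    · refine R.nz1 (a⁻¹ * b) ?_
      calc a⁻¹ * b * R.z * (a⁻¹ * b)⁻¹ = a⁻¹ * (b * R.z * b⁻¹) * a := by group
        _ = R.z1 := by rw [e]; group
    · refine R.nz2 (a⁻¹ * b) ?_
      calc a⁻¹ * b * R.z * (a⁻¹ * b)⁻¹ = a⁻¹ * (b * R.z * b⁻¹) * a := by group
        _ = R.z * R.z1 := by rw [e]; group
  exact ⟨key g h, key h g⟩

theorem apart_self_conj (R : RedW G) (h : G) : Apart R (R.conj h) := by
  have := R.apart_conj 1 h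
  simpa [Apart, conj_z, conj_z1] using this

theorem not_rk_zero (hc : R.z * R'.z = R'.z * R.z) (hne : R'.z ≠ R.z) (hap : Apart R R') :
    R.rk R'.z ≠ 0 := by
  intro hr
  have ht : R'.z ∈ R.C := mem_cz.2 hc.symm
  have hz : R.z ∈ R'.C := mem_cz.2 hc
  have hJ : R'.z ∈ R.J := (R.rk_eq_zero ht).1 hr
  have hr' : R'.rk R.z = 0 :=
    (rk_swap hc (by omega)).resolve_right (not_rk_two (R := R') (R' := R) hc.symm)
  have hzD := z_cent_D hc hJ
  have htD := z_cent_D (R := R') (R' := R) hc.symm ((R'.rk_eq_zero hz).1 hr')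
  obtain ⟨d, hd, q, hq, hdq⟩ := R.split _ hJ
  have hdW : R.InW d := by
    refine R.D_cent d hd fun x hx => ?_
    have h1 : x * R'.z = R'.z * x := mem_centralizer_iff.1 htD x hx
    rw [hdq] at h1
    refine mul_right_cancel (b := q) ?_
    calc d * x * q = d * (x * q) := by group
      _ = d * (q * x) := by rw [R.comm_D hq hx]
      _ = d * q * x := by group
      _ = x * (d * q) := h1.symm
      _ = x * d * q := by group
  set u := R.vec q with hu
  have hqu : q6 u = 0 := by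
    refine (R.sq_iff q hq).1 ?_
    calc q * q = d * d * (q * q) := by rw [hdW.sq, one_mul]
      _ = d * (d * q) * q := by group
      _ = d * (q * d) * q := by rw [R.comm_D hq hd]
      _ = d * q * (d * q) := by group
      _ = 1 := by rw [← hdq, R'.z_sq]
  have hu0 : u ≠ 0 := fun h => by
    have hW : R.InW R'.z := by
      rw [hdq]
      rcases (R.vec_zero q hq).1 h with e | e <;> rw [e]
      exacts [hdW.mul (Or.inl rfl), hdW.mul (Or.inr (Or.inl rfl))]
    rcases hW with h | h | h | h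
    exacts [R'.z_ne h, hne h, hap.1.1 h, hap.1.2 h]
  obtain ⟨e, heD, hee⟩ := R'.D_four
  have hec : e ∈ R.C := mem_cz.2 (mem_centralizer_iff.1 hzD e heD)
  have heJ : e ∉ R.J := fun h => by
    rcases R.J_sq e h with h' | h' <;> rw [hee] at h'
    · exact R'.z_ne h'
    · exact hne h'
  have fix_one : ∀ x, q6 x = 1 → b6 x u = 0 → R.lin e x = x := by
    intro x hx hxu
    obtain ⟨p, hp, hpu, hxp⟩ := partner u hqu hu0 x hx hxu
    obtain ⟨c, hc6, hcD, -, hcv⟩ := exists_comm_elt hc hJ hd hq hdq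
      (p := p) (p' := x + p) hp
      (by rw [q6_add, hx, hp, hxp]; decide)
      (by rw [b6_add_right, b6_self, add_zero, b6_comm, hxp]) hpu
      (by rw [← hu, b6_add_left, hxu, hpu, add_zero])
    have hcv' : R.vec c = x := by rw [hcv, add_comm x p, ← add_assoc, v6_add_self, zero_add]
    rw [← hcv']
    exact R.lin_fix hec hc6 (mem_centralizer_iff.1 hcD e heD)
  have fix_perp : ∀ x, b6 x u = 0 → R.lin e x = x := by
    intro x hxu
    rcases zmod2_cases (q6 x) with hx | hx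
    · obtain ⟨a, ha, hau, hxa⟩ := sum_one u hqu hu0 x hx hxu
      have h1 := fix_one a ha hau
      have h2 := fix_one (x + a) hxa (by rw [b6_add_left, hxu, hau, add_zero])
      rw [map_add, h1] at h2
      exact add_right_cancel h2
    · exact fix_one x hx hxu
  apply heJ
  refine R.act_one e hec fun x => ?_
  rw [← R.lin_apply hec]
  exact fix_all_of_fix_perp (R.lin_iso hec) hqu fix_perp x

/-- Distinct commuting `z`, `t` are of rank three. -/
theorem rk_eq_three (hc : R.z * R'.z = R'.z * R.z) (hne : R'.z ≠ R.z) (hap : Apart R R') :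
    R.rk R'.z = 3 := by
  have ht : R'.z ∈ R.C := mem_cz.2 hc.symm
  have h3 := R.rk_le_three ht R'.z_sq
  by_contra h
  have hr : R.rk R'.z ≤ 2 := by omega
  rcases rk_swap hc hr with h' | h'
  · exact not_rk_zero (R := R') (R' := R) hc.symm hne.symm hap.symm h'
  · exact not_rk_two (R := R') (R' := R) hc.symm h'

end RedW

end CfsgLib.Recog.Fi22Cent
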