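import Cfsg.Agent.Lib.Recog.Fi22Cent.SetupFacts
import Cfsg.Agent.Lib.Transfer.ClassTwo
import Cfsg.Agent.Lib.StructC.BurnsideBasis
import Cfsg.Prelude.Def_TwoFusion
import Cfsg.Prelude.Def_Transfer

/-!
`Setup` from the hypotheses on `O₂(C(z))`.
-/

set_option autoImplicit false
set_option linter.unusedSectionVars false

namespace CfsgLib.Recog.Fi22Cent

open Subgroup Cfsg
open scoped commutatorElement

variable {G : Type*} [Group G] [Finite G] {F : Type*} [Field F] [Fintype F]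

theorem exists_setup (hF : Fintype.card F = 4) (z : G) (hz : orderOf z = 2)
    (H : Subgroup G) (hH : H = centralizer ({z} : Set G)) (Jc : Subgroup H) (hJn : Jc.Normal)
    (A E : Subgroup H) (hAE : IsInternalDirectProduct A E Jc) (hA : Nat.card A = 2)
    (hE : IsExtraspecial 2 E) (hEc : Nat.card E = 2 ^ 9) (zc : H) (hzc : (zc : G) = z)
    (hJ' : ⁅Jc, Jc⁆ = zpowers zc) (hCJ : centralizer (Jc : Set H) ≤ Jc)
    {Q : Type*} [Group Q] (q : H →* Q) (hq : Function.Surjective q) (hker : q.ker = Jc)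
    (N0 : Subgroup Q) [N0.Normal] (ι : N0 ≃* SU 4 F 2) (hidx : N0.index = 2)
    (hfaith : ∀ a, (∀ b ∈ N0, a * b = b * a) → a = 1) :
    ∃ S : Setup G F, S.z = z ∧ S.J = Jc.map H.subtype ∧ ∀ a ∈ A, a ≠ 1 → (a : G) = S.z1 := by
  classical
  haveI : Fact (Nat.Prime 2) := ⟨Nat.prime_two⟩
  obtain ⟨hAJ, hEJ, hcomm, hdisj, hsup⟩ := hAE
  have hzz : zc * zc = 1 := by
    apply Subtype.ext
    show (zc : G) * zc = 1
    rw [hzc, ← pow_two, ← hz, pow_orderOf_eq_one]
  have hzc1 : zc ≠ 1 := fun e => by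
    rw [← hzc, e, OneMemClass.coe_one, orderOf_one] at hz
    norm_num at hz
  have hzcen : ∀ x : H, x * zc = zc * x := fun x => Subtype.ext (by
    show (x : G) * zc = zc * x
    rw [hzc]
    exact mem_centralizer_singleton_iff.1 (hH ▸ x.2))
  have hdec : ∀ x ∈ Jc, ∃ a ∈ A, ∃ e ∈ E, x = a * e := by
    intro x hx
    rw [← hsup, ← SetLike.mem_coe, coe_mul_of_left_le_normalizer_right A E ?_] at hx
    · obtain ⟨a, ha, e, he, rfl⟩ := hx
      exact ⟨a, ha, e, he, rfl⟩
    · intro a ha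
      refine mem_normalizer_iff.2 fun e => ⟨fun he => ?_, fun he => ?_⟩
      · rwa [hcomm a ha e he, mul_inv_cancel_right]
      · have h := hcomm a ha _ he
        have h2 : a * e * a⁻¹ = e := by
          have := congrArg (fun t => a⁻¹ * t) h
          simp only [mul_assoc, inv_mul_cancel_left, inv_mul_cancel, mul_one] at this
          simpa [mul_assoc] using this
        rwa [h2] at he
  -- the derived group lies in `E`
  have hder : ⁅Jc, Jc⁆ ≤ E := by
    rw [commutator_le]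
    intro x hx y hy
    obtain ⟨a, ha, e, he, rfl⟩ := hdec x hx
    obtain ⟨b, hb, f, hf, rfl⟩ := hdec y hy
    have hab : a * b = b * a := by
      obtain ⟨g, hg⟩ := (isCyclic_of_prime_card hA).exists_generator
      obtain ⟨m, hm⟩ := hg ⟨a, ha⟩
      obtain ⟨n, hn⟩ := hg ⟨b, hb⟩
      have h1 := congrArg Subtype.val hm
      have h2 := congrArg Subtype.val hn
      simp only [coe_zpow] at h1 h2
      rw [← h1, ← h2, ← zpow_add, ← zpow_add, add_comm]
    have hae : ∀ u ∈ A, ∀ v ∈ E, Commute u v := fun u hu v hv => hcomm u hu v hv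
    have e1 : a * e * (b * f) = a * b * (e * f) := by
      rw [mul_assoc, ← mul_assoc e b, ← (hae b hb e he).eq, mul_assoc b e, ← mul_assoc]
    have e2 : b * f * (a * e) = a * b * (f * e) := by
      rw [mul_assoc, ← mul_assoc f a, ← (hae a ha f hf).eq, mul_assoc a f, ← mul_assoc, hab]
    have hc : ⁅a * e, b * f⁆ = e * f * (f * e)⁻¹ := by
      have h3 : ⁅a * e, b * f⁆ * (b * f * (a * e)) = a * e * (b * f) := by
        rw [commutatorElement_def]; group
      rw [e1, e2] at h3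
      have h4 : Commute (a * b) (e * f * (f * e)⁻¹) :=
        hae _ (mul_mem ha hb) _ (mul_mem (mul_mem he hf) (inv_mem (mul_mem hf he)))
      rw [eq_mul_inv_of_mul_eq h3]
      calc a * b * (e * f) * (a * b * (f * e))⁻¹ = a * b * (e * f * (f * e)⁻¹) * (a * b)⁻¹ := by group
        _ = e * f * (f * e)⁻¹ := by rw [h4.eq, mul_inv_cancel_right]
    rw [hc]
    exact mul_mem (mul_mem he hf) (inv_mem (mul_mem hf he))
  have hzE : zc ∈ E := hder (hJ' ▸ mem_zpowers zc)
  have hZE : ∀ e : E, e ∈ Subgroup.center E ↔ (e : H) = 1 ∨ (e : H) = zc := by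
    have hsub : (({1, ⟨zc, hzE⟩} : Finset E) : Set E) ⊆ (Subgroup.center E : Set E) := by
      intro e he
      simp only [Finset.coe_insert, Finset.coe_singleton, Set.mem_insert_iff, Set.mem_singleton_iff] at he
      rcases he with rfl | rfl
      · exact one_mem _
      · exact mem_center_iff.2 fun u => Subtype.ext (hzcen u)
    have heq := Set.eq_of_subset_of_ncard_le hsub (by
      rw [Set.ncard_coe_finset, Finset.card_pair (fun e => hzc1 (congrArg Subtype.val e).symm),
        ← Nat.card_coe_set_eq]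
      exact le_of_eq hE.2) (Set.toFinite _)
    intro e
    rw [← SetLike.mem_coe, ← heq]
    simp only [Finset.coe_insert, Finset.coe_singleton, Set.mem_insert_iff, Set.mem_singleton_iff, Subtype.ext_iff, OneMemClass.coe_one]
  obtain ⟨a0, ha0, ha01⟩ : ∃ a ∈ A, a ≠ 1 := by
    obtain ⟨⟨a, ha⟩, h⟩ := ne_bot_iff_exists_ne_one.1 (fun e : A = ⊥ => by rw [e, card_bot] at hA; norm_num at hA)
    exact ⟨a, ha, fun e => h (Subtype.ext e)⟩
  have hA2 : ∀ a ∈ A, a = 1 ∨ a = a0 := by
    intro a ha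
    obtain ⟨u, v, -, huv⟩ := Nat.card_eq_two_iff.1 hA
    have hm : ∀ x : A, x = u ∨ x = v := fun x => by
      have := huv.symm.subset (Set.mem_univ x)
      simpa using this
    rcases hm ⟨a, ha⟩ with h | h <;> rcases hm 1 with h1 | h1 <;> rcases hm ⟨a0, ha0⟩ with h0 | h0
    all_goals first
      | exact Or.inl (congrArg Subtype.val (h.trans h1.symm))
      | exact Or.inr (congrArg Subtype.val (h.trans h0.symm))
      | exact absurd (congrArg Subtype.val (h0.trans h1.symm)) ha01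
  have ha0z : a0 ≠ zc := fun e => ha01 (by
    have : a0 ∈ A ⊓ E := mem_inf.2 ⟨ha0, e ▸ hzE⟩
    rwa [hdisj, mem_bot] at this)
  have ha0sq : a0 * a0 = 1 := by
    rcases hA2 _ (mul_mem ha0 ha0) with h | h
    · exact h
    · exact absurd (mul_eq_left.1 h) ha01
  have ha0c : ∀ x ∈ Jc, x * a0 = a0 * x := by
    intro x hx
    obtain ⟨a, ha, e, he, rfl⟩ := hdec x hx
    rcases hA2 a ha with rfl | rfl
    · rw [one_mul, hcomm a0 ha0 e he]
    · rw [mul_assoc, ← hcomm a ha e he]
  have hcenter : ∀ x ∈ Jc, (∀ y ∈ Jc, x * y = y * x) → x = 1 ∨ x = zc ∨ x = a0 ∨ x = zc * a0 := by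
    intro x hx h
    obtain ⟨a, ha, e, he, rfl⟩ := hdec x hx
    have hec : (⟨e, he⟩ : E) ∈ Subgroup.center E := mem_center_iff.2 fun u => Subtype.ext (by
      have h1 := h u (hEJ u.2)
      rw [mul_assoc, ← mul_assoc (u : H), ← hcomm a ha u u.2, mul_assoc a] at h1
      exact (mul_left_cancel h1).symm)
    rcases (hZE _).1 hec with h1 | h1 <;> change e = _ at h1 <;> subst h1 <;> rcases hA2 a ha with rfl | rfl
    · exact Or.inl (mul_one _)
    · exact Or.inr (Or.inr (Or.inl (mul_one _)))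
    · exact Or.inr (Or.inl (one_mul _))
    · exact Or.inr (Or.inr (Or.inr (hzcen a)))
  have hsq : ∀ x ∈ Jc, x * x = 1 ∨ x * x = zc := by
    intro x hx
    obtain ⟨a, ha, e, he, rfl⟩ := hdec x hx
    have haa : a * a = 1 := by rcases hA2 a ha with rfl | rfl; exacts [one_mul 1, ha0sq]
    have h2 : a * e * (a * e) = e * e := by
      rw [mul_assoc, ← mul_assoc e a, ← hcomm a ha e he, mul_assoc a e, ← mul_assoc, haa, one_mul]
    rw [h2]
    have h3 := CfsgLib.StructC.pow_mem_frattini hE.1.1 (⟨e, he⟩ : E)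
    rw [hE.1.2.1] at h3
    simpa [pow_two] using (hZE _).1 h3
  have hcomm' : ∀ x ∈ Jc, ∀ y ∈ Jc, x * y = y * x ∨ x * y = y * x * zc := by
    intro x hx y hy
    have h : ⁅x, y⁆ ∈ zpowers zc := hJ' ▸ commutator_mem_commutator hx hy
    have e : x * y = ⁅x, y⁆ * (y * x) := by rw [commutatorElement_def]; group
    obtain ⟨k, hk⟩ := mem_zpowers_iff.1 h
    have ho : orderOf zc = 2 := orderOf_eq_prime (by rw [pow_two, hzz]) hzc1
    rw [zpow_mod_orderOf _ k |>.symm, ho] at hk
    rcases Int.emod_two_eq_zero_or_one k with e' | e' <;> norm_num [e'] at hk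
    · exact Or.inl (by rw [e, ← hk, one_mul])
    · exact Or.inr (by rw [e, ← hk, hzcen])
  have hcardJc : Nat.card Jc = 1024 := by
    have hbij : Function.Bijective (fun p : A × E => (⟨(p.1 : H) * p.2, mul_mem (hAJ p.1.2) (hEJ p.2.2)⟩ : Jc)) := by
      constructor
      · rintro ⟨a, e⟩ ⟨b, f⟩ h
        have h' : (a : H) * e = b * f := congrArg Subtype.val h
        have hm : (b : H)⁻¹ * a ∈ A ⊓ E := mem_inf.2 ⟨mul_mem (inv_mem b.2) a.2, by
          rw [show (b : H)⁻¹ * a = (b : H)⁻¹ * ((a : H) * e) * (e : H)⁻¹ by group, h', inv_mul_cancel_left]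
          exact mul_mem f.2 (inv_mem e.2)⟩
        rw [hdisj, mem_bot, inv_mul_eq_one] at hm
        have hab : a = b := Subtype.ext hm.symm
        subst hab
        exact Prod.ext rfl (Subtype.ext (mul_left_cancel h'))
      · rintro ⟨x, hx⟩
        obtain ⟨a, ha, e, he, rfl⟩ := hdec x hx
        exact ⟨(⟨a, ha⟩, ⟨e, he⟩), rfl⟩
    rw [← Nat.card_congr (Equiv.ofBijective _ hbij), Nat.card_prod, hA, hEc]
    norm_num
  -- into `G`
  let J : Subgroup G := Jc.map H.subtype
  let K : Subgroup G := (N0.comap q).map H.subtype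
  have hmemJ : ∀ (x : G) (hx : x ∈ H), x ∈ J ↔ (⟨x, hx⟩ : H) ∈ Jc := fun x hx =>
    mem_map_iff_mem H.subtype_injective (x := (⟨x, hx⟩ : H))
  have hmemK : ∀ (x : G) (hx : x ∈ H), x ∈ K ↔ q ⟨x, hx⟩ ∈ N0 := fun x hx =>
    mem_map_iff_mem H.subtype_injective (x := (⟨x, hx⟩ : H))
  have hJH : J ≤ H := map_subtype_le _
  have hKH : K ≤ H := map_subtype_le _
  let ψ : K →* SU 4 F 2 := ι.toMonoidHom.comp
    ((q.comp (inclusion hKH)).codRestrict N0 fun g => (hmemK g (hKH g.2)).1 g.2)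
  have ψ_ker : ∀ g : K, ψ g = 1 ↔ (g : G) ∈ J := fun g => by
    rw [hmemJ _ (hKH g.2), ← hker, MonoidHom.mem_ker]
    simp only [ψ, MonoidHom.comp_apply, MulEquiv.coe_toMonoidHom, map_eq_one_iff ι ι.injective]
    exact Subtype.ext_iff
  have ψ_surj : Function.Surjective ψ := fun s => by
    obtain ⟨⟨x, hx⟩, e⟩ := hq (ι.symm s : Q)
    refine ⟨⟨x, (hmemK x hx).2 (e ▸ (ι.symm s).2)⟩, ?_⟩
    simp only [ψ, MonoidHom.comp_apply, MulEquiv.coe_toMonoidHom]
    rw [← ι.eq_symm_apply]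
    exact Subtype.ext e
  have hJK : J ≤ K := fun x hx => by
    have h := (hmemJ x (hJH hx)).1 hx
    rw [← hker, MonoidHom.mem_ker] at h
    exact (hmemK x (hJH hx)).2 (h ▸ one_mem _)
  have cardJ : Nat.card J = 1024 := by
    rw [← Nat.card_congr (Jc.equivMapOfInjective H.subtype H.subtype_injective).toEquiv, hcardJc]
  have cardN : Nat.card N0 = 25920 := by rw [Nat.card_congr ι.toEquiv, U6Cent.card_su_four hF]
  have cardH : Nat.card H = 53084160 := by
    have h := card_eq_card_quotient_mul_card_subgroup q.ker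
    rw [Nat.card_congr (QuotientGroup.quotientKerEquivOfSurjective q hq).toEquiv, hker, hcardJc,
      ← N0.index_mul_card, cardN, hidx] at h
    rw [h]
  have cardK : Nat.card K = 26542080 := by
    have h := card_eq_card_quotient_mul_card_subgroup ψ.ker
    rw [Nat.card_congr (QuotientGroup.quotientKerEquivOfSurjective ψ ψ_surj).toEquiv, U6Cent.card_su_four hF,
      show ψ.ker = J.subgroupOf K from Subgroup.ext fun g => by
        rw [MonoidHom.mem_ker, mem_subgroupOf]; exact ψ_ker g,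
      Nat.card_congr (subgroupOfEquivOfLe hJK).toEquiv, cardJ] at h
    rw [h]
  have hconj1 : ∀ g : H, g * a0 * g⁻¹ = a0 ∨ g * a0 * g⁻¹ = zc * a0 := by
    intro g
    have hm : g * a0 * g⁻¹ ∈ Jc := hJn.conj_mem _ (hAJ ha0) g
    rcases hcenter _ hm (fun y hy => by
      have hy' : g⁻¹ * y * g ∈ Jc := by simpa using hJn.conj_mem y hy g⁻¹
      calc g * a0 * g⁻¹ * y = g * (a0 * (g⁻¹ * y * g)) * g⁻¹ := by group
        _ = g * (g⁻¹ * y * g * a0) * g⁻¹ := by rw [← ha0c _ hy']
        _ = y * (g * a0 * g⁻¹) := by group) with h | h | h | h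
    · exact absurd (conj_eq_one_iff.1 h) ha01
    · rw [mul_inv_eq_iff_eq_mul, ← hzcen] at h
      exact absurd (mul_left_cancel h) ha0z
    · exact Or.inl h
    · exact Or.inr h
  have hKc : K ≤ centralizer ({(a0 : G)} : Set G) := by
    haveI := su_four_simple (F := F) hF
    haveI : Finite (SU 4 F 2) := Finite.of_surjective _ ψ_surj
    let M : Subgroup K := (centralizer ({(a0 : G)} : Set G)).subgroupOf K
    have hfix : ∀ g : H, g * a0 * g⁻¹ = a0 → g * (zc * a0) * g⁻¹ = zc * a0 := fun g h => by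
      rw [← mul_assoc g, hzcen g, mul_assoc zc, mul_assoc zc, h]
    have hM : ∀ k : K, k ∈ M ↔ (⟨k, hKH k.2⟩ : H) * a0 * (⟨k, hKH k.2⟩ : H)⁻¹ = a0 := fun k => by
      rw [mem_subgroupOf, mem_centralizer_singleton_iff, mul_inv_eq_iff_eq_mul, Subtype.ext_iff]
      rfl
    haveI : M.Normal := ⟨fun m hm k => by
      rw [hM] at hm ⊢
      have e : (⟨((k * m * k⁻¹ : K) : G), hKH (k * m * k⁻¹).2⟩ : H) =
          ⟨k, hKH k.2⟩ * ⟨m, hKH m.2⟩ * (⟨k, hKH k.2⟩ : H)⁻¹ := rfl
      rw [e]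
      set u : H := ⟨k, hKH k.2⟩
      set v : H := ⟨m, hKH m.2⟩
      have h2 : v * (u⁻¹ * a0 * u⁻¹⁻¹) * v⁻¹ = u⁻¹ * a0 * u⁻¹⁻¹ := by
        rcases hconj1 u⁻¹ with h | h <;> rw [h]
        exacts [hm, hfix v hm]
      calc u * v * u⁻¹ * a0 * (u * v * u⁻¹)⁻¹ = u * (v * (u⁻¹ * a0 * u⁻¹⁻¹) * v⁻¹) * u⁻¹ := by group
        _ = a0 := by rw [h2]; group⟩
    have hJM : ψ.ker ≤ M := fun k hk => by
      rw [hM]
      have := (hmemJ _ (hKH k.2)).1 ((ψ_ker k).1 hk)
      rw [ha0c _ this, mul_inv_cancel_right]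
    have hsqM : ∀ k : K, k * k ∈ M := fun k => by
      rw [hM]
      set u : H := ⟨k, hKH k.2⟩
      show u * u * a0 * (u * u)⁻¹ = a0
      rw [show u * u * a0 * (u * u)⁻¹ = u * (u * a0 * u⁻¹) * u⁻¹ by group]
      rcases hconj1 u with h | h <;> rw [h]
      · exact h
      · rw [← mul_assoc u, hzcen u, mul_assoc zc, mul_assoc zc, h, ← mul_assoc, hzz, one_mul]
    have hn : (M.map ψ).Normal := Subgroup.Normal.map inferInstance _ ψ_surj
    rcases hn.eq_bot_or_eq_top with h | h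
    · exfalso
      haveI : Fact (Nat.Prime 3) := ⟨Nat.prime_three⟩
      obtain ⟨s, hs⟩ := exists_prime_orderOf_dvd_card' (G := SU 4 F 2) 3 (by rw [U6Cent.card_su_four hF]; norm_num)
      obtain ⟨k, rfl⟩ := ψ_surj s
      have : ψ (k * k) ∈ M.map ψ := mem_map_of_mem _ (hsqM k)
      rw [h, mem_bot, map_mul] at this
      have h2 : orderOf (ψ k) ∣ 2 := orderOf_dvd_of_pow_eq_one (by rw [pow_two, this])
      rw [hs] at h2
      norm_num at h2
    · intro x hx
      obtain ⟨m, hm, e⟩ := (h ▸ mem_top (ψ ⟨x, hx⟩) : ψ ⟨x, hx⟩ ∈ M.map ψ)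
      have : (⟨x, hx⟩ : K) ∈ M := by
        have h1 : m⁻¹ * ⟨x, hx⟩ ∈ M := hJM (MonoidHom.mem_ker.2 (by rw [map_mul, map_inv, e, inv_mul_cancel]))
        simpa using mul_mem hm h1
      exact mem_subgroupOf.1 this
  refine ⟨{
    hF := hF, z := z, z1 := a0, J := J, K := K
    z_sq := by rw [← pow_two, ← hz, pow_orderOf_eq_one]
    z_ne := fun e => by rw [e, orderOf_one] at hz; norm_num at hz
    z1_sq := congrArg Subtype.val ha0sq
    z1_ne := fun e => ha01 (Subtype.ext e)
    z1_ne_z := fun e => ha0z (Subtype.ext (e.trans hzc.symm))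
    z_mem := hzc ▸ mem_map_of_mem H.subtype (hEJ hzE)
    z1_mem := mem_map_of_mem H.subtype (hAJ ha0)
    J_le := hJK, K_le := hH ▸ hKH, K_cent := hKc
    J_normal := fun g hg x hx => by
      rw [← hH] at hg
      rw [hmemJ _ (mul_mem (mul_mem hg (hJH hx)) (inv_mem hg))]
      exact hJn.conj_mem _ ((hmemJ x (hJH hx)).1 hx) ⟨g, hg⟩
    K_normal := fun g hg x hx => by
      rw [← hH] at hg
      rw [hmemK _ (mul_mem (mul_mem hg (hKH hx)) (inv_mem hg)),
        show (⟨g * x * g⁻¹, mul_mem (mul_mem hg (hKH hx)) (inv_mem hg)⟩ : H) =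
          ⟨g, hg⟩ * ⟨x, hKH hx⟩ * ⟨g, hg⟩⁻¹ from rfl, map_mul, map_mul, map_inv]
      exact Normal.conj_mem inferInstance _ ((hmemK x (hKH hx)).1 hx) _
    card_J := cardJ, card_K := cardK, card_H := hH ▸ cardH
    z1_central := fun x hx => congrArg Subtype.val (ha0c _ ((hmemJ x (hJH hx)).1 hx))
    z1_conj := fun g hg => by
      rw [← hH] at hg
      rcases hconj1 ⟨g, hg⟩ with h | h
      · exact Or.inl (congrArg Subtype.val h)
      · refine Or.inr ?_
        have := congrArg Subtype.val h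
        simp only [coe_mul, coe_inv, hzc] at this
        exact this
    sq_or := fun x hx => (hsq _ ((hmemJ x (hJH hx)).1 hx)).imp (fun h => congrArg Subtype.val h)
      fun h => (congrArg Subtype.val h).trans hzc
    comm_or := fun x hx y hy => (hcomm' _ ((hmemJ x (hJH hx)).1 hx) _ ((hmemJ y (hJH hy)).1 hy)).imp
      (fun h => congrArg Subtype.val h) fun h => by
        have := congrArg Subtype.val h
        simp only [coe_mul, hzc] at this
        exact this
    center := fun x hx h => by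
      rcases hcenter _ ((hmemJ x (hJH hx)).1 hx) (fun y hy => Subtype.ext (h y (mem_map_of_mem H.subtype hy)))
        with e | e | e | e
      · exact Or.inl (congrArg Subtype.val e)
      · exact Or.inr (Or.inl ((congrArg Subtype.val e).trans hzc))
      · exact Or.inr (Or.inr (Or.inl (congrArg Subtype.val e)))
      · refine Or.inr (Or.inr (Or.inr ?_))
        have := congrArg Subtype.val e
        simp only [coe_mul, hzc] at this
        exact this
    self_cent := fun x hx => by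
      have hxH : x ∈ H := hH ▸ (mem_inf.1 hx).1
      refine mem_map_of_mem H.subtype (x := (⟨x, hxH⟩ : H)) (hCJ ?_)
      exact mem_centralizer_iff.2 fun y hy =>
        Subtype.ext (mem_centralizer_iff.1 (mem_inf.1 hx).2 y (mem_map_of_mem H.subtype hy))
    psi := ψ, psi_surj := ψ_surj, psi_ker := ψ_ker
    outer_faithful := fun g hg h => by
      rw [← hH] at hg
      rw [hmemJ g hg, ← hker, MonoidHom.mem_ker]
      refine hfaith _ fun b hb => ?_
      obtain ⟨⟨x, hx⟩, rfl⟩ := hq b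
      have := (hmemJ _ (mul_mem (mul_mem (mul_mem hg hx) (inv_mem hg)) (inv_mem hx))).1
        (h x ((hmemK x hx).2 hb))
      rw [← hker, MonoidHom.mem_ker,
        show (⟨g * x * g⁻¹ * x⁻¹, _⟩ : H) = ⟨g, hg⟩ * ⟨x, hx⟩ * ⟨g, hg⟩⁻¹ * ⟨x, hx⟩⁻¹ from rfl,
        map_mul, map_mul, map_mul, map_inv, map_inv, mul_inv_eq_one, mul_inv_eq_iff_eq_mul] at this
      exact this }, rfl, rfl, fun a ha hne => ?_⟩
  exact congrArg Subtype.val ((hA2 a ha).resolve_left hne)

end CfsgLib.Recog.Fi22Cent
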