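import Cfsg.Agent.Lib.PLocal.U6JCover

/-!
Twenty-two conjugates of the central involution over a clique do not occur in a split double cover of
`PSU₆(2)`: the products of triples of them would all have the same multiplicity.
-/

set_option autoImplicit false

namespace CfsgLib.Recog.Fi22Cent

open CfsgLib.Trans3 CfsgLib.Trans3.Fi CfsgLib.PLocal.U6J

/-- The ordered triples of distinct elements. -/
theorem card_triples {α : Type*} [DecidableEq α] (s : Finset α) :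
    (((s ×ˢ s) ×ˢ s).filter fun t => t.1.1 ≠ t.1.2 ∧ t.2 ≠ t.1.1 ∧ t.2 ≠ t.1.2).card =
      s.card * (s.card - 1) * (s.card - 2) := by
  have h : (((s ×ˢ s) ×ˢ s).filter fun t => t.1.1 ≠ t.1.2 ∧ t.2 ≠ t.1.1 ∧ t.2 ≠ t.1.2) =
      s.offDiag.biUnion fun p => ((s.erase p.1).erase p.2).image fun c => (p, c) := by
    ext ⟨⟨a, b⟩, c⟩
    simp only [Finset.mem_filter, Finset.mem_product, Finset.mem_biUnion, Finset.mem_offDiag,
      Finset.mem_image, Finset.mem_erase, Prod.exists, Prod.mk.injEq]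
    constructor
    · rintro ⟨⟨⟨ha, hb⟩, hc⟩, h1, h2, h3⟩
      exact ⟨a, b, ⟨ha, hb, h1⟩, c, ⟨h3, h2, hc⟩, ⟨rfl, rfl⟩, rfl⟩
    · rintro ⟨a', b', ⟨ha, hb, h1⟩, c', ⟨h3, h2, hc⟩, ⟨rfl, rfl⟩, rfl⟩
      exact ⟨⟨⟨ha, hb⟩, hc⟩, h1, h2, h3⟩
  rw [h, Finset.card_biUnion]
  · rw [Finset.sum_congr rfl fun p hp => ?_, Finset.sum_const, smul_eq_mul, Finset.offDiag_card,
      ← Nat.mul_sub_one]
    obtain ⟨ha, hb, hab⟩ := Finset.mem_offDiag.1 hp
    rw [Finset.card_image_of_injective _ (fun x y e => (Prod.mk.inj e).2),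
      Finset.card_erase_of_mem (Finset.mem_erase.2 ⟨Ne.symm hab, hb⟩), Finset.card_erase_of_mem ha]
    omega
  · intro p _ q _ hpq
    rw [Function.onFun, Finset.disjoint_left]
    intro x hx hy
    obtain ⟨c, -, rfl⟩ := Finset.mem_image.1 hx
    obtain ⟨c', -, e⟩ := Finset.mem_image.1 hy
    exact hpq (Prod.mk.inj e).1.symm

variable {C X : Type*} [Group C] [Finite C] [Group X] [Finite X] {π : C →* X} {z : C} {D : Set X}

/-- A map preserving the conjugates and multiplicative on the preimage of the span. -/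
structure Sym (Δ : Finset C) (Wc : Subgroup C) (σ : C → C) : Prop where
  mem : ∀ u ∈ Wc, σ u ∈ Wc
  mul : ∀ u ∈ Wc, ∀ v ∈ Wc, σ (u * v) = σ u * σ v
  del : ∀ u ∈ Δ, σ u ∈ Δ

/-- **Twenty-two conjugates do not occur in a split cover.** -/
theorem no_twentytwo (hC : DCov π z) (hU : IsU6 X) (hD : Cfsg.IsThreeTranspositionGroup D)
    {E : Set X} (hE : Clique D E) (χ : C →* ℤˣ) (hχ : χ z = -1) (Δ : Finset C) (hz : z ∈ Δ)
    (hcard : Δ.card = 22) (hone : ∀ u ∈ Δ, u = z ∨ π u ∈ E)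
    (hlift : ∀ e ∈ E, ∃ u ∈ Δ, π u = e ∧ ∀ v ∈ Δ, π v = e → v = u)
    (hconj : ∀ c : C, π c ∈ setFix E → ∀ u ∈ Δ, c * u * c⁻¹ ∈ Δ)
    (hmove : ∀ x ∈ Δ, ∃ σ σ' : C → C, Sym Δ ((Subgroup.closure E).comap π) σ ∧
      Sym Δ ((Subgroup.closure E).comap π) σ' ∧ σ x = z ∧
      ∀ u ∈ (Subgroup.closure E).comap π, σ' (σ u) = u) : False := by
  classical
  obtain ⟨Wc, eWc⟩ : ∃ Wc, Wc = (Subgroup.closure E).comap π := ⟨_, rfl⟩
  rw [← eWc] at hmove
  obtain ⟨tr1, tr2, tr3⟩ := u6j_trans hU hD hE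
  obtain ⟨hPc, hPp⟩ := u6j_pairs hU hD hE
  have hfix_conj : ∀ {k : X}, k ∈ setFix E → ∀ {a : X}, a ∈ Subgroup.closure E →
      k * a * k⁻¹ ∈ Subgroup.closure E := fun hk _ ha =>
    (Subgroup.mem_normalizer_iff.1 ((u6j_fix_iff hU hD hE).1 hk) _).1 ha
  have hΔW : ∀ u ∈ Δ, u ∈ Wc := fun u hu => by
    rw [eWc, Subgroup.mem_comap]
    rcases hone u hu with rfl | h
    · rw [dcov_map_z hC]; exact one_mem _
    · exact Subgroup.subset_closure h
  have comm : ∀ u ∈ Wc, ∀ v ∈ Wc, u * v = v * u := fun u hu v hv =>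
    ((cover_span hC hU hD hE (eWc ▸ hu)).2 v (eWc ▸ hv)).eq
  have hsqE : ∀ a ∈ E, a * a = 1 := fun a ha => Trans3.sq_one hD.1 (hE.sub ha)
  -- sign
  obtain ⟨e₁, he₁⟩ : ∃ e, e ∈ E := Set.nonempty_of_ncard_ne_zero (by rw [hE.card]; norm_num)
  obtain ⟨u₁, hu₁, hπ₁, -⟩ := hlift e₁ he₁
  have hsign : ∀ u ∈ Δ, u ≠ z → χ u = χ u₁ := by
    intro u hu hne
    have hπ := (hone u hu).resolve_left hne
    obtain ⟨k, hk, e⟩ := tr1 _ hπ e₁ he₁
    obtain ⟨c, rfl⟩ := hC.surj k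
    obtain ⟨v, -, -, hv⟩ := hlift e₁ he₁
    have e1 : c * u * c⁻¹ = u₁ := by
      rw [hv _ (hconj c hk u hu) (by rw [map_mul, map_mul, map_inv]; exact e), hv _ hu₁ hπ₁]
    rw [← e1, map_mul, map_mul, map_inv, mul_comm (χ c), mul_inv_cancel_right]
  have hlift_eq : ∀ {u v : C}, π u = π v → χ u = χ v → u = v := by
    intro u v h1 h2
    rcases dcov_eq hC h1 with e | e
    · exact e
    · rw [e, map_mul, hχ, mul_neg, mul_one] at h2
      exact absurd h2 (by rcases Int.units_eq_one_or (χ v) with h | h <;> rw [h] <;> decide)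
  have hE_inj : ∀ {a b : C}, a ∈ Δ → b ∈ Δ → a ≠ z → π a = π b → a = b := by
    intro a b ha hb hne e
    have hEa := (hone a ha).resolve_left hne
    obtain ⟨w, -, -, hw⟩ := hlift (π a) hEa
    rw [hw a ha rfl, hw b hb e.symm]
  -- triples
  obtain ⟨T, eT⟩ : ∃ T, T = ((Δ ×ˢ Δ) ×ˢ Δ).filter
      fun t => t.1.1 ≠ t.1.2 ∧ t.2 ≠ t.1.1 ∧ t.2 ≠ t.1.2 := ⟨_, rfl⟩
  obtain ⟨Pr, ePr⟩ : ∃ Pr : (C × C) × C → C, Pr = fun t => t.1.1 * t.1.2 * t.2 := ⟨_, rfl⟩
  obtain ⟨M, eM⟩ : ∃ M : C → ℕ, M = fun v => (T.filter fun t => Pr t = v).card := ⟨_, rfl⟩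
  obtain ⟨Tf, eTf⟩ : ∃ Tf, Tf = T.filter fun t => t.1.1 ≠ z ∧ t.1.2 ≠ z ∧ t.2 ≠ z := ⟨_, rfl⟩
  obtain ⟨Tz, eTz⟩ : ∃ Tz, Tz = T.filter fun t => ¬ (t.1.1 ≠ z ∧ t.1.2 ≠ z ∧ t.2 ≠ z) := ⟨_, rfl⟩
  have hT : ∀ {t}, t ∈ T ↔ (t.1.1 ∈ Δ ∧ t.1.2 ∈ Δ ∧ t.2 ∈ Δ) ∧
      (t.1.1 ≠ t.1.2 ∧ t.2 ≠ t.1.1 ∧ t.2 ≠ t.1.2) := fun {t} => by
    simp [eT, and_assoc]
  have hPrW : ∀ {t}, t ∈ T → Pr t ∈ Wc := fun {t} ht => by
    obtain ⟨⟨ha, hb, hc⟩, -⟩ := hT.1 ht
    rw [ePr]; exact mul_mem (mul_mem (hΔW _ ha) (hΔW _ hb)) (hΔW _ hc)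
  -- transport along a symmetry
  have transT : ∀ {σ σ' : C → C}, Sym Δ Wc σ → (∀ u ∈ Wc, σ' (σ u) = u) → ∀ {t}, t ∈ T →
      ((σ t.1.1, σ t.1.2), σ t.2) ∈ T ∧ Pr ((σ t.1.1, σ t.1.2), σ t.2) = σ (Pr t) := by
    intro σ σ' hσ hinv t ht
    obtain ⟨⟨ha, hb, hc⟩, h1, h2, h3⟩ := hT.1 ht
    have inj : ∀ {x y}, x ∈ Wc → y ∈ Wc → σ x = σ y → x = y := fun hx hy e => by
      rw [← hinv _ hx, e, hinv _ hy]
    refine ⟨hT.2 ⟨⟨hσ.del _ ha, hσ.del _ hb, hσ.del _ hc⟩, fun e => h1 (inj (hΔW _ ha) (hΔW _ hb) e),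
      fun e => h2 (inj (hΔW _ hc) (hΔW _ ha) e), fun e => h3 (inj (hΔW _ hc) (hΔW _ hb) e)⟩, ?_⟩
    simp only [ePr]
    rw [hσ.mul _ (mul_mem (hΔW _ ha) (hΔW _ hb)) _ (hΔW _ hc), hσ.mul _ (hΔW _ ha) _ (hΔW _ hb)]
  have mono : ∀ {σ σ' : C → C}, Sym Δ Wc σ → (∀ u ∈ Wc, σ' (σ u) = u) → ∀ v, M v ≤ M (σ v) := by
    intro σ σ' hσ hinv v
    rw [eM]
    refine Finset.card_le_card_of_injOn (fun t => ((σ t.1.1, σ t.1.2), σ t.2)) (fun t ht => ?_) ?_
    · simp only [Finset.coe_filter, Set.mem_ofPred_eq] at ht ⊢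
      obtain ⟨h1, h2⟩ := transT hσ hinv ht.1
      exact ⟨h1, by rw [h2, ht.2]⟩
    · intro t ht t' ht' e
      simp only [Finset.coe_filter, Set.mem_ofPred_eq] at ht ht'
      obtain ⟨⟨ha, hb, hc⟩, -⟩ := hT.1 ht.1
      obtain ⟨⟨ha', hb', hc'⟩, -⟩ := hT.1 ht'.1
      simp only [Prod.mk.injEq] at e
      refine Prod.ext (Prod.ext ?_ ?_) ?_
      · rw [← hinv _ (hΔW _ ha), e.1.1, hinv _ (hΔW _ ha')]
      · rw [← hinv _ (hΔW _ hb), e.1.2, hinv _ (hΔW _ hb')]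
      · rw [← hinv _ (hΔW _ hc), e.2, hinv _ (hΔW _ hc')]
  have conjSym : ∀ c : C, π c ∈ setFix E → Sym Δ Wc (fun u => c * u * c⁻¹) := fun c hc =>
    ⟨fun u hu => by
      rw [eWc, Subgroup.mem_comap, map_mul, map_mul, map_inv]
      exact hfix_conj hc (by rwa [eWc, Subgroup.mem_comap] at hu), fun u _ v _ => by group, hconj c hc⟩
  have hinvfix : ∀ {k : X}, k ∈ setFix E → k⁻¹ ∈ setFix E := fun hk =>
    (u6j_fix_iff hU hD hE).2 (inv_mem ((u6j_fix_iff hU hD hE).1 hk))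
  -- the triples through `z`
  have hzprod : ∀ {t}, t ∈ Tz → π (Pr t) ∈ pairSet E ∧ χ (Pr t) = -1 := by
    intro t ht
    rw [eTz, Finset.mem_filter] at ht
    obtain ⟨⟨ha, hb, hc⟩, h1, h2, h3⟩ := hT.1 ht.1
    obtain ⟨p, q, hp, hq, hpq, hpz, hqz, e⟩ : ∃ p q, p ∈ Δ ∧ q ∈ Δ ∧ p ≠ q ∧ p ≠ z ∧ q ≠ z ∧
        Pr t = z * (p * q) := by
      obtain ⟨⟨a, b⟩, c⟩ := t
      simp only [ePr] at ht ha hb hc h1 h2 h3 ⊢
      by_cases a1 : a = z
      · subst a1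
        exact ⟨b, c, hb, hc, Ne.symm h3, Ne.symm h1, h2, mul_assoc _ _ _⟩
      by_cases b1 : b = z
      · subst b1
        exact ⟨a, c, ha, hc, Ne.symm h2, a1, h3, by
          rw [← (hC.central a).symm.eq, mul_assoc]⟩
      · obtain rfl : c = z := by_contra fun c1 => ht.2 ⟨a1, b1, c1⟩
        exact ⟨a, b, ha, hb, h1, a1, b1, (hC.central (a * b)).eq⟩
    refine ⟨?_, ?_⟩
    · rw [e, map_mul, dcov_map_z hC, one_mul, map_mul]
      exact ⟨π p, (hone p hp).resolve_left hpz, π q, (hone q hq).resolve_left hqz,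
        fun h => hpq (hE_inj hp hq hpz h), rfl⟩
    · rw [e, map_mul, map_mul, hχ, hsign p hp hpz, hsign q hq hqz, Int.units_mul_self, mul_one]
  -- the triples avoiding `z`
  obtain ⟨R₀, eR₀⟩ : ∃ R₀ : Set X, R₀ =
      {w | w ∈ Subgroup.closure E ∧ w ≠ 1 ∧ w ∉ E ∧ w ∉ pairSet E} := ⟨_, rfl⟩
  have hfree : ∀ {t}, t ∈ Tf → (π (Pr t) ∈ pairSet E ∨ π (Pr t) ∈ R₀) ∧ χ (Pr t) = χ u₁ := by
    intro t ht
    rw [eTf, Finset.mem_filter] at ht
    obtain ⟨⟨ha, hb, hc⟩, h1, h2, h3⟩ := hT.1 ht.1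
    obtain ⟨a1, b1, c1⟩ := ht.2
    obtain ⟨⟨a, b⟩, c⟩ := t
    simp only [ePr] at ha hb hc h1 h2 h3 a1 b1 c1 ⊢
    refine ⟨?_, by rw [map_mul, map_mul, hsign a ha a1, hsign b hb b1, hsign c hc c1, Int.units_mul_self,
      one_mul]⟩
    have Ea := (hone a ha).resolve_left a1
    have Eb := (hone b hb).resolve_left b1
    have Ec := (hone c hc).resolve_left c1
    have n1 : π a ≠ π b := fun e => h1 (hE_inj ha hb a1 e)
    have n2 : π c ≠ π a := fun e => h2 (hE_inj hc ha c1 e)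
    have n3 : π c ≠ π b := fun e => h3 (hE_inj hc hb c1 e)
    rw [map_mul, map_mul]
    have hne1 : π a * π b * π c ≠ 1 := fun e => by
      refine (hPp (π a * π b) ⟨π a, Ea, π b, Eb, n1, rfl⟩).1 ?_
      rw [show π a * π b = π c by rw [← inv_eq_of_mul_eq_one_left e, inv_eq_of_mul_eq_one_right (hsqE _ Ec)]]
      exact Ec
    have hnE : π a * π b * π c ∉ E := by
      intro hm
      obtain ⟨w, ew⟩ : ∃ w, w = π a * π b * π c := ⟨_, rfl⟩
      rw [← ew] at hm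
      have cEab : π a * π b = π b * π a := (hE.comm _ Ea _ Eb).eq
      have e4 : π a * π b = w * π c := by rw [ew, mul_assoc, hsqE _ Ec, mul_one]
      have w1 : w ≠ π c := fun e => by
        rw [e, hsqE _ Ec] at e4
        exact (hPp _ ⟨π a, Ea, π b, Eb, n1, rfl⟩).2.1 e4
      have w2 : w ≠ π a := fun e => by
        rw [e] at e4
        exact n3 (mul_left_cancel e4).symm
      have w3 : w ≠ π b := fun e => by
        rw [e, cEab] at e4
        exact n2 (mul_left_cancel e4).symm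
      refine (u6Facts hU hD).four [π a, π b, π c, w]
        (by simp [n1, Ne.symm n2, Ne.symm n3, Ne.symm w1, Ne.symm w2, Ne.symm w3]) rfl
        (fun u hu => hE.sub (by simp at hu; rcases hu with rfl | rfl | rfl | rfl <;> assumption))
        (fun u hu v hv => hE.comm u (by simp at hu; rcases hu with rfl | rfl | rfl | rfl <;> assumption)
          v (by simp at hv; rcases hv with rfl | rfl | rfl | rfl <;> assumption)) ?_
      simp only [List.prod_cons, List.prod_nil, mul_one]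
      rw [← mul_assoc, e4, mul_assoc, ← mul_assoc (π c), hsqE _ Ec, one_mul, hsqE _ hm]
    by_cases hP : π a * π b * π c ∈ pairSet E
    · exact Or.inl hP
    · refine Or.inr ?_
      rw [eR₀]
      exact ⟨mul_mem (mul_mem (Subgroup.subset_closure Ea) (Subgroup.subset_closure Eb))
        (Subgroup.subset_closure Ec), hne1, hnE, hP⟩
  -- all products have one multiplicity
  obtain ⟨e₂, he₂, he12⟩ : ∃ e ∈ E, e ≠ e₁ :=
    Set.exists_ne_of_one_lt_ncard (by rw [hE.card]; norm_num) e₁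
  obtain ⟨u₂, hu₂, hπ₂, -⟩ := hlift e₂ he₂
  have hzne : ∀ {u e}, e ∈ E → π u = e → u ≠ z := fun he h e' => by
    rw [e', dcov_map_z hC] at h
    exact invol_ne_one (hD.1.1 _ (hE.sub (h ▸ he))) rfl
  obtain ⟨t₀, et₀⟩ : ∃ t₀, t₀ = ((z, u₁), u₂) := ⟨_, rfl⟩
  have ht₀ : t₀ ∈ Tz := by
    rw [eTz, Finset.mem_filter, hT, et₀]
    refine ⟨⟨⟨hz, hu₁, hu₂⟩, (hzne he₁ hπ₁).symm, hzne he₂ hπ₂,
      fun e => he12 (hπ₂.symm.trans ((congrArg π e).trans hπ₁))⟩, fun h => h.1 rfl⟩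
  obtain ⟨m, em⟩ : ∃ m, m = M (Pr t₀) := ⟨_, rfl⟩
  have hTzT : ∀ {t}, t ∈ Tz → t ∈ T := fun ht => by rw [eTz] at ht; exact (Finset.mem_filter.1 ht).1
  have hTfT : ∀ {t}, t ∈ Tf → t ∈ T := fun ht => by rw [eTf] at ht; exact (Finset.mem_filter.1 ht).1
  have hMz : ∀ {t}, t ∈ Tz → M (Pr t) = m := by
    intro t ht
    obtain ⟨h1, h2⟩ := hzprod ht
    obtain ⟨h3, h4⟩ := hzprod ht₀
    obtain ⟨k, hk, e⟩ := tr2 _ h1 _ h3
    obtain ⟨c, rfl⟩ := hC.surj k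
    have e1 : c * Pr t * c⁻¹ = Pr t₀ := hlift_eq (by rw [map_mul, map_mul, map_inv]; exact e)
      (by rw [map_mul, map_mul, map_inv, mul_comm (χ c), mul_inv_cancel_right, h2, h4])
    have hc' : π c⁻¹ ∈ setFix E := by rw [map_inv]; exact hinvfix hk
    refine le_antisymm ?_ ?_
    · rw [em, ← e1]
      exact mono (σ' := fun u => c⁻¹ * u * c⁻¹⁻¹) (conjSym c hk) (fun u _ => by group) _
    · rw [em, show Pr t = c⁻¹ * Pr t₀ * c⁻¹⁻¹ by rw [← e1]; group]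
      exact mono (σ' := fun u => c * u * c⁻¹) (conjSym c⁻¹ hc') (fun u _ => by group) _
  have hMall : ∀ {t}, t ∈ T → M (Pr t) = m := by
    intro t ht
    obtain ⟨σ, σ', hσ, hσ', hx, hinv⟩ := hmove _ (hT.1 ht).1.1
    obtain ⟨h1, h2⟩ := transT hσ hinv ht
    have h3 : ((σ t.1.1, σ t.1.2), σ t.2) ∈ Tz := by
      rw [eTz, Finset.mem_filter]; exact ⟨h1, fun h => h.1 hx⟩
    have h4 := hMz h3
    rw [h2] at h4
    refine le_antisymm ((mono hσ hinv _).trans h4.le) (h4.symm.le.trans ?_)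
    have hcancel : ∀ u ∈ Wc, σ (σ' u) = u := by
      have hsurj : Set.SurjOn σ (Wc : Set C) Wc := by
        refine Set.surjOn_iff_exists_map_subtype.2 ?_
        let f : Wc → Wc := fun u => ⟨σ u, hσ.mem _ u.2⟩
        have hf : Function.Injective f := fun u v e => Subtype.ext (by
          rw [← hinv _ u.2, show σ u = σ v from congrArg Subtype.val e, hinv _ v.2])
        exact ⟨(Wc : Set C), f, subset_rfl, Finite.surjective_of_injective hf, fun _ => rfl⟩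
      intro u hu
      obtain ⟨v, hv, rfl⟩ := hsurj hu
      rw [hinv v hv]
    have h5 := mono (σ' := σ) hσ' hcancel (σ (Pr t))
    rwa [hinv _ (hPrW ht)] at h5
  -- fibres
  obtain ⟨Nf, eNf⟩ : ∃ Nf : X → ℕ, Nf = fun w => (Tf.filter fun t => π (Pr t) = w).card := ⟨_, rfl⟩
  obtain ⟨Nz, eNz⟩ : ∃ Nz : X → ℕ, Nz = fun w => (Tz.filter fun t => π (Pr t) = w).card := ⟨_, rfl⟩
  have cfix : ∀ (S : Finset ((C × C) × C)) (c : C), π c ∈ setFix E →
      (∀ t ∈ S, t ∈ T ∧ ((c * t.1.1 * c⁻¹, c * t.1.2 * c⁻¹), c * t.2 * c⁻¹) ∈ S) → ∀ w : X,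
      (S.filter fun t => π (Pr t) = w).card ≤ (S.filter fun t => π (Pr t) = π c * w * (π c)⁻¹).card := by
    intro S c hc hS w
    refine Finset.card_le_card_of_injOn (fun t => ((c * t.1.1 * c⁻¹, c * t.1.2 * c⁻¹), c * t.2 * c⁻¹))
      (fun t ht => ?_) fun t _ t' _ e => ?_
    · simp only [Finset.coe_filter, Set.mem_ofPred_eq] at ht ⊢
      refine ⟨(hS t ht.1).2, ?_⟩
      rw [show Pr ((c * t.1.1 * c⁻¹, c * t.1.2 * c⁻¹), c * t.2 * c⁻¹) = c * Pr t * c⁻¹ by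
        simp only [ePr]; group, map_mul, map_mul, map_inv, ht.2]
    · simp only [Prod.mk.injEq, mul_left_inj, mul_right_inj] at e
      exact Prod.ext (Prod.ext e.1.1 e.1.2) e.2
  have hSconj : ∀ c : C, π c ∈ setFix E →
      (∀ t ∈ Tf, t ∈ T ∧ ((c * t.1.1 * c⁻¹, c * t.1.2 * c⁻¹), c * t.2 * c⁻¹) ∈ Tf) ∧
      (∀ t ∈ Tz, t ∈ T ∧ ((c * t.1.1 * c⁻¹, c * t.1.2 * c⁻¹), c * t.2 * c⁻¹) ∈ Tz) := by
    intro c hc
    have key : ∀ u : C, c * u * c⁻¹ = z ↔ u = z := fun u => by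
      rw [mul_inv_eq_iff_eq_mul, ← (hC.central c).eq, mul_right_inj]
    constructor
    all_goals
      intro t ht
      have ht0 := ht
      simp only [eTf, eTz, Finset.mem_filter] at ht0 ⊢
      exact ⟨ht0.1, (transT (σ' := fun u => c⁻¹ * u * c) (conjSym c hc) (fun u _ => by group) ht0.1).1,
        by simpa only [ne_eq, key] using ht0.2⟩
  have hconst : ∀ {w w' : X}, (∃ k ∈ setFix E, k * w * k⁻¹ = w') → Nf w ≤ Nf w' ∧ Nz w ≤ Nz w' := by
    rintro w w' ⟨k, hk, rfl⟩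
    obtain ⟨c, rfl⟩ := hC.surj k
    rw [eNf, eNz]
    exact ⟨cfix Tf c hk (hSconj c hk).1 w, cfix Tz c hk (hSconj c hk).2 w⟩
  haveI := Fintype.ofFinite X
  obtain ⟨P0, hP0⟩ : ∃ P0 : Finset X, ∀ w, w ∈ P0 ↔ w ∈ pairSet E :=
    ⟨Finset.univ.filter (· ∈ pairSet E), fun w => by simp⟩
  obtain ⟨R0, hR0⟩ : ∃ R0 : Finset X, ∀ w, w ∈ R0 ↔ w ∈ R₀ :=
    ⟨Finset.univ.filter (· ∈ R₀), fun w => by simp⟩
  have ec : ∀ (s : Finset X) (S : Set X), (∀ w, w ∈ s ↔ w ∈ S) → s.card = S.ncard :=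
    fun s S h => by rw [← Set.ncard_coe_finset]; exact congrArg _ (Set.ext h)
  have nP : P0.card = 210 := (ec _ _ hP0).trans hPc
  have nR : R0.card = 280 := by
    obtain ⟨W0, hW0⟩ : ∃ W0 : Finset X, ∀ w, w ∈ W0 ↔ w ∈ Subgroup.closure E :=
      ⟨Finset.univ.filter (· ∈ Subgroup.closure E), fun w => by simp⟩
    obtain ⟨E0, hE0⟩ : ∃ E0 : Finset X, ∀ w, w ∈ E0 ↔ w ∈ E :=
      ⟨Finset.univ.filter (· ∈ E), fun w => by simp⟩
    have nE : E0.card = 21 := (ec _ _ hE0).trans hE.card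
    have nW : W0.card = 512 := by
      rw [ec W0 (Subgroup.closure E : Set X) hW0, ← Nat.card_coe_set_eq]
      exact u6j_span_card hU hD hE
    have dEP : Disjoint E0 P0 := Finset.disjoint_left.2 fun w h1 h2 =>
      (hPp w ((hP0 w).1 h2)).1 ((hE0 w).1 h1)
    have n1 : (1 : X) ∉ E0 ∪ P0 := fun h => (Finset.mem_union.1 h).elim
      (fun h => invol_ne_one (hD.1.1 _ (hE.sub ((hE0 _).1 h))) rfl)
      fun h => (hPp _ ((hP0 _).1 h)).2.1 rfl
    have hsub : insert 1 (E0 ∪ P0) ⊆ W0 := by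
      intro w hw
      rw [hW0]
      simp only [Finset.mem_insert, Finset.mem_union, hE0, hP0] at hw
      rcases hw with rfl | h | h
      exacts [one_mem _, Subgroup.subset_closure h, (hPp w h).2.2]
    have hR : R0 = W0 \ insert 1 (E0 ∪ P0) := by
      ext w
      simp [hR0, eR₀, hW0, hE0, hP0]
    rw [hR, Finset.card_sdiff_of_subset hsub, Finset.card_insert_of_notMem n1,
      Finset.card_union_of_disjoint dEP, nE, nP, nW]
  obtain ⟨p₀, hp₀⟩ : ∃ p, p ∈ P0 := Finset.card_pos.1 (by rw [nP]; norm_num)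
  obtain ⟨r₀, hr₀⟩ : ∃ r, r ∈ R0 := Finset.card_pos.1 (by rw [nR]; norm_num)
  have cP : ∀ w ∈ P0, Nf w = Nf p₀ ∧ Nz w = Nz p₀ := fun w hw => by
    obtain ⟨a1, a2⟩ := hconst (tr2 w ((hP0 w).1 hw) p₀ ((hP0 _).1 hp₀))
    obtain ⟨b1, b2⟩ := hconst (tr2 p₀ ((hP0 _).1 hp₀) w ((hP0 w).1 hw))
    exact ⟨le_antisymm a1 b1, le_antisymm a2 b2⟩
  have cR : ∀ w ∈ R0, Nf w = Nf r₀ := fun w hw => by
    have h := (hR0 w).1 hw
    have h' := (hR0 _).1 hr₀
    rw [eR₀] at h h'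
    exact le_antisymm (hconst (tr3 w h.1 r₀ h'.1 h.2 h'.2)).1 (hconst (tr3 r₀ h'.1 w h.1 h'.2 h.2)).1
  have hdPR : Disjoint P0 R0 := Finset.disjoint_left.2 fun w h1 h2 => by
    have := (hR0 w).1 h2; rw [eR₀] at this; exact this.2.2.2 ((hP0 w).1 h1)
  have cTf : Tf.card = 7980 := by
    have he : Tf = (((Δ.erase z) ×ˢ (Δ.erase z)) ×ˢ (Δ.erase z)).filter
        fun t => t.1.1 ≠ t.1.2 ∧ t.2 ≠ t.1.1 ∧ t.2 ≠ t.1.2 := by
      ext t
      simp [eTf, hT]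
      tauto
    rw [he, card_triples, Finset.card_erase_of_mem hz, hcard]
  have cTz : Tz.card = 1260 := by
    have h := Finset.card_filter_add_card_filter_not (s := T)
      (fun t => t.1.1 ≠ z ∧ t.1.2 ≠ z ∧ t.2 ≠ z)
    rw [← eTf, ← eTz, cTf] at h
    have hTc : T.card = 9240 := by rw [eT, card_triples, hcard]
    omega
  have hsumz : 210 * Nz p₀ = 1260 := by
    have h := Finset.card_eq_sum_card_fiberwise (f := fun t => π (Pr t)) (s := Tz) (t := P0)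
      fun t ht => Finset.mem_coe.2 ((hP0 _).2 (hzprod (Finset.mem_coe.1 ht)).1)
    rw [cTz, Finset.sum_congr rfl fun w hw => show _ = Nz p₀ by rw [← (cP w hw).2, eNz], Finset.sum_const,
      smul_eq_mul, nP] at h
    exact h.symm
  have hsumf : 210 * Nf p₀ + 280 * Nf r₀ = 7980 := by
    have h := Finset.card_eq_sum_card_fiberwise (f := fun t => π (Pr t)) (s := Tf) (t := P0 ∪ R0)
      fun t ht => Finset.mem_coe.2 (Finset.mem_union.2
        ((hfree (Finset.mem_coe.1 ht)).1.imp (fun h => (hP0 _).2 h) fun h => (hR0 _).2 h))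
    have s1 : ∑ w ∈ P0, Nf w = 210 * Nf p₀ := by
      rw [Finset.sum_congr rfl fun w hw => (cP w hw).1, Finset.sum_const, nP, smul_eq_mul]
    have s2 : ∑ w ∈ R0, Nf w = 280 * Nf r₀ := by
      rw [Finset.sum_congr rfl cR, Finset.sum_const, nR, smul_eq_mul]
    rw [cTf, Finset.sum_union hdPR] at h
    simp only [eNf] at s1 s2 ⊢
    omega
  -- one product over each kind
  have hMsplit : ∀ v : C, M v = (Tz.filter fun t => Pr t = v).card + (Tf.filter fun t => Pr t = v).card := by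
    intro v
    simp only [eM]
    rw [← Finset.card_union_of_disjoint]
    · congr 1
      ext t
      simp only [eTz, eTf, Finset.mem_union, Finset.mem_filter]
      tauto
    · rw [Finset.disjoint_left]
      intro t h1 h2
      simp only [eTz, eTf, Finset.mem_filter] at h1 h2
      exact h1.1.2 h2.1.2
  have hMz' : ∀ v : C, χ v = -1 → (Tz.filter fun t => Pr t = v).card = Nz (π v) := fun v hv => by
    rw [eNz]
    refine congrArg Finset.card (Finset.filter_congr fun t ht => ⟨fun e => by rw [e], fun e => ?_⟩)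
    exact hlift_eq e ((hzprod ht).2.trans hv.symm)
  have hMf' : ∀ v : C, χ v = χ u₁ → (Tf.filter fun t => Pr t = v).card = Nf (π v) := fun v hv => by
    rw [eNf]
    refine congrArg Finset.card (Finset.filter_congr fun t ht => ⟨fun e => by rw [e], fun e => ?_⟩)
    exact hlift_eq e ((hfree ht).2.trans hv.symm)
  have hMz0 : ∀ v : C, χ v ≠ -1 → (Tz.filter fun t => Pr t = v).card = 0 := fun v hv => by
    rw [Finset.card_eq_zero, Finset.filter_eq_empty_iff]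
    exact fun t ht e => hv (e ▸ (hzprod ht).2)
  have hMf0 : ∀ v : C, χ v ≠ χ u₁ → (Tf.filter fun t => Pr t = v).card = 0 := fun v hv => by
    rw [Finset.card_eq_zero, Finset.filter_eq_empty_iff]
    exact fun t ht e => hv (e ▸ (hfree ht).2)
  -- some product is generic
  obtain ⟨t₃, ht₃, hr₃⟩ : ∃ t ∈ Tf, π (Pr t) ∈ R₀ := by
    obtain ⟨r, hr, w, hw, hrw⟩ : ∃ r ∈ E, ∃ w ∈ pairSet E, r * w ∈ R₀ := by
      by_contra! hno
      obtain ⟨E0, hE0⟩ : ∃ E0 : Finset X, ∀ w, w ∈ E0 ↔ w ∈ E :=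
        ⟨Finset.univ.filter (· ∈ E), fun w => by simp⟩
      have hstep : ∀ r ∈ E, ∀ w ∈ insert (1 : X) (E0 ∪ P0), r * w ∈ insert (1 : X) (E0 ∪ P0) := by
        intro r hr w hw'
        simp only [Finset.mem_insert, Finset.mem_union, hE0, hP0] at hw' ⊢
        rcases hw' with rfl | h | h
        · exact Or.inr (Or.inl (by rwa [mul_one]))
        · by_cases e : r = w
          · exact Or.inl (e ▸ hsqE r hr)
          · exact Or.inr (Or.inr ⟨r, hr, w, h, e, rfl⟩)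
        · have hn := hno r hr w h
          rw [eR₀] at hn
          have hmW : r * w ∈ Subgroup.closure E := mul_mem (Subgroup.subset_closure hr) (hPp w h).2.2
          by_cases e1 : r * w = 1
          · exact Or.inl e1
          by_cases e2 : r * w ∈ E
          · exact Or.inr (Or.inl e2)
          exact Or.inr (Or.inr (by_contra fun e3 => hn ⟨hmW, e1, e2, e3⟩))
      have hall : ∀ v ∈ Subgroup.closure E, ∀ w ∈ insert (1 : X) (E0 ∪ P0),
          v * w ∈ insert (1 : X) (E0 ∪ P0) := by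
        intro v hv
        induction hv using Subgroup.closure_induction_left with
        | one => exact fun w hw => by rwa [one_mul]
        | mul_left x hx y _ ih => exact fun w hw => by rw [mul_assoc]; exact hstep x hx _ (ih w hw)
        | inv_mul_cancel x hx y _ ih =>
          exact fun w hw => by
            rw [inv_eq_of_mul_eq_one_right (hsqE x hx), mul_assoc]
            exact hstep x hx _ (ih w hw)
      have h := (hR0 r₀).1 hr₀
      rw [eR₀] at h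
      have h2 := hall r₀ h.1 1 (Finset.mem_insert_self _ _)
      rw [mul_one, Finset.mem_insert, Finset.mem_union, hE0, hP0] at h2
      rcases h2 with h2 | h2 | h2
      exacts [h.2.1 h2, h.2.2.1 h2, h.2.2.2 h2]
    obtain ⟨a, ha, b, hb, hab, rfl⟩ := hw
    rw [eR₀] at hrw
    have hra : r ≠ a := fun e => hrw.2.2.1 (by rw [e, ← mul_assoc, hsqE a ha, one_mul]; exact hb)
    have hrb : r ≠ b := fun e => hrw.2.2.1 (by
      rw [e, (hE.comm a ha b hb).eq, ← mul_assoc, hsqE b hb, one_mul]; exact ha)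
    obtain ⟨s, hs, hπs, -⟩ := hlift r hr
    obtain ⟨p, hp, hπp, -⟩ := hlift a ha
    obtain ⟨q, hq, hπq, -⟩ := hlift b hb
    refine ⟨((s, p), q), ?_, ?_⟩
    · rw [eTf, Finset.mem_filter, hT]
      exact ⟨⟨⟨hs, hp, hq⟩, fun (e : s = p) => hra (hπs.symm.trans ((congrArg π e).trans hπp)),
        fun (e : q = s) => hrb (hπs.symm.trans ((congrArg π e.symm).trans hπq)),
        fun (e : q = p) => hab (hπp.symm.trans ((congrArg π e.symm).trans hπq))⟩,
        hzne hr hπs, hzne ha hπp, hzne hb hπq⟩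
    · simp only [ePr]
      rw [map_mul, map_mul, hπs, hπp, hπq, eR₀, mul_assoc]
      exact hrw
  have hγ : Nf r₀ = m := by
    have h := hMall (hTfT ht₃)
    have hz0 : (Tz.filter fun t => Pr t = Pr t₃).card = 0 := by
      rw [Finset.card_eq_zero, Finset.filter_eq_empty_iff]
      intro t ht e
      have h1 := (hzprod ht).1
      rw [e] at h1
      exact Finset.disjoint_left.1 hdPR ((hP0 _).2 h1) ((hR0 _).2 hr₃)
    rw [hMsplit, hMf' _ (hfree ht₃).2, hz0, zero_add, cR _ ((hR0 _).2 hr₃)] at h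
    exact h
  have hz6 : Nz p₀ = 6 := by omega
  have hm := hMsplit (Pr t₀)
  rw [← em, hMz' _ (hzprod ht₀).2, (cP _ ((hP0 _).2 (hzprod ht₀).1)).2, hz6] at hm
  by_cases hε : χ u₁ = -1
  · rw [hMf' _ (((hzprod ht₀).2).trans hε.symm), (cP _ ((hP0 _).2 (hzprod ht₀).1)).1] at hm
    omega
  · rw [hMf0 _ (by rw [(hzprod ht₀).2]; exact Ne.symm hε), add_zero] at hm
    by_cases h0 : Nf p₀ = 0
    · omega
    obtain ⟨t₄, ht₄⟩ : ∃ t, t ∈ Tf.filter fun t => π (Pr t) = p₀ := by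
      refine Finset.card_pos.1 ?_
      simp only [eNf] at h0
      omega
    rw [Finset.mem_filter] at ht₄
    have h := hMall (hTfT ht₄.1)
    rw [hMsplit, hMf' _ (hfree ht₄.1).2, hMz0 _ (by rw [(hfree ht₄.1).2]; exact hε), zero_add, ht₄.2] at h
    omega

end CfsgLib.Recog.Fi22Cent
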