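import Cfsg.Agent.Lib.PLocal.U6JOrbitPrime
import Cfsg.Agent.Lib.Recog.Fi22Cent.Kinds
import Cfsg.Agent.Lib.Recog.Fi22Cent.SplitTriples

/-!
An involution whose centralizer is a double cover of `PSU₆(2)` with a sign on the covering involution
commutes with none of its other conjugates, when `2¹⁸` does not divide the order of the group.
-/

set_option autoImplicit false
set_option linter.unusedSectionVars false

namespace CfsgLib.Recog.Fi22Cent

open CfsgLib.Trans3 CfsgLib.Trans3.Fi CfsgLib.PLocal.U6J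

variable {G : Type*} [Group G] [Finite G] {d : G} {X : Type*} [Group X] [Finite X]
variable {π : ↥(Subgroup.centralizer ({d} : Set G)) →* X}
variable {z : ↥(Subgroup.centralizer ({d} : Set G))} {D : Set X}
variable (hzd : (z : G) = d) (hC : DCov π z) (hU : IsU6 X) (hD : Cfsg.IsThreeTranspositionGroup D)
include hzd hC hU hD

section Span

variable {E : Set X} (hE : Clique D E)
include hE

/-- The conjugates of `d` in the preimage of a span are conjugate under its normaliser. -/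
theorem norm_conj {x : G}
    (hx : x ∈ ((Subgroup.closure E).comap π).map (Subgroup.centralizer ({d} : Set G)).subtype)
    (hcx : IsConj d x) :
    ∃ n ∈ Subgroup.normalizer ((((Subgroup.closure E).comap π).map
      (Subgroup.centralizer ({d} : Set G)).subtype : Subgroup G) : Set G), n * d * n⁻¹ = x := by
  obtain ⟨A, eA⟩ : ∃ A, A = ((Subgroup.closure E).comap π).map
      (Subgroup.centralizer ({d} : Set G)).subtype := ⟨_, rfl⟩
  rw [← eA] at hx ⊢
  obtain ⟨g, hg⟩ := isConj_iff.1 hcx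
  have hAc : ∀ a ∈ A, a * x = x * a ∧ a * a = 1 := by
    rw [eA] at hx ⊢
    rintro _ ⟨a, ha, rfl⟩
    obtain ⟨u, hu, rfl⟩ := hx
    exact ⟨congrArg Subtype.val ((cover_span hC hU hD hE ha).2 u hu).eq,
      congrArg Subtype.val (cover_span hC hU hD hE ha).1⟩
  obtain ⟨B, eB⟩ : ∃ B : Subgroup ↥(Subgroup.centralizer ({d} : Set G)),
      B = (A.map (MulAut.conj g⁻¹).toMonoidHom).subgroupOf _ := ⟨_, rfl⟩
  have hle : A.map (MulAut.conj g⁻¹).toMonoidHom ≤ Subgroup.centralizer ({d} : Set G) := by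
    rintro _ ⟨a, ha, rfl⟩
    rw [Subgroup.mem_centralizer_singleton_iff]
    simp only [MulEquiv.coe_toMonoidHom, MulAut.conj_apply, inv_inv]
    calc g⁻¹ * a * g * d = g⁻¹ * (a * (g * d * g⁻¹)) * g := by group
      _ = g⁻¹ * ((g * d * g⁻¹) * a) * g := by rw [hg, (hAc a ha).1]
      _ = d * (g⁻¹ * a * g) := by group
  have hcard : Nat.card B = 1024 := by
    rw [eB, Nat.card_congr (Subgroup.subgroupOfEquivOfLe hle).toEquiv,
      Subgroup.card_map_of_injective (MulAut.conj g⁻¹).injective, eA,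
      Subgroup.card_map_of_injective (Subgroup.subtype_injective _), cover_comap_card hC hU hD hE]
  obtain ⟨E', hE', eE'⟩ := (cover_bound hC hU hD (B := B) fun b hb => by
    obtain ⟨a, ha, e⟩ := Subgroup.mem_subgroupOf.1 (eB ▸ hb)
    refine Subtype.ext ?_
    rw [Subgroup.coe_mul, ← e, ← map_mul, (hAc a ha).2, map_one]; rfl).2 hcard
  obtain ⟨k, hk⟩ := u6j_conj hU hD hE' hE
  obtain ⟨c, hc⟩ := hC.surj k
  have hcd : (c : G) * d = d * c := Subgroup.mem_centralizer_singleton_iff.1 c.2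
  refine ⟨g * (c : G)⁻¹, Subgroup.mem_normalizer_iff.2 fun a => ?_, ?_⟩
  · have step : ∀ b : G, b ∈ A ↔ g * (c : G)⁻¹ * b * (g * (c : G)⁻¹)⁻¹ ∈ A := by
      intro b
      have hA' : A.map (MulAut.conj g⁻¹).toMonoidHom =
          B.map (Subgroup.centralizer ({d} : Set G)).subtype := by
        rw [eB, Subgroup.map_subgroupOf_eq_of_le hle]
      have h1 : g * (c : G)⁻¹ * b * (g * (c : G)⁻¹)⁻¹ ∈ A ↔
          (c : G)⁻¹ * b * c ∈ B.map (Subgroup.centralizer ({d} : Set G)).subtype := by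
        rw [← hA', ← Subgroup.mem_map_iff_mem (f := (MulAut.conj g⁻¹).toMonoidHom)
          (MulAut.conj g⁻¹).injective]
        simp [mul_assoc]
      rw [h1, eE', eA]
      constructor
      · rintro ⟨v, hv, rfl⟩
        refine ⟨c⁻¹ * v * c, ?_, rfl⟩
        rw [SetLike.mem_coe, Subgroup.mem_comap, ← hk, closure_conj hU hD] at hv
        obtain ⟨w, hw, e⟩ := hv
        rw [SetLike.mem_coe, Subgroup.mem_comap, map_mul, map_mul, map_inv, hc, ← e]
        simpa [mul_assoc] using hw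
      · rintro ⟨v, hv, e⟩
        refine ⟨c * v * c⁻¹, ?_, ?_⟩
        · rw [SetLike.mem_coe, Subgroup.mem_comap, ← hk, closure_conj hU hD, map_mul, map_mul,
            map_inv, hc]
          exact ⟨π v, hv, rfl⟩
        · show (c : G) * (v : G) * (c : G)⁻¹ = b
          rw [show (v : G) = (c : G)⁻¹ * b * c from e]
          group
    exact step a
  · rw [← hg]
    calc g * (c : G)⁻¹ * d * (g * (c : G)⁻¹)⁻¹ = g * ((c : G)⁻¹ * (d * c)) * g⁻¹ := by group
      _ = g * d * g⁻¹ := by rw [← hcd, inv_mul_cancel_left]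

end Span

/-- **No double cover with a sign.** -/
theorem no_split (hd : orderOf d = 2) (χ : ↥(Subgroup.centralizer ({d} : Set G)) →* ℤˣ) (hχ : χ z = -1)
    (hnwc : ∃ g : G, g * d * g⁻¹ ∈ Subgroup.centralizer ({d} : Set G) ∧ g * d * g⁻¹ ≠ d)
    (h18 : ¬ 2 ^ 18 ∣ Nat.card G) : False := by
  obtain ⟨E, hE⟩ := u6j_clique_exists hU hD
  classical
  obtain ⟨W, eW⟩ : ∃ W, W = Subgroup.closure E := ⟨_, rfl⟩
  obtain ⟨A, eA⟩ : ∃ A, A = (W.comap π).map (Subgroup.centralizer ({d} : Set G)).subtype := ⟨_, rfl⟩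
  have hzA : z ∈ W.comap π := by rw [Subgroup.mem_comap, dcov_map_z hC]; exact one_mem _
  have hzz : z * z = 1 := dcov_sq hC
  have dne : d ≠ 1 := invol_ne_one hd
  have hconj1 : ¬ IsConj d 1 := fun h => dne (isConj_one_left.1 h)
  -- conjugates in the preimage
  obtain ⟨J, eJ⟩ : ∃ J : ↥(Subgroup.centralizer ({d} : Set G)) → Prop,
      J = fun u : ↥(Subgroup.centralizer ({d} : Set G)) => IsConj d (u : G) := ⟨_, rfl⟩
  have Jz : J z := by rw [eJ]; show IsConj d (z : G); rw [hzd]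
  have J1 : ¬ J 1 := by rw [eJ]; exact hconj1
  obtain ⟨Δ, eΔ⟩ : ∃ Δ : Finset ↥(Subgroup.centralizer ({d} : Set G)),
      ∀ u, u ∈ Δ ↔ u ∈ W.comap π ∧ J u := by
    haveI := Fintype.ofFinite ↥(Subgroup.centralizer ({d} : Set G))
    exact ⟨Finset.univ.filter fun u => u ∈ W.comap π ∧ J u, fun u => by simp⟩
  have hnc : {x : G | x ∈ A ∧ IsConj d x}.ncard = Δ.card := by
    rw [← Set.ncard_coe_finset, ← Set.ncard_image_of_injective _ (Subgroup.subtype_injective _)]
    congr 1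
    ext x
    simp only [eA, Set.mem_image, Finset.mem_coe, eΔ, Subgroup.mem_map, eJ, Set.mem_ofPred_eq]
    exact ⟨fun ⟨⟨u, hu, e⟩, hx⟩ => ⟨u, ⟨hu, by rw [show (u : G) = x from e]; exact hx⟩, e⟩,
      fun ⟨u, ⟨hu, hx⟩, e⟩ => ⟨⟨u, hu, e⟩, e ▸ hx⟩⟩
  -- fibres
  obtain ⟨fib, efib⟩ : ∃ fib : X → ℕ, fib = fun w => (Δ.filter fun u => π u = w).card := ⟨_, rfl⟩
  have hle2 : ∀ w, fib w ≤ 2 := by
    intro w
    obtain ⟨v, hv⟩ := hC.surj w
    rw [efib]
    refine (Finset.card_le_card (t := ({v, v * z} : Finset _)) fun u hu => ?_).trans Finset.card_le_two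
    have h := (Finset.mem_filter.1 hu).2
    rcases dcov_eq hC (h.trans hv.symm) with e | e <;> simp [e]
  have cnorm : ∀ {c : ↥(Subgroup.centralizer ({d} : Set G))}, π c ∈ setFix E →
      ∀ {u}, u ∈ W.comap π → c * u * c⁻¹ ∈ W.comap π := fun {c} hc {u} hu => by
    rw [Subgroup.mem_comap, map_mul, map_mul, map_inv, eW]
    exact (Subgroup.mem_normalizer_iff.1 ((u6j_fix_iff hU hD hE).1 hc) _).1 (eW ▸ hu)
  have Jconj : ∀ c u, J u → J (c * u * c⁻¹) := by
    rw [eJ]
    intro c u hu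
    exact hu.trans (isConj_iff.2 ⟨(c : G), rfl⟩)
  have hfconst : ∀ {a b : X}, (∃ k ∈ setFix E, k * a * k⁻¹ = b) → fib a ≤ fib b := by
    rintro a b ⟨k, hk, rfl⟩
    obtain ⟨c, rfl⟩ := hC.surj k
    rw [efib]
    refine Finset.card_le_card_of_injOn (fun u => c * u * c⁻¹) (fun u hu => ?_)
      (fun u _ v _ e => mul_left_cancel (mul_right_cancel e))
    simp only [Finset.coe_filter, Set.mem_ofPred_eq, eΔ] at hu ⊢
    exact ⟨⟨cnorm hk hu.1.1, Jconj c u hu.1.2⟩, by rw [map_mul, map_mul, map_inv, hu.2]⟩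
  obtain ⟨P, eP⟩ : ∃ P, P = pairSet E := ⟨_, rfl⟩
  obtain ⟨hPc, hPp⟩ := u6j_pairs hU hD hE
  rw [← eP] at hPc hPp
  obtain ⟨tr1, tr2, tr3⟩ := u6j_trans hU hD hE
  rw [← eP] at tr2 tr3
  rw [← eW] at tr3
  haveI := Fintype.ofFinite X
  obtain ⟨W0, hW0⟩ : ∃ W0 : Finset X, ∀ w, w ∈ W0 ↔ w ∈ W :=
    ⟨Finset.univ.filter (· ∈ W), fun w => by simp⟩
  obtain ⟨E0, hE0⟩ : ∃ E0 : Finset X, ∀ w, w ∈ E0 ↔ w ∈ E :=
    ⟨Finset.univ.filter (· ∈ E), fun w => by simp⟩
  obtain ⟨P0, hP0⟩ : ∃ P0 : Finset X, ∀ w, w ∈ P0 ↔ w ∈ P :=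
    ⟨Finset.univ.filter (· ∈ P), fun w => by simp⟩
  obtain ⟨R0, eR0⟩ : ∃ R0, R0 = W0 \ (insert 1 (E0 ∪ P0)) := ⟨_, rfl⟩
  have hR0 : ∀ w, w ∈ R0 ↔ w ∈ W ∧ (w ≠ 1 ∧ w ∉ E ∧ w ∉ P) := fun w => by
    simp [eR0, hW0, hE0, hP0]
  have ec : ∀ (s : Finset X) (S : Set X), (∀ w, w ∈ s ↔ w ∈ S) → s.card = S.ncard :=
    fun s S h => by rw [← Set.ncard_coe_finset]; exact congrArg _ (Set.ext h)
  have nE : E0.card = 21 := (ec _ _ hE0).trans hE.card
  have nP : P0.card = 210 := (ec _ _ hP0).trans hPc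
  have nW : W0.card = 512 := by
    rw [ec W0 (W : Set X) hW0, ← Nat.card_coe_set_eq, eW]
    exact u6j_span_card hU hD hE
  have dEP : Disjoint E0 P0 := Finset.disjoint_left.2 fun w h1 h2 =>
    (hPp w ((hP0 w).1 h2)).1 ((hE0 w).1 h1)
  have n1 : (1 : X) ∉ E0 ∪ P0 := fun h => (Finset.mem_union.1 h).elim
    (fun h => invol_ne_one (hD.1.1 _ (hE.sub ((hE0 _).1 h))) rfl)
    fun h => (hPp _ ((hP0 _).1 h)).2.1 rfl
  have hsub : insert 1 (E0 ∪ P0) ⊆ W0 := by
    intro w hw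
    rw [hW0, eW]
    simp only [Finset.mem_insert, Finset.mem_union, hE0, hP0] at hw
    rcases hw with rfl | h | h
    exacts [one_mem _, Subgroup.subset_closure h, (hPp w h).2.2]
  have nR : R0.card = 280 := by
    rw [eR0, Finset.card_sdiff_of_subset hsub, Finset.card_insert_of_notMem n1,
      Finset.card_union_of_disjoint dEP, nE, nP, nW]
  -- representatives
  obtain ⟨a₁, ha₁⟩ : ∃ a, a ∈ E := Set.nonempty_of_ncard_ne_zero (by rw [hE.card]; norm_num)
  obtain ⟨a₂, ha₂⟩ : ∃ a, a ∈ P := Set.nonempty_of_ncard_ne_zero (by rw [hPc]; norm_num)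
  obtain ⟨a₃, ha₃⟩ : ∃ a, a ∈ R0 := Finset.card_pos.1 (by rw [nR]; norm_num)
  have c1 : ∀ w ∈ E, fib w = fib a₁ := fun w hw =>
    le_antisymm (hfconst (tr1 w hw a₁ ha₁)) (hfconst (tr1 a₁ ha₁ w hw))
  have c2 : ∀ w ∈ P, fib w = fib a₂ := fun w hw =>
    le_antisymm (hfconst (tr2 w hw a₂ ha₂)) (hfconst (tr2 a₂ ha₂ w hw))
  have c3 : ∀ w ∈ R0, fib w = fib a₃ := fun w hw => by
    rw [hR0] at ha₃ hw
    exact le_antisymm (hfconst (tr3 w hw.1 a₃ ha₃.1 hw.2 ha₃.2))
      (hfconst (tr3 a₃ ha₃.1 w hw.1 ha₃.2 hw.2))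
  have f1 : fib 1 = 1 := by
    rw [efib]
    refine Finset.card_eq_one.2 ⟨z, ?_⟩
    ext u
    rw [Finset.mem_filter, Finset.mem_singleton, eΔ]
    constructor
    · rintro ⟨⟨-, hu⟩, h⟩
      rcases (hC.ker u).1 h with rfl | rfl
      exacts [absurd hu J1, rfl]
    · rintro rfl
      exact ⟨⟨hzA, Jz⟩, dcov_map_z hC⟩
  have hm : Δ.card = 1 + 21 * fib a₁ + 210 * fib a₂ + 280 * fib a₃ := by
    have h := Finset.card_eq_sum_card_fiberwise (f := π) (s := Δ) (t := W0)
      fun u hu => Finset.mem_coe.2 ((hW0 _).2 ((eΔ u).1 hu).1)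
    rw [← Finset.sdiff_union_of_subset hsub, ← eR0,
      Finset.sum_union (eR0 ▸ Finset.sdiff_disjoint), Finset.sum_insert n1,
      Finset.sum_union dEP] at h
    simp only [efib] at c1 c2 c3 f1 ⊢
    rw [h, f1, Finset.sum_congr rfl c3, Finset.sum_congr rfl fun w hw => c1 w ((hE0 w).1 hw),
      Finset.sum_congr rfl fun w hw => c2 w ((hP0 w).1 hw)]
    simp only [Finset.sum_const, smul_eq_mul, nE, nP, nR]
    ring
  -- the orbit
  have hdA : d ∈ A := eA ▸ ⟨z, hzA, hzd⟩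
  have horb : {x : G | ∃ m ∈ Subgroup.normalizer (A : Set G), m * d * m⁻¹ = x} =
      {x : G | x ∈ A ∧ IsConj d x} := by
    ext x
    constructor
    · rintro ⟨m, hm', rfl⟩
      exact ⟨(Subgroup.mem_normalizer_iff.1 hm' d).1 hdA, isConj_iff.2 ⟨m, rfl⟩⟩
    · rintro ⟨hx, hcx⟩
      rw [eA, eW] at hx ⊢
      exact norm_conj hzd hC hU hD hE hx hcx
  have hAcard : Nat.card A = 2 ^ 10 := by
    rw [eA, eW, Subgroup.card_map_of_injective (Subgroup.subtype_injective _),
      cover_comap_card hC hU hD hE]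
    norm_num
  -- carrying a property of `z` to every conjugate
  have move : ∀ (Φ : (↥(Subgroup.centralizer ({d} : Set G)) → Prop)), (∀ u, Φ u ↔ u ∈ Δ) →
      ∀ x ∈ Δ, ∃ τ : ↥(W.comap π) → ↥(W.comap π), (∀ u v, τ (u * v) = τ u * τ v) ∧
        (∀ u, (Φ (τ u).1 ↔ Φ u.1)) ∧ (τ ⟨z, hzA⟩).1 = x ∧ Function.Surjective τ := by
    intro Φ hΦ x hx
    obtain ⟨hxW, hxJ⟩ := (eΔ x).1 hx
    rw [eJ] at hxJ
    obtain ⟨n, hn, e⟩ : (x : G) ∈ {x : G | ∃ m ∈ Subgroup.normalizer (A : Set G), m * d * m⁻¹ = x} :=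
      horb.symm ▸ ⟨eA ▸ ⟨x, hxW, rfl⟩, hxJ⟩
    have hmem : ∀ (m : G), m ∈ Subgroup.normalizer (A : Set G) → ∀ u : ↥(W.comap π),
        ∃ v : ↥(W.comap π), (v.1 : G) = m * (u.1 : G) * m⁻¹ := fun m hm' u => by
      have h : m * (u.1 : G) * m⁻¹ ∈ A :=
        (Subgroup.mem_normalizer_iff.1 hm' _).1 (eA ▸ ⟨u.1, u.2, rfl⟩)
      rw [eA] at h
      obtain ⟨v, hv, e'⟩ := h
      exact ⟨⟨v, hv⟩, e'⟩
    choose τ hτ using hmem n hn
    refine ⟨τ, fun u v => Subtype.ext (Subtype.ext ?_), fun u => ?_, Subtype.ext ?_, fun v => ?_⟩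
    · simp only [hτ, Subgroup.coe_mul, mul_assoc]
      group
    · rw [hΦ, hΦ, eΔ, eΔ, eJ]
      simp only [SetLike.coe_mem, true_and, hτ]
      exact ⟨fun h => h.trans (isConj_iff.2 ⟨n⁻¹, by group⟩), fun h => h.trans (isConj_iff.2 ⟨n, rfl⟩)⟩
    · rw [hτ]
      show n * (z : G) * n⁻¹ = x
      rw [hzd, e]
    · obtain ⟨u, hu⟩ := hmem n⁻¹ (inv_mem hn) v
      exact ⟨u, Subtype.ext (Subtype.ext (by rw [hτ, hu]; group))⟩
  have hlift : ∀ {w : X}, w ∈ W → ∃ v, v ∈ W.comap π ∧ π v = w := fun {w} hw => by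
    obtain ⟨v, rfl⟩ := hC.surj w
    exact ⟨v, hw, rfl⟩
  have fmem : ∀ {w : X} {v}, v ∈ W.comap π → π v = w →
      fib w = (if v ∈ Δ then 1 else 0) + if v * z ∈ Δ then 1 else 0 := by
    intro w v _ hv
    have hne : v ≠ v * z := fun e => hC.ne (mul_eq_left.1 e.symm)
    simp only [efib]
    rw [show (Δ.filter fun u => π u = w) = ({v, v * z} : Finset _).filter (· ∈ Δ) from ?_,
      Finset.card_filter, Finset.sum_pair hne]
    ext u
    simp only [Finset.mem_filter, Finset.mem_insert, Finset.mem_singleton]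
    constructor
    · rintro ⟨hu, h⟩
      exact ⟨dcov_eq hC (h.trans hv.symm), hu⟩
    · rintro ⟨rfl | rfl, hu⟩
      exacts [⟨hu, hv⟩, ⟨hu, by rw [map_mul, dcov_map_z hC, mul_one, hv]⟩]
  have hclass : ∀ v ∈ W.comap π, v ≠ 1 → v ≠ z →
      fib (π v) = fib a₁ ∨ fib (π v) = fib a₂ ∨ fib (π v) = fib a₃ := by
    intro v hv h1 h2
    have hne : π v ≠ 1 := fun h => ((hC.ker v).1 h).elim h1 h2
    by_cases hvE : π v ∈ E
    · exact Or.inl (c1 _ hvE)
    by_cases hvP : π v ∈ P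
    · exact Or.inr (Or.inl (c2 _ hvP))
    exact Or.inr (Or.inr (c3 _ ((hR0 _).2 ⟨hv, hne, hvE, hvP⟩)))
  have zΔ : z ∈ Δ := (eΔ z).2 ⟨hzA, Jz⟩
  have oneΔ : (1 : ↥(Subgroup.centralizer ({d} : Set G))) ∉ Δ := fun h => J1 ((eΔ 1).1 h).2
  -- some other conjugate lies in the span
  have hgt : 1 < Δ.card := by
    obtain ⟨g, hgC, hgne⟩ := hnwc
    have hy2 : (⟨g * d * g⁻¹, hgC⟩ : ↥(Subgroup.centralizer ({d} : Set G))) * ⟨g * d * g⁻¹, hgC⟩ = 1 :=
      Subtype.ext (by
        show g * d * g⁻¹ * (g * d * g⁻¹) = 1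
        rw [show g * d * g⁻¹ * (g * d * g⁻¹) = g * (d * d) * g⁻¹ by group, invol_mul_self hd]
        group)
    obtain ⟨k, hk⟩ := u6j_invol_mem hU hD hE (x := π ⟨g * d * g⁻¹, hgC⟩)
      (by rw [← map_mul, hy2, map_one])
    obtain ⟨c, rfl⟩ := hC.surj k
    refine Finset.one_lt_card.2 ⟨c * ⟨g * d * g⁻¹, hgC⟩ * c⁻¹, (eΔ _).2 ⟨?_, Jconj _ _ ?_⟩, z, zΔ, ?_⟩
    · rw [Subgroup.mem_comap, map_mul, map_mul, map_inv, eW]; exact hk
    · rw [eJ]; exact isConj_iff.2 ⟨g, rfl⟩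
    · intro e
      rw [mul_inv_eq_iff_eq_mul, ← (hC.central c).eq] at e
      exact hgne ((congrArg Subtype.val (mul_left_cancel e)).trans hzd)
  -- no prime factor of large order
  have hprime : ∀ p : ℕ, p.Prime → p ∣ Δ.card → (∀ j < 10, 2 ^ 10 % p ≠ 2 ^ j % p) → False := by
    intro p hp hpd h
    haveI := Fact.mk hp
    refine orbit_prime hAcard hdA ?_ h
    rwa [horb, hnc]
  -- not every element
  have hnot_all : ¬ (fib a₁ = 2 ∧ fib a₂ = 2 ∧ fib a₃ = 2) := by
    rintro ⟨q1, q2, q3⟩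
    have hall : ∀ v ∈ W.comap π, v ≠ 1 → v ∈ Δ := fun v hv h1 => by
      by_cases h2 : v = z
      · exact h2 ▸ zΔ
      by_contra h
      have hf := fmem hv rfl
      rw [if_neg h] at hf
      rcases hclass v hv h1 h2 with e | e | e <;> rw [e] at hf <;> split_ifs at hf <;> omega
    haveI : Fact (Nat.Prime 2) := ⟨Nat.prime_two⟩
    obtain ⟨Q⟩ := (inferInstance : Nonempty (Sylow 2 X))
    obtain ⟨a, ha⟩ : ∃ a ∈ (Q : Subgroup X), a * a ≠ 1 := by
      by_contra! h
      have h1 := (u6j_elem_bound hU hD (A := (Q : Subgroup X)) h).1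
      have h2 : 2 ^ 15 ∣ Nat.card (Q : Subgroup X) :=
        Q.pow_dvd_card_of_pow_dvd_card (by rw [u6_card hU]; norm_num)
      have := Nat.le_of_dvd Nat.card_pos h2
      omega
    obtain ⟨b, hb, hb4⟩ : ∃ b : X, b * b ≠ 1 ∧ b * b * (b * b) = 1 := by
      obtain ⟨k, hk⟩ := Q.isPGroup' ⟨a, ha.1⟩
      have hk' : a ^ (2 ^ k) = 1 := congrArg Subtype.val hk
      clear hk
      induction k generalizing a with
      | zero => rw [pow_zero, pow_one] at hk'; exact absurd (by rw [hk', one_mul]) ha.2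
      | succ k ih =>
        by_cases h4 : a * a * (a * a) = 1
        · exact ⟨a, ha.2, h4⟩
        · refine ih (a * a) ⟨mul_mem ha.1 ha.1, h4⟩ ?_
          rw [← pow_two, ← pow_mul, mul_comm, ← pow_succ]
          exact hk'
    obtain ⟨k, hk⟩ := u6j_invol_mem hU hD hE hb4
    obtain ⟨c, hc⟩ := hC.surj (k * b * k⁻¹)
    have hcc : π (c * c) = k * (b * b) * k⁻¹ := by rw [map_mul, hc]; group
    have hv : c * c ∈ W.comap π := by rw [Subgroup.mem_comap, hcc, eW]; exact hk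
    have hne : c * c ≠ 1 := fun h => by
      rw [h, map_one, eq_comm, conj_eq_one_iff] at hcc
      exact hb hcc
    have hJ := ((eΔ _).1 (hall _ hv hne)).2
    rw [eJ] at hJ
    obtain ⟨g, hg⟩ := isConj_iff.1 hJ
    refine not_square_of_lifts hd hzd hC (u6_dcov_lift hC hU) ⟨g⁻¹ * (c : G) * g, ?_⟩
    rw [pow_two, show g⁻¹ * (c : G) * g * (g⁻¹ * (c : G) * g) = g⁻¹ * ((c : G) * c) * g by group,
      ← Subgroup.coe_mul, ← hg]
    group
  -- both lifts of the generic elements and no others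
  have hnot_gen : ¬ (fib a₁ = 0 ∧ fib a₂ = 0 ∧ fib a₃ = 2) := by
    rintro ⟨q1, q2, q3⟩
    have P0' : ∀ v ∈ W.comap π, v ∈ Δ → v ≠ z → v * z ∈ Δ := fun v hv hvΔ h2 => by
      by_contra h
      have hf := fmem hv rfl
      rw [if_neg h, if_pos hvΔ] at hf
      rcases hclass v hv (fun e => oneΔ (e ▸ hvΔ)) h2 with e | e | e <;> rw [e] at hf <;> omega
    have Pall : ∀ x ∈ Δ, ∀ v ∈ Δ, v ≠ x → v * x ∈ Δ := by
      intro x hx v hv hne
      obtain ⟨τ, hmul, hiff, hz', hsurj⟩ := move (· ∈ Δ) (fun _ => Iff.rfl) x hx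
      obtain ⟨u, hu⟩ := hsurj ⟨v, ((eΔ v).1 hv).1⟩
      have hu1 : (τ u).1 = v := congrArg Subtype.val hu
      have huz : u.1 ≠ z := fun e => hne (by
        rw [← hu1, ← hz', show u = ⟨z, hzA⟩ from Subtype.ext e])
      have hh := (hiff (u * ⟨z, hzA⟩)).2 (P0' u.1 u.2 ((hiff u).1 (hu1.symm ▸ hv)) huz)
      rwa [hmul, Subgroup.coe_mul, hu1, hz'] at hh
    let H : Subgroup ↥(Subgroup.centralizer ({d} : Set G)) :=
      { carrier := {v | v = 1 ∨ v ∈ Δ}
        one_mem' := Or.inl rfl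
        mul_mem' := by
          rintro v x (rfl | hv) (rfl | hx)
          · exact Or.inl (one_mul 1)
          · exact Or.inr (by rwa [one_mul])
          · exact Or.inr (by rwa [mul_one])
          · by_cases e : v = x
            · subst e
              exact Or.inl ((cover_span hC hU hD hE (eW ▸ ((eΔ v).1 hv).1)).1)
            · exact Or.inr (Pall x hx v hv e)
        inv_mem' := by
          rintro v (rfl | hv)
          · exact Or.inl inv_one
          · refine Or.inr ?_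
            rwa [inv_eq_of_mul_eq_one_right (cover_span hC hU hD hE (eW ▸ ((eΔ v).1 hv).1)).1] }
    have hcard : Nat.card H = 562 := by
      rw [show Nat.card H = (insert 1 Δ).card from ?_, Finset.card_insert_of_notMem oneΔ, hm, q1, q2,
        q3]
      rw [← Nat.card_eq_finsetCard]
      exact Nat.card_congr (Equiv.subtypeEquivRight fun v => by simp [H])
    have hHW : H ≤ W.comap π := fun v hv => hv.elim (fun e => e ▸ one_mem _) fun h => ((eΔ v).1 h).1
    have hdv := Subgroup.card_dvd_of_le hHW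
    rw [hcard, eW, cover_comap_card hC hU hD hE] at hdv
    norm_num at hdv
  -- the two-part of an orbit is at most two
  have hfour : ¬ 4 ∣ Δ.card := by
    intro h4
    obtain ⟨N, eN⟩ : ∃ N, N = Subgroup.normalizer (A : Set G) := ⟨_, rfl⟩
    letI : MulAction N G := MulAction.compHom G ((MulAut.conj : G →* MulAut G).comp N.subtype)
    have horb' : MulAction.orbit N d = {x : G | x ∈ A ∧ IsConj d x} := by
      rw [← horb, ← eN]
      ext x
      exact ⟨fun ⟨m, e⟩ => ⟨m, m.2, e⟩, fun ⟨m, hm', e⟩ => ⟨⟨m, hm'⟩, e⟩⟩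
    have h := Nat.card_congr (MulAction.orbitProdStabilizerEquivGroup N d)
    rw [Nat.card_prod, Nat.card_coe_set_eq, horb', hnc] at h
    obtain ⟨B, eB⟩ : ∃ B, B = ((Subgroup.normalizer (W : Set X)).comap π).map
        (Subgroup.centralizer ({d} : Set G)).subtype := ⟨_, rfl⟩
    have hB : 2 ^ 16 ∣ Nat.card B := by
      rw [eB, Subgroup.card_map_of_injective (Subgroup.subtype_injective _), dcov_card_comap hC,
        show (2 : ℕ) ^ 16 = 2 * 2 ^ 15 by norm_num]
      exact Nat.mul_dvd_mul_left 2 (eW ▸ fix_card hU hD hE)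
    have hle : B ≤ (MulAction.stabilizer N d).map N.subtype := by
      rw [eB]
      rintro _ ⟨c, hc, rfl⟩
      have hcN : (c : G) ∈ N := by
        rw [eN, eA, Subgroup.mem_normalizer_iff]
        have fwd : ∀ c : ↥(Subgroup.centralizer ({d} : Set G)),
            π c ∈ Subgroup.normalizer (W : Set X) → ∀ a : G,
            a ∈ (W.comap π).map (Subgroup.centralizer ({d} : Set G)).subtype →
            (c : G) * a * (c : G)⁻¹ ∈ (W.comap π).map (Subgroup.centralizer ({d} : Set G)).subtype := by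
          rintro c hc _ ⟨u, hu, rfl⟩
          refine ⟨c * u * c⁻¹, ?_, rfl⟩
          rw [SetLike.mem_coe, Subgroup.mem_comap, map_mul, map_mul, map_inv]
          exact (Subgroup.mem_normalizer_iff.1 hc _).1 hu
        refine fun a => ⟨fwd c hc a, fun ha => ?_⟩
        have hi : π c⁻¹ ∈ Subgroup.normalizer (W : Set X) := by rw [map_inv]; exact inv_mem hc
        have h' := fwd c⁻¹ hi _ ha
        simpa [mul_assoc] using h'
      refine ⟨⟨c, hcN⟩, ?_, rfl⟩
      show (c : G) * d * (c : G)⁻¹ = d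
      rw [mul_inv_eq_iff_eq_mul]
      exact Subgroup.mem_centralizer_singleton_iff.1 c.2
    have h16 := hB.trans (Subgroup.card_dvd_of_le hle)
    rw [Subgroup.card_map_of_injective (Subgroup.subtype_injective N)] at h16
    refine h18 (dvd_trans ?_ (Subgroup.card_subgroup_dvd_card N))
    rw [← h, show (2 : ℕ) ^ 18 = 4 * 2 ^ 16 by norm_num]
    exact Nat.mul_dvd_mul h4 h16
  -- twenty-two
  have h22 : ¬ (fib a₁ = 1 ∧ fib a₂ = 0 ∧ fib a₃ = 0) := by
    rintro ⟨q1, q2, q3⟩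
    subst eW
    refine no_twentytwo hC hU hD hE χ hχ Δ zΔ (by rw [hm, q1, q2, q3]) (fun u hu => ?_) (fun e he => ?_)
      (fun c hc u hu => (eΔ _).2 ⟨cnorm hc ((eΔ u).1 hu).1, Jconj c u ((eΔ u).1 hu).2⟩) fun x hx => ?_
    · by_cases hne : u = z
      · exact Or.inl hne
      refine Or.inr ?_
      have hpos : 0 < fib (π u) := by
        rw [efib]
        exact Finset.card_pos.2 ⟨u, Finset.mem_filter.2 ⟨hu, rfl⟩⟩
      have h1 : π u ≠ 1 := fun e => ((hC.ker u).1 e).elim (fun e' => oneΔ (e' ▸ hu)) hne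
      by_contra hnE
      by_cases hvP : π u ∈ P
      · rw [c2 _ hvP, q2] at hpos; omega
      · rw [c3 _ ((hR0 _).2 ⟨((eΔ u).1 hu).1, h1, hnE, hvP⟩), q3] at hpos; omega
    · have hf : fib e = 1 := (c1 e he).trans q1
      rw [efib] at hf
      obtain ⟨u, hu⟩ := Finset.card_eq_one.1 hf
      have hu' := Finset.mem_filter.1 (hu.symm ▸ Finset.mem_singleton_self u :
        u ∈ Δ.filter fun v => π v = e)
      exact ⟨u, hu'.1, hu'.2, fun v hv e' => Finset.mem_singleton.1 (hu ▸ Finset.mem_filter.2 ⟨hv, e'⟩)⟩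
    · obtain ⟨hxW, hxJ⟩ := (eΔ x).1 hx
      rw [eJ] at hxJ
      obtain ⟨n, hn, e⟩ : (x : G) ∈ {x : G | ∃ m ∈ Subgroup.normalizer (A : Set G), m * d * m⁻¹ = x} :=
        horb.symm ▸ ⟨eA ▸ ⟨x, hxW, rfl⟩, hxJ⟩
      have mk : ∀ m ∈ Subgroup.normalizer (A : Set G), ∃ σ,
          Sym Δ ((Subgroup.closure E).comap π) σ ∧
          ∀ u ∈ (Subgroup.closure E).comap π, (σ u : G) = m * (u : G) * m⁻¹ := by
        intro m hm'
        have hmem : ∀ u : ↥((Subgroup.closure E).comap π),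
            ∃ v : ↥((Subgroup.closure E).comap π), (v.1 : G) = m * (u.1 : G) * m⁻¹ := fun u => by
          have h : m * (u.1 : G) * m⁻¹ ∈ A :=
            (Subgroup.mem_normalizer_iff.1 hm' _).1 (eA ▸ ⟨u.1, u.2, rfl⟩)
          rw [eA] at h
          obtain ⟨v, hv, e'⟩ := h
          exact ⟨⟨v, hv⟩, e'⟩
        choose τ hτ using hmem
        obtain ⟨σ, eσ⟩ : ∃ σ : ↥(Subgroup.centralizer ({d} : Set G)) → ↥(Subgroup.centralizer ({d} : Set G)),
            ∀ u (hu : u ∈ (Subgroup.closure E).comap π), σ u = (τ ⟨u, hu⟩).1 :=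
          ⟨fun u => if h : u ∈ (Subgroup.closure E).comap π then (τ ⟨u, h⟩).1 else u,
            fun u hu => dif_pos hu⟩
        have hval : ∀ u ∈ (Subgroup.closure E).comap π, (σ u : G) = m * (u : G) * m⁻¹ := fun u hu => by
          rw [eσ u hu, hτ]
        refine ⟨σ, ⟨fun u hu => by rw [eσ u hu]; exact (τ _).2, fun u hu v hv => Subtype.ext ?_,
          fun u hu => ?_⟩, hval⟩
        · rw [Subgroup.coe_mul, hval _ (mul_mem hu hv), hval u hu, hval v hv, Subgroup.coe_mul]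
          group
        · obtain ⟨huW, huJ⟩ := (eΔ u).1 hu
          refine (eΔ _).2 ⟨by rw [eσ u huW]; exact (τ _).2, ?_⟩
          rw [eJ] at huJ ⊢
          show IsConj d _
          rw [hval u huW]
          exact huJ.trans (isConj_iff.2 ⟨m, rfl⟩)
      obtain ⟨σ, hσ, vσ⟩ := mk n⁻¹ (inv_mem hn)
      obtain ⟨σ', hσ', vσ'⟩ := mk n hn
      refine ⟨σ, σ', hσ, hσ', Subtype.ext ?_, fun u hu => Subtype.ext ?_⟩
      · rw [vσ x hxW, hzd, ← e]; group
      · rw [vσ' _ (hσ.mem u hu), vσ u hu]; group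
  -- the cases
  have b1 := hle2 a₁
  have b2 := hle2 a₂
  have b3 := hle2 a₃
  rw [hm] at hgt hprime hfour
  generalize fib a₁ = x₁ at b1 hgt hprime hnot_all hnot_gen hfour h22
  generalize fib a₂ = x₂ at b2 hgt hprime hnot_all hnot_gen hfour h22
  generalize fib a₃ = x₃ at b3 hgt hprime hnot_all hnot_gen hfour h22
  interval_cases x₁ <;> interval_cases x₂ <;> interval_cases x₃
  all_goals first
    | omega
    | exact h22 ⟨rfl, rfl, rfl⟩
    | (refine (hfour ?_).elim; norm_num; done)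
    | exact absurd ⟨rfl, rfl, rfl⟩ hnot_all
    | exact absurd ⟨rfl, rfl, rfl⟩ hnot_gen
    | (refine (hprime 281 (by norm_num) ?_ (by decide)).elim; norm_num; done)
    | (refine (hprime 491 (by norm_num) ?_ (by decide)).elim; norm_num; done)
    | (refine (hprime 257 (by norm_num) ?_ (by decide)).elim; norm_num; done)
    | (refine (hprime 421 (by norm_num) ?_ (by decide)).elim; norm_num; done)
    | (refine (hprime 701 (by norm_num) ?_ (by decide)).elim; norm_num; done)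
    | (refine (hprime 109 (by norm_num) ?_ (by decide)).elim; norm_num; done)
    | (refine (hprime 151 (by norm_num) ?_ (by decide)).elim; norm_num; done)
    | (refine (hprime 97 (by norm_num) ?_ (by decide)).elim; norm_num; done)
    | (refine (hprime 29 (by norm_num) ?_ (by decide)).elim; norm_num; done)
    | (refine (hprime 211 (by norm_num) ?_ (by decide)).elim; norm_num; done)
    | (refine (hprime 13 (by norm_num) ?_ (by decide)).elim; norm_num; done)
    | (refine (hprime 19 (by norm_num) ?_ (by decide)).elim; norm_num; done)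
    | (refine (hprime 167 (by norm_num) ?_ (by decide)).elim; norm_num; done)
    | (refine (hprime 43 (by norm_num) ?_ (by decide)).elim; norm_num; done)
    | (refine (hprime 67 (by norm_num) ?_ (by decide)).elim; norm_num; done)
    | (refine (hprime 23 (by norm_num) ?_ (by decide)).elim; norm_num; done)
    | (refine (hprime 271 (by norm_num) ?_ (by decide)).elim; norm_num; done)
    | (refine (hprime 463 (by norm_num) ?_ (by decide)).elim; norm_num; done)
    | (refine (hprime 743 (by norm_num) ?_ (by decide)).elim; norm_num; done)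

end CfsgLib.Recog.Fi22Cent
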