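import Cfsg.Agent.Lib.Recog.Fi22Cent.SetupFacts
import Cfsg.Agent.Lib.Recog.Fi22Cent.SplitCount
import Cfsg.Agent.Lib.Classical.UnitaryFieldEquiv
import Cfsg.Agent.S1713

/-!
With a swap and `C(z₁)/⟨z₁⟩ ≅ PSU₆(2)` the centralizer of `z₁` is quasisimple, so `G` is the Fischer
group `Fi₂₂`.
-/

set_option autoImplicit false
set_option linter.unusedSectionVars false

namespace CfsgLib.Recog.Fi22Cent

open Subgroup Cfsg
open CfsgLib.Trans3.Fi (IsU6 DCov u6_simple u6_exists_group u6Facts)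

variable {G : Type*} [Group G] [Finite G] {F : Type*} [Field F] [Fintype F]

namespace Setup

variable (S : Setup G F)

include S in
/-- `2¹⁸` does not divide the order of the group. -/
theorem not_two_eighteen : ¬ 2 ^ 18 ∣ Nat.card G := by
  classical
  haveI : Fact (Nat.Prime 2) := ⟨Nat.prime_two⟩
  intro h18
  set H := centralizer ({S.z} : Set G) with hH
  obtain ⟨T0, hT0⟩ : ∃ T0 : Sylow 2 H, S.J.subgroupOf H ≤ (T0 : Subgroup H) :=
    IsPGroup.exists_le_sylow (S.isPGroup_J.comap_subtype)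
  set T : Subgroup G := (T0 : Subgroup H).map H.subtype with hT
  have hTH : T ≤ H := map_subtype_le _
  have hJT : S.J ≤ T := fun x hx => ⟨⟨x, S.J_cent hx⟩, hT0 (mem_subgroupOf.2 hx), rfl⟩
  have hT2 : IsPGroup 2 T := T0.2.map _
  -- the normalizer of `T` lies in `C(z)`
  have hN : normalizer (T : Set G) ≤ H := by
    intro n hn
    set u := n * S.z * n⁻¹ with hu
    have huT : u ∈ T := (mem_normalizer_iff.1 hn S.z).1 (hJT S.z_mem)
    have hucent : ∀ t ∈ T, u * t = t * u := fun t ht => by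
      have ht' : n⁻¹ * t * n ∈ T := by
        rw [mem_normalizer_iff.1 hn, show n * (n⁻¹ * t * n) * n⁻¹ = t by group]; exact ht
      calc u * t = n * (S.z * (n⁻¹ * t * n)) * n⁻¹ := by rw [hu]; group
        _ = n * ((n⁻¹ * t * n) * S.z) * n⁻¹ := by rw [mem_centralizer_singleton_iff.1 (hTH ht')]
        _ = t * u := by rw [hu]; group
    have huJ : u ∈ S.J := S.self_cent (mem_inf.2 ⟨hTH huT, mem_centralizer_iff.2 fun j hj => (hucent j (hJT hj)).symm⟩)
    rcases S.center u huJ (fun y hy => hucent y (hJT hy)) with e | e | e | e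
    · exact absurd (conj_eq_one_iff.1 e) S.z_ne
    · exact mem_centralizer_singleton_iff.2 (mul_inv_eq_iff_eq_mul.1 e)
    · exact absurd (isConj_iff.2 ⟨n, e⟩) S.not_conj
    · exact absurd (isConj_iff.2 ⟨n, e⟩) S.not_conj'
  obtain ⟨P, hP⟩ := hT2.exists_le_sylow
  have hPT : T = P := by
    by_contra hne
    haveI : Group.IsNilpotent P := P.2.isNilpotent
    have hlt : T.subgroupOf P < ⊤ := lt_top_iff_ne_top.2 fun e => hne (le_antisymm hP (subgroupOf_eq_top.1 e))
    obtain ⟨x, hxN, hxT⟩ := SetLike.exists_of_lt (Group.normalizerCondition_of_isNilpotent _ hlt)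
    have hxn : (x : G) ∈ normalizer (T : Set G) := mem_normalizer_iff.2 fun t => by
      constructor
      · intro ht
        exact mem_subgroupOf.1 ((mem_normalizer_iff.1 hxN ⟨t, hP ht⟩).1 (mem_subgroupOf.2 ht))
      · intro ht
        have htP : t ∈ (P : Subgroup G) := by
          have := mul_mem (mul_mem (inv_mem x.2) (hP ht)) x.2
          simpa [mul_assoc] using this
        exact mem_subgroupOf.1 ((mem_normalizer_iff.1 hxN ⟨t, htP⟩).2 (mem_subgroupOf.2 ht))
    have hmax : (P : Subgroup G) ⊓ H ≤ T := by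
      have h1 : (T0 : Subgroup H) ≤ ((P : Subgroup G) ⊓ H).subgroupOf H := fun t ht =>
        mem_subgroupOf.2 (mem_inf.2 ⟨hP ⟨t, ht, rfl⟩, t.2⟩)
      have h2 := T0.3 ((P.2.to_le inf_le_left).comap_subtype) h1
      intro t ht
      obtain ⟨h3, h4⟩ := mem_inf.1 ht
      exact ⟨⟨t, h4⟩, h2 ▸ mem_subgroupOf.2 (mem_inf.2 ⟨h3, h4⟩), rfl⟩
    exact hxT (mem_subgroupOf.2 (hmax (mem_inf.2 ⟨x.2, hN hxn⟩)))
  have hc : Nat.card T ∣ 53084160 := by
    rw [← S.card_H]
    exact card_dvd_of_le hTH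
  rw [hPT] at hc
  have h := (P.pow_dvd_card_of_pow_dvd_card h18).trans hc
  norm_num at h

/-- With a swap the centralizer of `z₁` is quasisimple over `PSU₆(2)`. -/
theorem fi22_of_swap (hw : S.Swap) (hU : S.U6) : Cfsg.Spor.IsoFi22 G := by
  classical
  obtain ⟨P, hP, hP1, -, -, ⟨π₀, hs₀, hk₀⟩, hidx, -⟩ := hU
  rw [S.cent_inf_of_swap hw, S.card_K] at hidx
  have hle : centralizer ({S.z1} : Set G) ≤ P := relIndex_eq_one.1 (by omega)
  -- a field of order four in the lowest universe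
  haveI : Fact (Nat.Prime 2) := ⟨Nat.prime_two⟩
  letI : Fintype (GaloisField 2 2) := Fintype.ofFinite _
  have hF0 : Fintype.card (GaloisField 2 2) = 4 := by
    rw [← Nat.card_eq_fintype_card, GaloisField.card 2 2 two_ne_zero]; norm_num
  obtain ⟨ι⟩ := CfsgLib.Classical.nonempty_psu_fieldEquiv
    (FiniteField.ringEquivOfCardEq (K := F) (K' := GaloisField 2 2) (S.hF.trans hF0.symm)) 6 2
  obtain ⟨π, hπd⟩ : ∃ π : centralizer ({S.z1} : Set G) →* PSU 6 (GaloisField 2 2) 2,
      π = ι.toMonoidHom.comp (π₀.comp (inclusion hle)) := ⟨_, rfl⟩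
  have hπ : ∀ x : centralizer ({S.z1} : Set G), π x = ι (π₀ ⟨x, hle x.2⟩) := fun x => by
    rw [hπd]; rfl
  have hsurj : Function.Surjective π := fun y => by
    obtain ⟨p, hp⟩ := hs₀ (ι.symm y)
    exact ⟨⟨p, hP p.2⟩, by rw [hπ, show (⟨(p : G), hle (hP p.2)⟩ : P) = p from rfl, hp,
      MulEquiv.apply_symm_apply]⟩
  obtain ⟨zc, hzc⟩ : ∃ zc : centralizer ({S.z1} : Set G), (zc : G) = S.z1 := ⟨⟨S.z1, hP hP1⟩, rfl⟩
  have hker : ∀ x : centralizer ({S.z1} : Set G), π x = 1 ↔ x = 1 ∨ x = zc := fun x => by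
    rw [hπ, EmbeddingLike.map_eq_one_iff, hk₀]
    exact or_congr ⟨fun h => Subtype.ext h, fun h => congrArg Subtype.val h⟩
      ⟨fun h => Subtype.ext (h.trans hzc.symm), fun h => (congrArg Subtype.val h).trans hzc⟩
  have hC : DCov π zc := ⟨hsurj, fun e => S.z1_ne (by rw [← hzc, e]; rfl), fun x => Subtype.ext (by
    show (x : G) * zc = zc * x
    rw [hzc]; exact mem_centralizer_singleton_iff.1 x.2), hker⟩
  have hU6 : IsU6 (PSU 6 (GaloisField 2 2) 2) := ⟨_, _, _, hF0, ⟨MulEquiv.refl _⟩⟩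
  haveI : Finite (PSU 6 (GaloisField 2 2) 2) := Finite.of_surjective π hsurj
  obtain ⟨D, hD⟩ := u6_exists_group hU6
  have hcen : Subgroup.center (PSU 6 (GaloisField 2 2) 2) = ⊥ := (u6Facts hU6 hD).center
  haveI := u6_simple hU6
  have hd : orderOf S.z1 = 2 := orderOf_eq_prime (by rw [pow_two, S.z1_sq]) S.z1_ne
  have hnwc : ∃ g : G, g * S.z1 * g⁻¹ ∈ centralizer ({S.z1} : Set G) ∧ g * S.z1 * g⁻¹ ≠ S.z1 := by
    obtain ⟨h, -, e⟩ := hw
    exact ⟨h, by rw [e]; exact mul_mem S.z_cent1 (hP hP1), e ▸ S.zz1_ne_z1⟩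
  -- perfect
  obtain ⟨C', eC'⟩ : ∃ C', C' = _root_.commutator (centralizer ({S.z1} : Set G)) := ⟨_, rfl⟩
  haveI : C'.Normal := eC' ▸ inferInstance
  have hmap : C'.map π = ⊤ := by
    rw [eC', _root_.commutator_def, map_commutator, map_top_of_surjective _ hsurj,
      ← _root_.commutator_def]
    rcases (inferInstance : (_root_.commutator (PSU 6 (GaloisField 2 2) 2)).Normal).eq_bot_or_eq_top with h | h
    · exfalso
      rw [_root_.commutator_eq_bot_iff_center_eq_top, hcen] at h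
      exact bot_ne_top h
    · exact h
  have hperf : C' = ⊤ := by
    by_contra hne
    have hzC : zc ∉ C' := fun hz' => hne (eq_top_iff.2 fun x _ => by
      obtain ⟨y, hy, e⟩ := (hmap ▸ mem_top (π x) : π x ∈ C'.map π)
      rcases (hker (y⁻¹ * x)).1 (by rw [map_mul, map_inv, e, inv_mul_cancel]) with h | h
      · rwa [← inv_mul_eq_one.1 h]
      · rw [inv_mul_eq_iff_eq_mul] at h
        exact h ▸ mul_mem hy hz')
    have hidx2 : C'.index = 2 := by
      have hall : ∀ x, x ∈ C' ∨ x * zc ∈ C' := fun x => by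
        obtain ⟨y, hy, e⟩ := (hmap ▸ mem_top (π x) : π x ∈ C'.map π)
        rcases (hker (x⁻¹ * y)).1 (by rw [map_mul, map_inv, e, inv_mul_cancel]) with h | h
        · rw [inv_mul_eq_one] at h
          exact Or.inl (h.symm ▸ hy)
        · rw [inv_mul_eq_iff_eq_mul] at h
          exact Or.inr (h ▸ hy)
      rw [index_eq_two_iff]
      refine ⟨zc, fun x => ?_⟩
      rcases hall x with h | h
      · refine Or.inr ⟨h, fun h' => hzC ?_⟩
        have := mul_mem (inv_mem h) h'
        rwa [inv_mul_cancel_left] at this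
      · refine Or.inl ⟨h, fun h' => hzC ?_⟩
        have := mul_mem (inv_mem h') h
        rwa [inv_mul_cancel_left] at this
    let χ : centralizer ({S.z1} : Set G) →* ℤˣ :=
      MonoidHom.mk' (fun x => if x ∈ C' then 1 else -1) fun a b => by
        have h := mul_mem_iff_of_index_two hidx2 (a := a) (b := b)
        by_cases ha : a ∈ C' <;> by_cases hb : b ∈ C' <;> simp [h, ha, hb]
    exact no_split hzc hC hU6 hD hd χ (if_neg hzC) hnwc S.not_two_eighteen
  -- quasisimple
  obtain ⟨N, eN⟩ : ∃ N, N = (zpowers S.z1).subgroupOf (centralizer ({S.z1} : Set G)) := ⟨_, rfl⟩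
  have hNk : N = π.ker := by
    ext x
    rw [eN, mem_subgroupOf, MonoidHom.mem_ker, hker]
    constructor
    · intro h
      obtain ⟨k, hk⟩ := mem_zpowers_iff.1 h
      rcases Int.even_or_odd' k with ⟨j, rfl | rfl⟩
      · refine Or.inl (Subtype.ext (hk.symm.trans ?_))
        rw [zpow_mul, zpow_two, S.z1_sq, one_zpow]; rfl
      · refine Or.inr (Subtype.ext (hk.symm.trans ?_))
        rw [zpow_add, zpow_mul, zpow_two, S.z1_sq, one_zpow, one_mul, zpow_one, hzc]
    · rintro (rfl | rfl)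
      · exact one_mem _
      · rw [hzc]; exact mem_zpowers _
  haveI : ((zpowers S.z1).subgroupOf (centralizer ({S.z1} : Set G))).Normal := by
    rw [← eN, hNk]; infer_instance
  have hcC : Subgroup.center (centralizer ({S.z1} : Set G)) = π.ker := by
    refine le_antisymm (fun x hx => ?_) fun x hx => ?_
    · rw [MonoidHom.mem_ker, ← Subgroup.mem_bot, ← hcen, mem_center_iff]
      intro y
      obtain ⟨w, rfl⟩ := hsurj y
      rw [← map_mul, ← map_mul, mem_center_iff.1 hx w]
    · rcases (hker x).1 hx with rfl | rfl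
      · exact one_mem _
      · exact mem_center_iff.2 fun w => (hC.central w).eq
  have hq : Cfsg.IsQuasisimple (centralizer ({S.z1} : Set G)) := by
    refine ⟨⟨eC' ▸ hperf⟩, ?_⟩
    exact ((QuotientGroup.quotientMulEquivOfEq hcC).trans
      (QuotientGroup.quotientKerEquivOfSurjective π hsurj)).isSimpleGroup
  exact Cfsg.Agent.S1713.result S.z1 hd hq (GaloisField 2 2) hF0
    ((QuotientGroup.quotientMulEquivOfEq (eN.symm.trans hNk)).trans
      (QuotientGroup.quotientKerEquivOfSurjective π hsurj)) hnwc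

end Setup

end CfsgLib.Recog.Fi22Cent
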